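import Cfsg.Agent.CharInduce.Induce
import Cfsg.Agent.H43.Linear
import Cfsg.Agent.S1536
import Cfsg.Prelude.Def_OddOrderChar
import Mathlib.GroupTheory.FiniteAbelian.Duality
import Mathlib.RingTheory.RootsOfUnity.AlgebraicallyClosed
import Mathlib.Analysis.Complex.Polynomial.Basic
import Mathlib.GroupTheory.Sylow
import Cfsg.Agent.PGroups.Basic

/-!
# The characters induced from the linear characters of a Frobenius kernel

For `H ⊴ L` with `C_L(h) ≤ H` for `h ∈ H#`: the non-principal linear characters of `H` fall into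
`([H:H'] - 1)/[L:H]` orbits under `L`, and induce to as many irreducible characters of `L` of degree `[L:H]`.
-/

set_option autoImplicit false

open scoped ComplexConjugate

namespace Cfsg.Agent.OddOrder.PF12

open Cfsg.Agent Cfsg.Agent.CharBasic

variable {L : Type*} [Group L] (H : Subgroup L)

/-- A linear character as a complex function. -/
abbrev linFun (l : H →* ℂˣ) : H → ℂ := fun h => (l h : ℂ)

theorem linFun_injective : Function.Injective (linFun H) := fun _ _ h =>
  MonoidHom.ext fun x => Units.ext (congrFun h x)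

theorem linFun_one : linFun H 1 = fun _ => (1 : ℂ) := by funext h; simp [linFun]

/-- `C_L(h) ≤ H` for every non-identity `h ∈ H`. -/
def IsKer : Prop := ∀ h ∈ H, h ≠ 1 → ∀ x : L, x * h = h * x → x ∈ H

theorem card_linear [Finite L] : Nat.card (H →* ℂˣ) = (commutator H).index := by
  have : NeZero (Monoid.exponent (Abelianization H) : ℂ) :=
    ⟨Nat.cast_ne_zero.mpr Monoid.exponent_ne_zero_of_finite⟩
  rw [Nat.card_congr Abelianization.lift, CommGroup.card_monoidHom_of_hasEnoughRootsOfUnity,
    Subgroup.index_eq_card]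
  rfl

instance finite_linear [Finite L] : Finite (H →* ℂˣ) :=
  Nat.finite_of_card_ne_zero (by rw [card_linear]; exact Subgroup.index_ne_zero_of_finite)

variable [hN : H.Normal]

theorem ker_coprime [Finite L] (hF : IsKer H) : (Nat.card H).Coprime H.index := by
  refine Nat.coprime_of_dvd fun p hp hpH hpi => ?_
  have : Fact p.Prime := ⟨hp⟩
  obtain ⟨⟨x, hx⟩, hox⟩ := exists_prime_orderOf_dvd_card' p hpH
  replace hox : orderOf x = p := by simpa [← Subgroup.orderOf_coe] using hox
  obtain ⟨P, hP⟩ := (IsPGroup.of_card (n := 1) (G := Subgroup.zpowers x)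
    (by rw [Nat.card_zpowers]; simpa using hox) : IsPGroup p _).exists_le_sylow
  have hxP := hP (Subgroup.mem_zpowers x)
  have hnot : ¬ (P : Subgroup L) ≤ H := fun hle =>
    P.not_dvd_index (hpi.trans (Subgroup.index_dvd_of_le hle))
  apply hnot
  have hne : H.subgroupOf (P : Subgroup L) ≠ ⊥ := by
    intro hb
    have h3 : (⟨x, hxP⟩ : (P : Subgroup L)) ∈ H.subgroupOf _ := hx
    rw [hb, Subgroup.mem_bot, Subtype.ext_iff] at h3
    simp only [Subgroup.coe_one] at h3
    rw [show x = 1 from h3, orderOf_one] at hox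
    exact hp.one_lt.ne hox
  have : Nontrivial ↥(P : Subgroup L) :=
    (H.subgroupOf (P : Subgroup L)).ne_bot_iff_exists_ne_one.1 hne |>.elim fun a ha =>
      ⟨⟨a, 1, fun e => ha (Subtype.ext e)⟩⟩
  have := (hN.subgroupOf (P : Subgroup L))
  obtain ⟨z, hz, hz1⟩ : ∃ z ∈ H.subgroupOf (P : Subgroup L) ⊓ Subgroup.center (P : Subgroup L), z ≠ 1 := by
    by_contra hc
    push Not at hc
    exact PGroups.inf_center_ne_bot P.isPGroup' _ hne ((Subgroup.eq_bot_iff_forall _).2 hc)
  intro q hq
  refine hF _ hz.1 (fun e => hz1 (Subtype.ext e)) q ?_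
  exact congrArg Subtype.val (Subgroup.mem_center_iff.1 hz.2 ⟨q, hq⟩)

/-- Conjugate of a linear character. -/
abbrev conjHom (l : H →* ℂˣ) (x : L) : H →* ℂˣ := l.comp (MulAut.conjNormal x).toMonoidHom

theorem conjFun_linFun (l : H →* ℂˣ) (x : L) :
    CharInduce.conjFun H (linFun H l) x = linFun H (conjHom H l x) := by
  rw [CharInduce.conjFun_eq_comp]
  rfl

theorem conjHom_of_mem (l : H →* ℂˣ) {x : L} (hx : x ∈ H) : conjHom H l x = l := by
  refine MonoidHom.ext fun h => ?_
  have : (MulAut.conjNormal x h : H) = ⟨x, hx⟩ * h * ⟨x, hx⟩⁻¹ := Subtype.ext rfl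
  simp [conjHom, this, mul_comm, mul_assoc]

theorem indFun_conjFun [Fintype L] (θ : H → ℂ) (x : L) :
    Cfsg.indFun H (CharInduce.conjFun H θ x) = Cfsg.indFun H θ := by
  funext g
  by_cases hg : g ∈ H
  · lift g to H using hg
    rw [CharInduce.indFun_normal_coe, CharInduce.indFun_normal_coe]
    congr 1
    simp only [CharInduce.conjFun_mul]
    exact Fintype.sum_equiv (Equiv.mulLeft x) _ _ fun y => rfl
  · rw [CharInduce.indFun_eq_zero_of_normal H _ hg, CharInduce.indFun_eq_zero_of_normal H _ hg]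

theorem classInner_ind [Fintype L] [Fintype H] (a b : H → ℂ) :
    Cfsg.classInner (Cfsg.indFun H a) (Cfsg.indFun H b) =
      (Nat.card H : ℂ)⁻¹ * ∑ x : L, Cfsg.classInner a (CharInduce.conjFun H b x) := by
  rw [CharInduce.classInner_indFun_left H a _ (CharInduce.isClassFunction_indFun _ _)]
  have : (fun n : H => Cfsg.indFun H b n) =
      (Nat.card H : ℂ)⁻¹ • ∑ x : L, CharInduce.conjFun H b x := by
    funext n
    rw [CharInduce.indFun_normal_coe, Pi.smul_apply, Finset.sum_apply, smul_eq_mul]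
  rw [this, classInner_smul_right, classInner_sum_right]
  simp

/-- The character induced from the principal character of `H`. -/
noncomputable def indOne [Fintype L] : L → ℂ := Cfsg.indFun H (fun _ => 1)

theorem indOne_of_mem [Fintype L] {x : L} (hx : x ∈ H) : indOne H x = H.index := by
  lift x to H using hx
  rw [indOne, CharInduce.indFun_normal_coe]
  simp only [CharInduce.conjFun, Finset.sum_const, Finset.card_univ, nsmul_eq_mul, mul_one,
    ← Nat.card_eq_fintype_card]
  rw [← H.card_mul_index, Nat.cast_mul, ← mul_assoc,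
    inv_mul_cancel₀ (CharInduce.card_ne_zero_complex _), one_mul]

theorem indOne_of_not_mem [Fintype L] {x : L} (hx : x ∉ H) : indOne H x = 0 :=
  CharInduce.indFun_eq_zero_of_normal H _ hx

theorem classInner_indOne [Fintype L] : Cfsg.classInner (indOne H) (indOne H) = H.index := by
  have : Fintype H := Fintype.ofFinite H
  rw [indOne, classInner_ind]
  have h : ∀ x : L, CharInduce.conjFun H (fun _ => (1 : ℂ)) x = fun _ => 1 := fun x => rfl
  simp only [h, classInner_irr_self isIrrCharacter_one, Finset.sum_const, Finset.card_univ,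
    nsmul_eq_mul, mul_one, ← Nat.card_eq_fintype_card]
  rw [← H.card_mul_index, Nat.cast_mul, ← mul_assoc,
    inv_mul_cancel₀ (CharInduce.card_ne_zero_complex _), one_mul]

theorem conjHom_stab [Finite L] (hF : IsKer H) {m : H →* ℂˣ} (hm : m ≠ 1) {x : L}
    (hx : conjHom H m x = m) : x ∈ H := by
  have : Fintype L := Fintype.ofFinite L
  have : Fintype H := Fintype.ofFinite H
  have hirr : Cfsg.IsIrrCharacter H (linFun H m) := CharInduce.isIrrCharacter_hom m
  have hne : linFun H m ≠ fun _ => (1 : ℂ) := fun e =>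
    hm (linFun_injective H (e.trans (linFun_one H).symm))
  obtain ⟨h, hh, h1, hc⟩ := (Cfsg.Agent.S1536.result H (ker_coprime H hF) x).1
    ⟨linFun H m, hirr, hne, by
      have e := conjFun_linFun H m x
      rw [hx] at e
      exact e⟩
  exact hF h hh h1 x hc

theorem count [Fintype L] (l m : H →* ℂˣ) :
    Cfsg.classInner (Cfsg.indFun H (linFun H l)) (Cfsg.indFun H (linFun H m)) =
      (Nat.card H : ℂ)⁻¹ * (Nat.card {x : L // conjHom H m x = l} : ℂ) := by
  classical
  have : Fintype H := Fintype.ofFinite H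
  rw [classInner_ind]
  congr 1
  simp only [conjFun_linFun, H43.linear_orth, Finset.sum_boole]
  rw [Nat.card_eq_fintype_card, Fintype.card_subtype]
  congr 2
  ext x
  simp [eq_comm]

theorem inner_self_ind [Fintype L] (hF : IsKer H) {l : H →* ℂˣ} (hl : l ≠ 1) :
    Cfsg.classInner (Cfsg.indFun H (linFun H l)) (Cfsg.indFun H (linFun H l)) = 1 := by
  rw [count, Nat.card_congr (Equiv.subtypeEquivRight fun x =>
    ⟨conjHom_stab H hF hl, conjHom_of_mem H l⟩)]
  exact inv_mul_cancel₀ (CharInduce.card_ne_zero_complex _)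

theorem inner_ind_ne [Fintype L] {l m : H →* ℂˣ}
    (hne : Cfsg.indFun H (linFun H l) ≠ Cfsg.indFun H (linFun H m)) :
    Cfsg.classInner (Cfsg.indFun H (linFun H l)) (Cfsg.indFun H (linFun H m)) = 0 := by
  rw [count]
  have : IsEmpty {x : L // conjHom H m x = l} := ⟨fun x => hne (by
    rw [← x.2, ← conjFun_linFun, indFun_conjFun])⟩
  simp

theorem fiber_card [Fintype L] (hF : IsKer H) {l : H →* ℂˣ} (hl : l ≠ 1) :
    Nat.card {m : H →* ℂˣ // Cfsg.indFun H (linFun H m) = Cfsg.indFun H (linFun H l)} = H.index := by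
  classical
  set F := {m : H →* ℂˣ // Cfsg.indFun H (linFun H m) = Cfsg.indFun H (linFun H l)}
  let f : L → F := fun x => ⟨conjHom H l x, by rw [← conjFun_linFun, indFun_conjFun]⟩
  have hfib : ∀ m : F, Nat.card {x : L // f x = m} = Nat.card H := by
    intro m
    have h := count H m.1 l
    rw [m.2, inner_self_ind H hF hl, eq_comm, inv_mul_eq_one₀ (CharInduce.card_ne_zero_complex _),
      Nat.cast_inj] at h
    rw [h]
    exact Nat.card_congr (Equiv.subtypeEquivRight fun x => Subtype.ext_iff)
  have : Fintype (H →* ℂˣ) := Fintype.ofFinite _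
  have h := Nat.card_congr (Equiv.sigmaFiberEquiv f).symm
  rw [Nat.card_sigma, Finset.sum_congr rfl (fun m _ => hfib m), Finset.sum_const, Finset.card_univ,
    smul_eq_mul, ← H.card_mul_index, mul_comm (Fintype.card F)] at h
  rw [Nat.card_eq_fintype_card]
  exact (Nat.eq_of_mul_eq_mul_left Nat.card_pos h).symm

theorem conjFun_ind [Fintype L] (l : H →* ℂˣ) :
    Cfsg.conjFun (Cfsg.indFun H (linFun H l)) = Cfsg.indFun H (linFun H l⁻¹) := by
  funext g
  rw [Cfsg.conjFun, CharInduce.conj_indFun]
  congr 1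
  funext h
  rw [linFun, H43.linear_conj, map_inv]
  rfl

theorem ind_inv_ne [Fintype L] (hF : IsKer H) (hodd : Odd (Nat.card L)) {l : H →* ℂˣ} (hl : l ≠ 1) :
    Cfsg.indFun H (linFun H l⁻¹) ≠ Cfsg.indFun H (linFun H l) := by
  classical
  intro e
  have h := count H l⁻¹ l
  rw [e, inner_self_ind H hF hl] at h
  have hpos : Nat.card {x : L // conjHom H l x = l⁻¹} ≠ 0 := fun h0 => by
    rw [h0, Nat.cast_zero, mul_zero] at h; exact one_ne_zero h
  obtain ⟨⟨⟨x, hx⟩⟩, -⟩ := Nat.card_ne_zero.1 hpos
  have hx2 : conjHom H l (x * x) = l := by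
    refine linFun_injective H ?_
    rw [← conjFun_linFun, ← CharInduce.conjFun_mul, conjFun_linFun, conjFun_linFun]
    have e2 : conjHom H l⁻¹ x = (conjHom H l x)⁻¹ := MonoidHom.ext fun h => rfl
    rw [hx, e2, hx]
    congr 1
  have hxx := conjHom_stab H hF hl hx2
  have hxH : x ∈ H := by
    obtain ⟨k, hk⟩ := hodd.of_dvd_nat (orderOf_dvd_natCard x)
    have : x = (x * x) ^ (k + 1) := by
      rw [← sq, ← pow_mul, show 2 * (k + 1) = orderOf x + 1 by omega, pow_succ,
        pow_orderOf_eq_one, one_mul]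
    rw [this]
    exact H.pow_mem hxx _
  rw [conjHom_of_mem H l hxH] at hx
  apply hl
  refine MonoidHom.ext fun h => ?_
  have h2 : l h * l h = 1 := by
    nth_rewrite 2 [hx]
    simp
  obtain ⟨k, hk⟩ := hodd.of_dvd_nat ((orderOf_dvd_natCard (h : L)))
  have hh : h = (h * h) ^ (k + 1) := by
    rw [← sq, ← pow_mul, show 2 * (k + 1) = orderOf h + 1 by
      rw [← Subgroup.orderOf_coe h]; omega, pow_succ, pow_orderOf_eq_one, one_mul]
  rw [hh, map_pow, map_mul, h2, one_pow]
  rfl

/-- The family of characters induced from the non-principal linear characters of the kernel. -/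
theorem exists_family [Fintype L] (hF : IsKer H) (hodd : Odd (Nat.card L))
    (hg : (commutator H).index ≠ 1) :
    ∃ n : ℕ, 2 ≤ n ∧ Even n ∧ (commutator H).index = n * H.index + 1 ∧
      ∃ ξ : Fin n → L → ℂ, (∀ k, Cfsg.IsCharacter L (ξ k)) ∧ (∀ k, ξ k 1 = H.index) ∧
        (∀ k x, x ∉ H → ξ k x = 0) ∧
        (∀ k j, Cfsg.classInner (ξ k) (ξ j) = if k = j then 1 else 0) ∧
        (∀ k, Cfsg.classInner (ξ k) (indOne H) = 0) ∧
        ∀ k, ∃ j, j ≠ k ∧ Cfsg.conjFun (ξ k) = ξ j := by
  classical
  have : Fintype (H →* ℂˣ) := Fintype.ofFinite _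
  let F : (H →* ℂˣ) → (L → ℂ) := fun l => Cfsg.indFun H (linFun H l)
  set T : Finset (L → ℂ) := (Finset.univ.erase (1 : H →* ℂˣ)).image F with hT
  set n := T.card with hn
  have hmem : ∀ φ ∈ T, ∃ l : H →* ℂˣ, l ≠ 1 ∧ F l = φ := fun φ hφ => by
    simpa [hT] using hφ
  -- non-principal characters do not induce to the same function as the principal one
  have hone : ∀ l : H →* ℂˣ, l ≠ 1 → F l ≠ F 1 := by
    intro l hl e
    have h := count H l 1
    rw [show Cfsg.indFun H (linFun H 1) = F l from e.symm, inner_self_ind H hF hl] at h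
    have : IsEmpty {x : L // conjHom H 1 x = l} :=
      ⟨fun x => hl (x.2.symm.trans (MonoidHom.ext fun _ => rfl))⟩
    simp at h
  have hcard : (commutator H).index = n * H.index + 1 := by
    rw [← card_linear H, Nat.card_eq_fintype_card, ← Finset.card_univ,
      ← Finset.card_erase_add_one (Finset.mem_univ (1 : H →* ℂˣ)),
      Finset.card_eq_sum_card_image F, Finset.sum_const_nat]
    intro φ hφ
    obtain ⟨l, hl, rfl⟩ := hmem φ hφ
    rw [← fiber_card H hF hl, Nat.card_eq_fintype_card, Fintype.card_subtype]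
    congr 1
    ext m
    simp only [Finset.mem_filter, Finset.mem_erase, Finset.mem_univ, and_true, true_and]
    exact ⟨fun h => h.2, fun h => ⟨fun h1 => hone l hl (h.symm.trans (congrArg F h1)), h⟩⟩
  have hi : Odd H.index := hodd.of_dvd_nat H.index_dvd_card
  have hgodd : Odd (commutator H).index :=
    hodd.of_dvd_nat ((commutator H).index_dvd_card.trans H.card_subgroup_dvd_card)
  have heven : Even n := by
    rw [hcard] at hgodd
    simpa [Nat.odd_add_one, Nat.not_odd_iff_even, Nat.even_mul, Nat.not_even_iff_odd.2 hi] using hgodd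
  have hn0 : n ≠ 0 := fun h0 => hg (by rw [hcard, h0]; simp)
  refine ⟨n, ?_, heven, hcard, fun k => (T.equivFin.symm k : L → ℂ), ?_, ?_, ?_, ?_, ?_, ?_⟩
  · obtain ⟨r, hr⟩ := heven; omega
  · intro k
    obtain ⟨l, -, h⟩ := hmem _ (T.equivFin.symm k).2
    simp only [← h]
    exact CharInduce.IsChar.ind H (CharInduce.isCharacter_hom l)
  · intro k
    obtain ⟨l, -, h⟩ := hmem _ (T.equivFin.symm k).2
    simp only [← h]
    simp [F, CharInduce.indFun_one, linFun]
  · intro k x hx
    obtain ⟨l, -, h⟩ := hmem _ (T.equivFin.symm k).2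
    simp only [← h]
    exact CharInduce.indFun_eq_zero_of_normal H _ hx
  · intro k j
    obtain ⟨l, hl, h⟩ := hmem _ (T.equivFin.symm k).2
    split_ifs with hkj
    · subst hkj; simp only [← h]; exact inner_self_ind H hF hl
    · obtain ⟨m, -, h'⟩ := hmem _ (T.equivFin.symm j).2
      simp only [← h, ← h']
      refine inner_ind_ne H fun e => hkj ?_
      exact T.equivFin.symm.injective (Subtype.ext (h.symm.trans (e.trans h')))
  · intro k
    obtain ⟨l, hl, h⟩ := hmem _ (T.equivFin.symm k).2
    simp only [← h]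
    have := inner_ind_ne H (l := l) (m := 1) (hone l hl)
    rwa [linFun_one] at this
  · intro k
    obtain ⟨l, hl, h⟩ := hmem _ (T.equivFin.symm k).2
    have hl' : l⁻¹ ≠ 1 := fun e => hl (MonoidHom.ext fun x => by
      simpa using DFunLike.congr_fun e x)
    have hφ : F l⁻¹ ∈ T := Finset.mem_image.2 ⟨_, Finset.mem_erase.2 ⟨hl', Finset.mem_univ _⟩, rfl⟩
    refine ⟨T.equivFin ⟨_, hφ⟩, fun e => ind_inv_ne H hF hodd hl ?_, ?_⟩
    · rw [← e, Equiv.symm_apply_apply] at h
      exact h.symm
    · simp only [Equiv.symm_apply_apply]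
      simp only [← h]
      exact conjFun_ind H l

end Cfsg.Agent.OddOrder.PF12
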