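import Cfsg.Agent.H43.Virtual
import Cfsg.Agent.H43.Galois
import Cfsg.Agent.CharInduce.Ops
import Cfsg.Prelude.Def_OddOrderChar

/-!
# Real virtual characters of a group of odd order

If one of two real virtual characters is orthogonal to the principal character, their inner product is even.
-/

set_option autoImplicit false

open scoped ComplexConjugate

namespace Cfsg.Agent.OddOrder.PF12

open Cfsg.Agent Cfsg.Agent.CharBasic

variable {G : Type*} [Group G] [Fintype G]

theorem sum_eq_add_two_mul (hodd : Odd (Nat.card G)) (f : G → ℂ) (hint : ∀ g, IsIntegral ℤ (f g))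
    (hinv : ∀ g, f g⁻¹ = f g) : ∃ r : ℂ, IsIntegral ℤ r ∧ ∑ g, f g = f 1 + 2 * r := by
  classical
  let key : G → ℕ := fun g => (Fintype.equivFin G g : ℕ)
  have hkey : ∀ g h, key g = key h → g = h := fun g h e =>
    (Fintype.equivFin G).injective (Fin.ext e)
  have hfix : ∀ g : G, g⁻¹ = g → g = 1 := by
    intro g hg
    obtain ⟨k, hk⟩ := hodd.of_dvd_nat (orderOf_dvd_natCard g)
    have h2 : g ^ 2 = 1 := by rw [sq]; nth_rewrite 1 [← hg]; exact inv_mul_cancel g
    have := pow_orderOf_eq_one g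
    rwa [hk, pow_succ, pow_mul, h2, one_pow, one_mul] at this
  set s := (Finset.univ.erase (1 : G)).filter fun g => key g < key g⁻¹
  refine ⟨∑ g ∈ s, f g, IsIntegral.sum _ fun g _ => hint g, ?_⟩
  rw [← Finset.add_sum_erase _ f (Finset.mem_univ (1 : G)), two_mul,
    ← Finset.sum_filter_add_sum_filter_not (Finset.univ.erase (1 : G)) (fun g => key g < key g⁻¹)]
  congr 1
  congr 1
  refine Finset.sum_nbij' (·⁻¹) (·⁻¹) ?_ ?_ (fun g _ => inv_inv g) (fun g _ => inv_inv g)
    (fun g _ => (hinv g).symm)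
  · intro g hg
    simp only [Finset.coe_filter, Finset.mem_filter, Finset.mem_erase, Finset.mem_univ, and_true,
      Set.mem_setOf_eq, s] at hg ⊢
    refine ⟨inv_ne_one.2 hg.1, ?_⟩
    rw [inv_inv]
    exact lt_of_le_of_ne (not_lt.1 hg.2) fun e => hg.1 (hfix g (hkey _ _ e))
  · intro g hg
    simp only [Finset.coe_filter, Finset.mem_filter, Finset.mem_erase, Finset.mem_univ, and_true,
      Set.mem_setOf_eq, s] at hg ⊢
    exact ⟨inv_ne_one.2 hg.1, by rw [inv_inv]; exact not_lt.2 hg.2.le⟩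

theorem gen_real_apply {θ : G → ℂ} (hθ : Cfsg.IsGeneralizedCharacter G θ)
    (hr : Cfsg.conjFun θ = θ) (g : G) : θ g⁻¹ = θ g := by
  rw [H43.gen_inv_apply hθ]
  exact congrFun hr g

theorem even_inner (hodd : Odd (Nat.card G)) {θ η : G → ℂ} (hθ : Cfsg.IsGeneralizedCharacter G θ)
    (hη : Cfsg.IsGeneralizedCharacter G η) (hθr : Cfsg.conjFun θ = θ) (hηr : Cfsg.conjFun η = η)
    (h1 : Cfsg.classInner θ (fun _ => 1) = 0) :
    ∃ k : ℤ, Even k ∧ Cfsg.classInner θ η = k := by
  obtain ⟨k, hk⟩ := H43.gen_inner_int hθ hη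
  refine ⟨k, ?_, hk⟩
  obtain ⟨r₁, hr₁, e₁⟩ := sum_eq_add_two_mul hodd θ (H43.gen_isIntegral hθ) (gen_real_apply hθ hθr)
  obtain ⟨r₂, hr₂, e₂⟩ := sum_eq_add_two_mul hodd (fun g => θ g * η g)
    (fun g => (H43.gen_isIntegral hθ g).mul (H43.gen_isIntegral hη g))
    (fun g => by rw [gen_real_apply hθ hθr, gen_real_apply hη hηr])
  have hG : (Nat.card G : ℂ) ≠ 0 := Nat.cast_ne_zero.2 Nat.card_pos.ne'
  have s₁ : θ 1 = -(2 * r₁) := by
    have : ∑ g, θ g = 0 := by
      rw [classInner_def] at h1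
      simpa [hG] using h1
    rw [e₁] at this
    exact eq_neg_of_add_eq_zero_left this
  have s₂ : ∑ g, θ g * η g = (Nat.card G : ℂ) * k := by
    rw [← hk, classInner_def, mul_inv_cancel_left₀ hG]
    refine Finset.sum_congr rfl fun g _ => ?_
    rw [show conj (η g) = η g from congrFun hηr g]
  have hz : IsIntegral ℤ (((Nat.card G : ℂ) * k) / 2) := by
    have : ((Nat.card G : ℂ) * k) / 2 = r₂ - r₁ * η 1 := by rw [← s₂, e₂, s₁]; ring
    rw [this]
    exact hr₂.sub (hr₁.mul (H43.gen_isIntegral hη 1))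
  obtain ⟨z, hz'⟩ := H43.int_of_rat_integral hz (q := ((Nat.card G : ℤ) * k : ℚ) / 2) (by push_cast; rfl)
  have : ((Nat.card G : ℤ) * k) = 2 * z := by
    have h : ((Nat.card G : ℂ) * k) = 2 * z := by rw [← hz']; ring
    exact_mod_cast h
  have hGz : Odd (Nat.card G : ℤ) := by exact_mod_cast hodd
  have : Even ((Nat.card G : ℤ) * k) := this ▸ even_two_mul z
  exact (Int.even_mul.1 this).resolve_left (Int.not_even_iff_odd.2 hGz)

end Cfsg.Agent.OddOrder.PF12
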