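import Mathlib.Data.Real.Basic
import Mathlib.Algebra.BigOperators.Fin
import Mathlib.Algebra.Order.BigOperators.Group.Finset
import Mathlib.Tactic.FieldSimp
import Mathlib.Tactic.Linarith
import Mathlib.Tactic.NormNum
import Mathlib.Tactic.Positivity
import Mathlib.Tactic.IntervalCases
import Mathlib.Tactic.Ring
import Mathlib.Tactic.GCongr

/-!
# The inequality behind Peterfalvi (7.11)

`e i` indices, `g i = n i * e i + 1` orders of abelianised kernels, `h i` orders of kernels,
`c i j` the values linking the families.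
-/

set_option autoImplicit false

namespace Cfsg.Agent.OddOrder.PF12

open Finset

variable {ι : Type*} [Fintype ι] [DecidableEq ι]

/-- The weight of a kernel. -/
noncomputable def weight (e h : ℕ) : ℝ := (1 - 1 / (h : ℝ)) / e

theorem weight_le (e h : ℕ) : weight e h ≤ 1 / e := by
  unfold weight
  refine div_le_div_of_nonneg_right ?_ (by positivity)
  have : (0 : ℝ) ≤ 1 / h := by positivity
  linarith

theorem weight_exact {e n g : ℕ} (he : 0 < e) (hg : g = n * e + 1) : weight e g = n / g := by
  have : (0 : ℝ) < e := by exact_mod_cast he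
  unfold weight
  subst hg
  push_cast
  field_simp
  ring

theorem inv_e_eq {e n g : ℕ} (he : 0 < e) (hn : 0 < n) (hg : g = n * e + 1) :
    (1 : ℝ) / e = n / ((g : ℝ) - 1) := by
  have : (0 : ℝ) < e := by exact_mod_cast he
  have : (0 : ℝ) < n := by exact_mod_cast hn
  subst hg
  push_cast
  rw [add_sub_cancel_right]
  field_simp

theorem partition_arith [Nonempty ι] (e g h n : ι → ℕ) (N : ℝ) (hN : 0 < N)
    (he : ∀ i, Odd (e i) ∧ 3 ≤ e i) (hn : ∀ i, Even (n i) ∧ 2 ≤ n i)
    (hg : ∀ i, g i = n i * e i + 1) (hgh : ∀ i, g i ≤ h i) (hinj : Function.Injective g)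
    (hsq : ∀ i, g i ∈ ({7, 11, 13, 15, 19, 23} : Finset ℕ) → h i = g i)
    (c : ι → ι → Prop) [DecidableRel c] (hc : ∀ i j, i ≠ j → c i j ∨ c j i)
    (hK : ∀ i, ∑ j ∈ (univ.erase i).filter (fun j => c i j), (n j : ℝ) / g j ≤ (e i : ℝ) / g i - 1 / N)
    (hJ : ∀ i, ∑ j ∈ (univ.erase i).filter (fun j => c j i), n j + 1 ≤ e i)
    (htot : ∑ i, weight (e i) (h i) = 1 - 1 / N) : False := by
  obtain ⟨i, -, hmin⟩ := exists_min_image (univ : Finset ι) g univ_nonempty
  obtain ⟨⟨a, ha⟩, he3⟩ := he i
  obtain ⟨⟨b, hb⟩, hn2⟩ := hn i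
  set E : ℝ := (e i : ℝ) with hEdef
  set Gi : ℝ := (g i : ℝ) with hGdef
  have hGE : Gi = n i * E + 1 := by rw [hGdef, hEdef, hg i]; push_cast; ring
  have hE : 3 ≤ E := by rw [hEdef]; exact_mod_cast he3
  have hgap2 : ∀ j, j ≠ i → g i + 2 ≤ g j ∧ g j ≠ g i + 3 := by
    intro j hj
    have h1 := hmin j (mem_univ j)
    have h2 : g i ≠ g j := fun e' => hj (hinj e').symm
    obtain ⟨⟨r, hr⟩, -⟩ := hn j
    have o1 : g j = 2 * (r * e j) + 1 := by rw [hg j, hr]; ring
    have o2 : g i = 2 * (b * e i) + 1 := by rw [hg i, hb]; ring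
    omega
  have hgap : ∀ j, j ≠ i → g i + 2 ≤ g j := fun j hj => (hgap2 j hj).1
  have hGpos : 0 < Gi := by rw [hGE]; positivity
  -- the part linked through `c i j`
  have hKw : ∑ j ∈ (univ.erase i).filter (fun j => c i j), weight (e j) (h j)
      ≤ E / Gi * ((Gi + 2) / (Gi + 1)) - 1 / N := by
    calc ∑ j ∈ (univ.erase i).filter (fun j => c i j), weight (e j) (h j)
        ≤ ∑ j ∈ (univ.erase i).filter (fun j => c i j), (n j : ℝ) / g j * ((Gi + 2) / (Gi + 1)) := by
          refine sum_le_sum fun j hj => (weight_le _ _).trans ?_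
          have hji : j ≠ i := ne_of_mem_erase (mem_filter.1 hj).1
          have hgj : Gi + 2 ≤ (g j : ℝ) := by rw [hGdef]; exact_mod_cast hgap j hji
          rw [inv_e_eq (by have := (he j).2; omega) (by have := (hn j).2; omega) (hg j),
            div_mul_div_comm, div_le_div_iff₀ (by linarith) (mul_pos (by linarith) (by linarith))]
          have : (0 : ℝ) ≤ n j := by positivity
          nlinarith
      _ = (∑ j ∈ (univ.erase i).filter (fun j => c i j), (n j : ℝ) / g j) * ((Gi + 2) / (Gi + 1)) := by
          rw [sum_mul]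
      _ ≤ (E / Gi - 1 / N) * ((Gi + 2) / (Gi + 1)) :=
          mul_le_mul_of_nonneg_right (hK i) (by positivity)
      _ ≤ E / Gi * ((Gi + 2) / (Gi + 1)) - 1 / N := by
          have h1 : (1 : ℝ) ≤ (Gi + 2) / (Gi + 1) := by rw [le_div_iff₀ (by linarith)]; linarith
          have h2 : 0 < 1 / N := by positivity
          nlinarith
  -- reduction to a bound on the part linked through `c j i`
  have hmain : ∀ C : ℝ, 0 ≤ C → ∀ δ : ι → ℝ, ∀ D W : ℝ, weight (e i) (h i) ≤ W →
      ∑ j ∈ (univ.erase i).filter (fun j => c j i), δ j ≤ D →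
      (∀ j ∈ (univ.erase i).filter (fun j => c j i), weight (e j) (h j) ≤ n j * C + δ j) →
      1 ≤ W + E / Gi * ((Gi + 2) / (Gi + 1)) + ((E - 1) * C + D) := by
    intro C hC δ D W hW hD hb
    have hJw : ∑ j ∈ (univ.erase i).filter (fun j => c j i), weight (e j) (h j) ≤ (E - 1) * C + D := by
      refine (sum_le_sum hb).trans ?_
      rw [sum_add_distrib, ← sum_mul]
      have : ∑ j ∈ (univ.erase i).filter (fun j => c j i), (n j : ℝ) + 1 ≤ E := by
        rw [hEdef]; exact_mod_cast hJ i
      nlinarith
    have hsplit : ∑ j ∈ univ.erase i, weight (e j) (h j) ≤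
        ∑ j ∈ (univ.erase i).filter (fun j => c i j), weight (e j) (h j) +
        ∑ j ∈ (univ.erase i).filter (fun j => c j i), weight (e j) (h j) := by
      rw [sum_filter, sum_filter, ← sum_add_distrib]
      refine sum_le_sum fun j hj => ?_
      have hw : 0 ≤ weight (e j) (h j) := by
        refine div_nonneg ?_ (by positivity)
        have : (1 : ℝ) ≤ h j := by
          have := hgh j
          have := hg j
          exact_mod_cast (by omega : 1 ≤ h j)
        rw [sub_nonneg, div_le_one (by linarith)]
        exact this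
      rcases hc i j (ne_of_mem_erase hj).symm with hh | hh <;> split_ifs <;> linarith
    rw [← add_sum_erase _ _ (mem_univ i)] at htot
    linarith
  have hgapR : ∀ j ∈ (univ.erase i).filter (fun j => c j i), Gi + 2 ≤ (g j : ℝ) := by
    intro j hj
    rw [hGdef]; exact_mod_cast hgap j (ne_of_mem_erase (mem_filter.1 hj).1)
  have hJb : ∀ j ∈ (univ.erase i).filter (fun j => c j i), n j + 1 ≤ e i := fun j hj =>
    le_trans (Nat.add_le_add_right (single_le_sum (fun _ _ => Nat.zero_le _) hj) 1) (hJ i)
  by_cases h4 : 4 ≤ n i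
  · -- at least four characters in the family
    have hG4 : 4 * E + 1 ≤ Gi := by
      rw [hGE]
      have : (4 : ℝ) ≤ n i := by exact_mod_cast h4
      nlinarith
    have := hmain (1 / (Gi + 1)) (by positivity) 0 0 (1 / E) (weight_le _ _) (by simp) fun j hj => by
      rw [Pi.zero_apply, add_zero]
      refine (weight_le _ _).trans ?_
      rw [inv_e_eq (by have := (he j).2; omega) (by have := (hn j).2; omega) (hg j), mul_one_div]
      have := hgapR j hj
      exact div_le_div_of_nonneg_left (by positivity) (by linarith) (by linarith)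
    have e1 : E / Gi * ((Gi + 2) / (Gi + 1)) ≤ (E + 1) / (Gi + 1) := by
      rw [div_mul_div_comm, div_le_div_iff₀ (by positivity) (by positivity)]
      have : 0 ≤ (Gi - 2 * E) * (Gi + 1) := mul_nonneg (by linarith) (by linarith)
      nlinarith
    have e2 : (E + 1) / (Gi + 1) + (E - 1) * (1 / (Gi + 1)) ≤ 1 / 2 := by
      rw [mul_one_div, ← add_div, div_le_iff₀ (by positivity)]
      linarith
    have e3 : 1 / E ≤ 1 / 3 := by gcongr
    linarith
  have hn' : n i = 2 := by omega
  have hGi : Gi = 2 * E + 1 := by rw [hGE, hn']; norm_num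
  by_cases hsmall : e i ≤ 11
  · have hge : g i = 2 * e i + 1 := by rw [hg i, hn']
    have hhg : h i = g i := by
      refine hsq i ?_
      have h5 : e i = 3 ∨ e i = 5 ∨ e i = 7 ∨ e i = 9 ∨ e i = 11 := by omega
      rcases h5 with h5 | h5 | h5 | h5 | h5 <;> rw [hge, h5] <;> decide
    have hwi : weight (e i) (h i) ≤ 2 / Gi := by
      rw [hhg, weight_exact (n := 2) (by omega) (by omega)]
      norm_num [hGdef]
    by_cases h3 : e i = 3
    · have hE3 : E = 3 := by rw [hEdef, h3]; norm_num
      have := hmain (1 / 10) (by norm_num) 0 0 (2 / Gi) hwi (by simp) fun j hj => by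
        have h1 := hJb j hj
        have h2 := (hn j).2
        have hnj : n j = 2 := by omega
        have := hgap j (ne_of_mem_erase (mem_filter.1 hj).1)
        have := hg j
        obtain ⟨⟨r, hr⟩, -⟩ := he j
        have h5 : 5 ≤ e j := by
          have hgj2 : g j = 2 * e j + 1 := by rw [hg j, hnj]
          omega
        refine (weight_le _ _).trans ?_
        rw [Pi.zero_apply, add_zero, hnj]
        refine (one_div_le_one_div_of_le (by norm_num) (by exact_mod_cast h5 : (5 : ℝ) ≤ e j)).trans ?_
        norm_num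
      rw [hGi, hE3] at this
      norm_num at this
    by_cases h5 : e i = 5
    · have hE5 : E = 5 := by rw [hEdef, h5]; norm_num
      have := hmain (1 / 13) (by norm_num) 0 0 (2 / Gi) hwi (by simp) fun j hj => by
        have h1 := hJb j hj
        have h2 := (hn j).2
        obtain ⟨r, hr⟩ := (hn j).1
        have := hgap j (ne_of_mem_erase (mem_filter.1 hj).1)
        have hgj := hg j
        obtain ⟨⟨s, hs⟩, he3'⟩ := he j
        rw [Pi.zero_apply, add_zero]
        have hnj : n j = 2 ∨ n j = 4 := by omega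
        rcases hnj with hnj | hnj
        · have h7 : 7 ≤ e j := by
            have hgj2 : g j = 2 * e j + 1 := by rw [hgj, hnj]
            omega
          refine (weight_le _ _).trans ?_
          rw [hnj]
          refine (one_div_le_one_div_of_le (by norm_num) (by exact_mod_cast h7 : (7 : ℝ) ≤ e j)).trans ?_
          norm_num
        · by_cases h13 : e j = 3
          · have hg13 : g j = 13 := by rw [hgj, hnj, h13]
            rw [hsq j (by rw [hg13]; decide), weight_exact (n := n j) (by omega) hgj, hg13, hnj]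
            norm_num
          · have h55 : 5 ≤ e j := by omega
            refine (weight_le _ _).trans ?_
            rw [hnj]
            refine (one_div_le_one_div_of_le (by norm_num) (by exact_mod_cast h55 : (5 : ℝ) ≤ e j)).trans ?_
            norm_num
      rw [hGi, hE5] at this
      norm_num at this
    have := hmain (1 / (Gi + 3)) (by positivity)
      (fun j => if g j = g i + 2 then (2 / 3) / (Gi + 3) else 0) ((2 / 3) / (Gi + 3)) (2 / Gi) hwi
      (bound_delta g hinj _ _ (by positivity)) (fun j hj => bound_J (he j).2 (hn j).2 (hg j)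
        (hgap2 j (ne_of_mem_erase (mem_filter.1 hj).1)) rfl)
    have h7 : e i = 7 ∨ e i = 9 ∨ e i = 11 := by omega
    rcases h7 with h7 | h7 | h7 <;>
      (have hE7 : E = (e i : ℝ) := hEdef; rw [h7] at hE7; rw [hGi, hE7] at this; norm_num at this)
  · have := hmain (1 / (Gi + 3)) (by positivity)
      (fun j => if g j = g i + 2 then (2 / 3) / (Gi + 3) else 0) ((2 / 3) / (Gi + 3)) (1 / E)
      (weight_le _ _)
      (bound_delta g hinj _ _ (by positivity)) (fun j hj => bound_J (he j).2 (hn j).2 (hg j)
        (hgap2 j (ne_of_mem_erase (mem_filter.1 hj).1)) rfl)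
    have h13 : (13 : ℝ) ≤ E := by rw [hEdef]; exact_mod_cast (by omega : 13 ≤ e i)
    rw [hGi] at this
    have e1 : E / (2 * E + 1) * ((2 * E + 1 + 2) / (2 * E + 1 + 1)) ≤ 1 / 2 := by
      rw [div_mul_div_comm, div_le_iff₀ (by positivity)]
      nlinarith
    have e2 : 1 / E + ((E - 1) * (1 / (2 * E + 1 + 3)) + 2 / 3 / (2 * E + 1 + 3)) < 1 / 2 := by
      rw [mul_one_div, ← add_div, div_add_div _ _ (by positivity) (by positivity),
        div_lt_iff₀ (by positivity)]
      nlinarith
    linarith
where
  bound_delta {ι : Type _} [Fintype ι] (g : ι → ℕ) (hinj : Function.Injective g) (s : Finset ι) (k : ℕ)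
      {x : ℝ} (hx : 0 ≤ x) : ∑ j ∈ s, (if g j = k then x else 0) ≤ x := by
    rw [← sum_filter, sum_const, nsmul_eq_mul]
    have : (s.filter fun j => g j = k).card ≤ 1 := Finset.card_le_one.2 fun a ha b hb =>
      hinj ((mem_filter.1 ha).2.trans (mem_filter.1 hb).2.symm)
    exact mul_le_of_le_one_left hx (by exact_mod_cast this)
  bound_J {e g h n k : ℕ} {K : ℝ} (he : 3 ≤ e) (hn : 2 ≤ n) (hg : g = n * e + 1) (hgap : k + 2 ≤ g ∧ g ≠ k + 3)
      (hK : K = (k : ℝ)) :
      weight e h ≤ n * (1 / (K + 3)) + (if g = k + 2 then (2 / 3) / (K + 3) else 0) := by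
    subst hK
    have hk : (0 : ℝ) ≤ k := by positivity
    refine (weight_le _ _).trans ?_
    rw [inv_e_eq (by omega) (by omega) hg, mul_one_div]
    split_ifs with hgk
    · have h3 : 3 * (n : ℝ) ≤ k + 1 := by
        have : 3 * n ≤ k + 1 := by
          have : n * 3 ≤ n * e := Nat.mul_le_mul_left n he
          omega
        exact_mod_cast this
      rw [← add_div, hgk]
      push_cast
      rw [show (k : ℝ) + 2 - 1 = k + 1 by ring, div_le_div_iff₀ (by positivity) (by positivity)]
      nlinarith
    · rw [add_zero]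
      obtain ⟨h2, h3⟩ := hgap
      refine div_le_div_of_nonneg_left (by positivity) (by positivity) ?_
      have : (k : ℝ) + 4 ≤ g := by exact_mod_cast (by omega : k + 4 ≤ g)
      linarith

end Cfsg.Agent.OddOrder.PF12
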