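import Cfsg.Prelude.Def_OddOrderLocal
import Cfsg.Prelude.Def_OddOrderChar
import Cfsg.Agent.OddOrder.PF12.KernelChars
import Cfsg.Agent.OddOrder.PF12.Parity
import Cfsg.Agent.OddOrder.PF12.PartitionArith
import Cfsg.Agent.CharInduce.Isometry
import Cfsg.Agent.Frobenius.FPFAut
import Cfsg.Agent.H43.Coherence
import Mathlib.GroupTheory.SpecificGroups.Cyclic
import Mathlib.GroupTheory.Perm.Cycle.Type

/-!
# Peterfalvi (7.11): no group of odd order is covered by coprime TI Frobenius kernels

Only the coherence of the characters of degree `[L:H]` (isometry lemma) is used.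
-/

set_option autoImplicit false

open scoped ComplexConjugate

namespace Cfsg.Agent.OddOrder.PF12

open Cfsg.Agent Cfsg.Agent.CharBasic

variable {G : Type*} [Group G] [Fintype G]

/-- Hypotheses on one member. -/
structure Member (L H : Subgroup G) : Prop where
  lt : H < L
  ne_bot : H ≠ ⊥
  normal : ∀ x ∈ L, ∀ h ∈ H, x * h * x⁻¹ ∈ H
  frob : ∀ h ∈ H, h ≠ 1 → L ⊓ Subgroup.centralizer ({h} : Set G) ≤ H
  ti : Cfsg.IsTISubset (H : Set G)
  normalizer_eq : Subgroup.normalizer (H : Set G) = L

section member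

variable {L H : Subgroup G}

theorem Member.normal_subgroupOf (hM : Member L H) : (H.subgroupOf L).Normal :=
  ⟨fun n hn x => hM.normal x x.2 n hn⟩

theorem Member.isKer (hM : Member L H) : IsKer (H.subgroupOf L) := by
  intro h hh h1 x hx
  refine hM.frob h hh (fun e => h1 (Subtype.ext e)) ⟨x.2, ?_⟩
  refine Subgroup.mem_centralizer_singleton_iff.2 ?_
  exact congrArg Subtype.val hx

theorem Member.ti' (hM : Member L H) {y : G} {x : G} (hy : y ∉ L) (hx : x ∈ H)
    (hc : y * x * y⁻¹ ∈ H) : x = 1 :=
  hM.ti y (by rw [hM.normalizer_eq]; exact hy) x hx hc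

/-- A function on `L` supported on `H#`. -/
def SuppSharp (H L : Subgroup G) (α : L → ℂ) : Prop :=
  ∀ x : L, ((x : G) ∉ H ∨ x = 1) → α x = 0

theorem SuppSharp.sub {α β : L → ℂ} (ha : SuppSharp H L α) (hb : SuppSharp H L β) :
    SuppSharp H L (α - β) := fun x hx => by simp [ha x hx, hb x hx]

theorem ind_apply_of_supp (hM : Member L H) {α : L → ℂ} (hα : Cfsg.IsClassFunction L α)
    (hs : SuppSharp H L α) (x : L) (hx : (x : G) ∈ H) (hx1 : x ≠ 1) :
    Cfsg.indFun L α (x : G) = α x := by
  classical
  have : Fintype L := Fintype.ofFinite L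
  have h : ∀ y : G, Cfsg.extendByZero L α (y⁻¹ * x * y) = if y ∈ L then α x else 0 := by
    intro y
    split_ifs with hy
    · have h2 := CharInduce.extendByZero_conj hα (L.inv_mem hy) (x : G)
      rw [inv_inv, CharInduce.extendByZero_coe] at h2
      exact h2
    · by_cases hm : y⁻¹ * (x : G) * y ∈ L
      · rw [CharInduce.extendByZero_of_mem _ hm]
        refine hs _ (Or.inl fun hH => hx1 (Subtype.ext ?_))
        exact hM.ti' (fun h' => hy (inv_mem_iff.1 h')) hx (by simpa using hH)
      · rw [CharInduce.extendByZero_of_not_mem _ hm]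
  simp only [CharInduce.indFun_apply, h]
  rw [← Finset.sum_filter, Finset.sum_const, nsmul_eq_mul, ← mul_assoc]
  have hc : (Finset.univ.filter fun y : G => y ∈ L).card = Nat.card L := by
    rw [Nat.card_eq_fintype_card, Fintype.card_subtype]
  rw [hc, inv_mul_cancel₀ (CharInduce.card_ne_zero_complex _), one_mul]

theorem inner_ind_supp (hM : Member L H) [Fintype L] {α β : L → ℂ}
    (hb : Cfsg.IsClassFunction L β) (hsa : SuppSharp H L α) (hsb : SuppSharp H L β) :
    Cfsg.classInner (Cfsg.indFun L α) (Cfsg.indFun L β) = Cfsg.classInner α β := by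
  rw [CharInduce.classInner_indFun_left L α _ (CharInduce.isClassFunction_indFun _ _)]
  unfold Cfsg.classInner
  congr 1
  refine Finset.sum_congr rfl fun x _ => ?_
  by_cases hx : (x : G) ∈ H ∧ x ≠ 1
  · simp only [ind_apply_of_supp hM hb hsb x hx.1 hx.2]
  · rw [hsa x (by rw [not_and_or, not_not] at hx; exact hx), zero_mul, zero_mul]

theorem ind_eq_zero_of_supp {α : L → ℂ} (hs : SuppSharp H L α) {g : G}
    (hg : ∀ y : G, y⁻¹ * g * y ∈ H → g = 1) : Cfsg.indFun L α g = 0 := by
  rw [CharInduce.indFun_apply]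
  refine mul_eq_zero_of_right _ (Finset.sum_eq_zero fun y _ => ?_)
  by_cases hm : y⁻¹ * g * y ∈ L
  · rw [CharInduce.extendByZero_of_mem _ hm]
    by_cases hH : y⁻¹ * g * y ∈ H
    · refine hs _ (Or.inr (Subtype.ext ?_))
      simp [hg y hH]
    · exact hs _ (Or.inl hH)
  · rw [CharInduce.extendByZero_of_not_mem _ hm]

theorem inner_ind_disjoint {L' H' : Subgroup G} (hcop : (Nat.card H).Coprime (Nat.card H'))
    {α : L → ℂ} (hsa : SuppSharp H L α) {β : L' → ℂ} (hsb : SuppSharp H' L' β) :
    Cfsg.classInner (Cfsg.indFun L α) (Cfsg.indFun L' β) = 0 := by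
  classical
  rw [classInner_def]
  refine mul_eq_zero_of_right _ (Finset.sum_eq_zero fun g _ => ?_)
  by_cases h : ∀ y : G, y⁻¹ * g * y ∈ H → g = 1
  · rw [ind_eq_zero_of_supp hsa h, zero_mul]
  · rw [ind_eq_zero_of_supp hsb (fun z hz => ?_), map_zero, mul_zero]
    push Not at h
    obtain ⟨y, hy, -⟩ := h
    have e1 : orderOf g ∣ Nat.card H := by
      have := Subgroup.orderOf_dvd_natCard H hy
      have e : y⁻¹ * g * y = MulAut.conj y⁻¹ g := by simp
      rwa [e, MulEquiv.orderOf_eq] at this
    have e2 : orderOf g ∣ Nat.card H' := by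
      have := Subgroup.orderOf_dvd_natCard H' hz
      have e : z⁻¹ * g * z = MulAut.conj z⁻¹ g := by simp
      rwa [e, MulEquiv.orderOf_eq] at this
    exact orderOf_eq_one_iff.1 (Nat.eq_one_of_dvd_coprimes hcop e1 e2)

/-- The norm of a class function on `H#`. -/
noncomputable def sharpNorm [Fintype L] (H : Subgroup G) (f : L → ℂ) : ℝ :=
  open scoped Classical in
  (Cfsg.classInner (fun x : L => if (x : G) ∈ H ∧ x ≠ 1 then f x else 0)
    (fun x : L => if (x : G) ∈ H ∧ x ≠ 1 then f x else 0)).re

theorem two_re_sub_le_sharpNorm [Fintype L] {α : L → ℂ} (hs : SuppSharp H L α) (f : L → ℂ) :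
    2 * (Cfsg.classInner α f).re - (Cfsg.classInner α α).re ≤ sharpNorm H f := by
  classical
  set φ : L → ℂ := fun x => if (x : G) ∈ H ∧ x ≠ 1 then f x else 0 with hφ
  have e : Cfsg.classInner α φ = Cfsg.classInner α f := by
    unfold Cfsg.classInner
    congr 1
    refine Finset.sum_congr rfl fun x _ => ?_
    by_cases hx : (x : G) ∈ H ∧ x ≠ 1
    · simp only [hφ, if_pos hx]
    · rw [hs x (by rw [not_and_or, not_not] at hx; exact hx), zero_mul, zero_mul]
  have hnn := H43.classInner_self_re_nonneg (φ - α)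
  simp only [classInner_sub_left, classInner_sub_right, Complex.sub_re, e] at hnn
  rw [← classInner_conj_symm α φ, e, Complex.conj_re] at hnn
  have : sharpNorm H f = (Cfsg.classInner φ φ).re := by
    simp only [sharpNorm, hφ]
  linarith

/-- The family attached to one member. -/
structure Family (L H : Subgroup G) [Fintype L] where
  n : ℕ
  two_le : 2 ≤ n
  even : Even n
  ab_eq : (commutator (H.subgroupOf L)).index = n * (H.subgroupOf L).index + 1
  ξ : Fin n → L → ℂ
  φ : L → ℂ
  ξ_class : ∀ k, Cfsg.IsClassFunction L (ξ k)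
  φ_class : Cfsg.IsClassFunction L φ
  φ_conj : Cfsg.conjFun φ = φ
  ξ_supp : ∀ k j, SuppSharp H L (ξ k - ξ j)
  φ_supp : ∀ k, SuppSharp H L (φ - ξ k)
  gram : ∀ k j, Cfsg.classInner (ξ k) (ξ j) = if k = j then 1 else 0
  ξ_φ : ∀ k, Cfsg.classInner (ξ k) φ = 0
  φ_φ : Cfsg.classInner φ φ = ((H.subgroupOf L).index : ℂ)
  ξ_one : ∀ k, Cfsg.classInner (ξ k) (fun _ => 1) = 0
  φ_one : Cfsg.classInner φ (fun _ => 1) = 1
  gen : ∀ k, Cfsg.IsGeneralizedCharacter L (φ - ξ k)
  X : Fin n → G → ℂ
  signed : ∀ k, H43.Signed (X k)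
  X_orth : ∀ k j, Cfsg.classInner (X k) (X j) = if k = j then 1 else 0
  X_ind : ∀ k j, Cfsg.indFun L (ξ k - ξ j) = X k - X j
  partner : ∀ k, ∃ j, j ≠ k ∧ Cfsg.conjFun (ξ k) = ξ j ∧ Cfsg.conjFun (X k) = X j
  X_one : ∀ k, Cfsg.classInner (X k) (fun _ => 1) = 0

theorem exists_family' (hM : Member L H) [Fintype L] (hodd : Odd (Nat.card G))
    (hg : (commutator (H.subgroupOf L)).index ≠ 1) : Nonempty (Family L H) := by
  classical
  have := hM.normal_subgroupOf
  set K := H.subgroupOf L with hK
  have : Fintype K := Fintype.ofFinite K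
  have hoddL : Odd (Nat.card L) := hodd.of_dvd_nat L.card_subgroup_dvd_card
  obtain ⟨n, h2, heven, hab, ξ, hchar, hdeg, hvan, hgram, hφ, hconj⟩ :=
    exists_family K hM.isKer hoddL hg
  have hmem : ∀ x : L, (x : G) ∉ H → x ∉ K := fun x h => h
  have hsupp : ∀ k j, SuppSharp H L (ξ k - ξ j) := by
    rintro k j x (hx | rfl)
    · simp [hvan k x (hmem x hx), hvan j x (hmem x hx)]
    · simp [hdeg]
  have hsuppφ : ∀ k, SuppSharp H L (indOne K - ξ k) := by
    rintro k x (hx | rfl)
    · simp [hvan k x (hmem x hx), indOne_of_not_mem K (hmem x hx)]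
    · simp [hdeg, indOne_of_mem K K.one_mem]
  have hone : ∀ ψ : L → ℂ, (∀ x, x ∉ K → ψ x = 0) →
      Cfsg.classInner ψ (indOne K) = (K.index : ℂ) * Cfsg.classInner ψ (fun _ => 1) := by
    intro ψ hψ
    simp only [classInner_def, Finset.mul_sum]
    refine Finset.sum_congr rfl fun x _ => ?_
    by_cases hx : x ∈ K
    · rw [indOne_of_mem K hx, map_natCast, map_one]; ring
    · rw [hψ x hx]; simp
  have hi0 : (K.index : ℂ) ≠ 0 := Nat.cast_ne_zero.2 Subgroup.index_ne_zero_of_finite
  -- the isometry lemma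
  let i₀ : Fin n := ⟨0, by omega⟩
  have hξgen : ∀ k j, Cfsg.IsGeneralizedCharacter L (ξ k - ξ j) := fun k j =>
    ⟨_, _, hchar k, hchar j, rfl⟩
  have hcl : ∀ k, Cfsg.IsClassFunction L (ξ k) := fun k => CharBasic.IsChar.isClassFunction (hchar k)
  obtain ⟨ε, hε, μ, hμ, hμi, he⟩ := CharInduce.Isometry.exists_signed_family n i₀
    (fun k => Cfsg.indFun L (ξ k - ξ i₀)) (by simp [CharInduce.indFun_zero])
    (fun k => CharInduce.IsGen.ind _ (hξgen k i₀))
    (fun k => by simp [CharInduce.indFun_one, hdeg])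
    (fun k j hk hj => by
      rw [inner_ind_supp hM (CharInduce.IsGen.isClassFunction (hξgen j i₀)) (hsupp k i₀) (hsupp j i₀)]
      simp only [classInner_sub_left, classInner_sub_right, hgram, if_neg hk, if_neg (Ne.symm hj),
        if_true]
      split_ifs <;> norm_num)
  let X : Fin n → G → ℂ := fun k => ε • μ k
  have hsigned : ∀ k, H43.Signed (X k) := by
    intro k
    rcases hε with rfl | rfl
    · exact Or.inl (by simpa [X] using hμ k)
    · exact Or.inr (by simpa [X] using hμ k)
  have hXorth : ∀ k j, Cfsg.classInner (X k) (X j) = if k = j then 1 else 0 := by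
    intro k j
    simp only [X, classInner_smul_left, classInner_smul_right, classInner_irr (hμ k) (hμ j),
      hμi.eq_iff]
    rcases hε with rfl | rfl <;> simp
  have hXind : ∀ k j, Cfsg.indFun L (ξ k - ξ j) = X k - X j := by
    intro k j
    have hk := he k
    have hj := he j
    simp only [CharInduce.indFun_sub] at hk hj ⊢
    rw [show Cfsg.indFun L (ξ k) - Cfsg.indFun L (ξ j) =
      (Cfsg.indFun L (ξ k) - Cfsg.indFun L (ξ i₀)) - (Cfsg.indFun L (ξ j) - Cfsg.indFun L (ξ i₀)) by abel,
      hk, hj]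
    simp only [X, smul_sub]
    abel
  have hpartner : ∀ k, ∃ j, j ≠ k ∧ Cfsg.conjFun (ξ k) = ξ j ∧ Cfsg.conjFun (X k) = X j := by
    intro k
    obtain ⟨j, hjk, hj⟩ := hconj k
    refine ⟨j, hjk, hj, ?_⟩
    have hj' : Cfsg.conjFun (ξ j) = ξ k := by rw [← hj]; funext x; simp [Cfsg.conjFun]
    have e : Cfsg.conjFun (X k) - Cfsg.conjFun (X j) = X j - X k := by
      rw [← hXind j k, ← hj, show Cfsg.conjFun (ξ k) - ξ k = Cfsg.conjFun (ξ k - ξ j) from by
        funext x
        simp only [Pi.sub_apply, Cfsg.conjFun, map_sub]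
        exact congrArg (conj (ξ k x) - ·) (congrFun hj' x).symm]
      funext g
      simp only [Pi.sub_apply, Cfsg.conjFun]
      rw [← map_sub, show X k g - X j g = Cfsg.indFun L (ξ k - ξ j) g from
        (congrFun (hXind k j) g).symm, CharInduce.conj_indFun]
      rfl
    have hcs : ∀ i, H43.Signed (Cfsg.conjFun (X i)) := by
      intro i
      rcases hsigned i with h | h
      · exact Or.inl (CharInduce.IsIrr.conj h)
      · refine Or.inr ?_
        have h' := CharInduce.IsIrr.conj h
        have e' : (-Cfsg.conjFun (X i)) = fun g => conj ((-X i) g) := by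
          funext g; simp [Cfsg.conjFun]
        rw [e']; exact h'
    have e2 := congrArg (fun f => Cfsg.classInner f (X j)) e
    simp only [classInner_sub_left, hXorth, if_true, if_neg hjk.symm, sub_zero] at e2
    rcases (hcs k).inner_cases (hsigned j) with h | h | h
    · exfalso
      rw [h] at e2
      rcases (hcs j).inner_cases (hsigned j) with g | g | g
      · rw [g] at e2; norm_num at e2
      · rw [g, hXorth, if_pos rfl] at e2; norm_num at e2
      · have h1 := congrFun g 1
        obtain ⟨d, hd⟩ := H43.gen_one_int (hsigned j).gen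
        simp only [Cfsg.conjFun, Pi.neg_apply, hd, map_intCast] at h1
        exact (hsigned j).one_ne_zero (by rw [hd]; linear_combination h1 / 2)
    · exact h
    · exfalso
      rw [h, classInner_neg_left, hXorth, if_pos rfl] at e2
      rcases (hcs j).inner_cases (hsigned j) with g | g | g
      · rw [g] at e2; norm_num at e2
      · rw [g, hXorth, if_pos rfl] at e2; norm_num at e2
      · rw [g, classInner_neg_left, hXorth, if_pos rfl] at e2; norm_num at e2
  refine ⟨⟨n, h2, heven, hab, ξ, indOne K, hcl, CharInduce.isClassFunction_indFun _ _, ?_, hsupp,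
    hsuppφ, hgram, hφ, classInner_indOne K, ?_, ?_, fun k => ⟨_, _, ?_, hchar k, rfl⟩, X, hsigned,
    hXorth, hXind, hpartner, ?_⟩⟩
  · funext x
    by_cases hx : x ∈ K
    · simp [Cfsg.conjFun, indOne_of_mem K hx]
    · simp [Cfsg.conjFun, indOne_of_not_mem K hx]
  · intro k
    have h := hone (ξ k) (hvan k)
    rw [hφ] at h
    exact (mul_eq_zero.1 h.symm).resolve_left hi0
  · have h := hone (indOne K) (fun x hx => indOne_of_not_mem K hx)
    rw [classInner_indOne] at h
    exact mul_left_cancel₀ hi0 (h.symm.trans (mul_one _).symm)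
  · exact CharInduce.IsChar.ind K CharInduce.IsChar.one
  · intro k
    obtain ⟨j, hjk, -, hj⟩ := hpartner k
    rcases (hsigned k).inner_cases (Or.inl isIrrCharacter_one) with h | h | h
    · exact h
    all_goals
      exfalso
      have hjX : X j = X k := by rw [← hj, h]; funext g; simp [Cfsg.conjFun]
      have h' := hXorth j k
      rw [if_neg hjk, hjX, hXorth k k, if_pos rfl] at h'
      exact one_ne_zero h'

theorem Member.isNilpotent (hM : Member L H) : Group.IsNilpotent H := by
  classical
  have := hM.normal_subgroupOf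
  set K := H.subgroupOf L with hK
  have hne : K.index ≠ 1 := by
    rw [Ne, Subgroup.index_eq_one, hK, Subgroup.subgroupOf_eq_top]
    exact fun h => hM.lt.not_ge h
  obtain ⟨p, hp, hpi⟩ := Nat.exists_prime_and_dvd hne
  have : Fact p.Prime := ⟨hp⟩
  obtain ⟨w, hw⟩ := exists_prime_orderOf_dvd_card' p (hpi.trans K.index_dvd_card)
  have hwK : w ∉ K := fun h => by
    have h2 : p ∣ Nat.card K := hw ▸ Subgroup.orderOf_dvd_natCard K h
    exact hp.one_lt.ne' (Nat.eq_one_of_dvd_coprimes (ker_coprime K hM.isKer) h2 hpi)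
  have hnil : Group.IsNilpotent K := by
    refine Frobenius.isNilpotent_of_fpf _ hp K (MulAut.conjNormal w) rfl ?_ ?_
    · intro g hg
      by_contra h1
      refine hwK (hM.isKer g g.2 (fun e => h1 (Subtype.ext e)) w ?_)
      have := congrArg Subtype.val hg
      simp only [MulAut.conjNormal_apply] at this
      exact mul_inv_eq_iff_eq_mul.1 this
    · intro g
      have h : ∀ m : ℕ, (((MulAut.conjNormal w : MulAut K)^[m] g : K) : L) = w ^ m * g * (w ^ m)⁻¹ := by
        intro m
        induction m with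
        | zero => simp
        | succ m ih =>
          rw [Function.iterate_succ_apply', MulAut.conjNormal_apply, ih, pow_succ' w m]
          group
      refine Subtype.ext ?_
      rw [h, ← hw, pow_orderOf_eq_one]
      simp
  exact Group.nilpotent_of_mulEquiv (Subgroup.subgroupOfEquivOfLe hM.lt.le)

theorem index_commutator_congr {A B : Type*} [Group A] [Group B] (f : A ≃* B) :
    (commutator B).index = (commutator A).index := by
  have h : commutator B = (commutator A).map (f : A →* B) := by
    rw [commutator_def, commutator_def, Subgroup.map_commutator,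
      Subgroup.map_top_of_surjective _ f.surjective]
  rw [h, Subgroup.index_map_equiv]

/-- A nilpotent group with cyclic abelianisation is commutative. -/
theorem commutator_eq_bot_of_cyclic {A : Type*} [Group A] [Group.IsNilpotent A] :
    IsCyclic (A ⧸ commutator A) → commutator A = ⊥ := by
  refine Group.nilpotent_center_quotient_ind
    (P := fun A _ _ => IsCyclic (A ⧸ commutator A) → commutator A = ⊥) A ?_ ?_
  · intro A _ _ _; exact Subsingleton.elim _ _
  · intro A _ _ ih hc
    have hle : commutator A ≤ (commutator (A ⧸ Subgroup.center A)).comap (QuotientGroup.mk' _) := by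
      rw [← Subgroup.map_le_iff_le_comap, commutator_def, commutator_def, Subgroup.map_commutator]
      exact Subgroup.commutator_mono le_top le_top
    have hc' : IsCyclic ((A ⧸ Subgroup.center A) ⧸ commutator (A ⧸ Subgroup.center A)) := by
      refine isCyclic_of_surjective (QuotientGroup.lift (commutator A)
        ((QuotientGroup.mk' _).comp (QuotientGroup.mk' (Subgroup.center A))) ?_) ?_
      · intro x hx
        exact (QuotientGroup.eq_one_iff _).2 (hle hx)
      · intro y
        obtain ⟨z, rfl⟩ := QuotientGroup.mk'_surjective _ y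
        obtain ⟨x, rfl⟩ := QuotientGroup.mk'_surjective _ z
        exact ⟨QuotientGroup.mk x, rfl⟩
    have hbot := ih hc'
    rw [hbot, MonoidHom.comap_bot, QuotientGroup.ker_mk'] at hle
    have : IsCyclic (A ⧸ Subgroup.center A) := by
      refine isCyclic_of_surjective (QuotientGroup.lift (commutator A)
        (QuotientGroup.mk' (Subgroup.center A)) ?_) ?_
      · intro x hx
        exact (QuotientGroup.eq_one_iff _).2 (hle hx)
      · intro y
        obtain ⟨x, rfl⟩ := QuotientGroup.mk'_surjective _ y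
        exact ⟨QuotientGroup.mk x, rfl⟩
    rw [Subgroup.eq_bot_iff_forall]
    intro x hx
    have hcomm := commutative_of_cyclic_center_quotient (QuotientGroup.mk' (Subgroup.center A))
      (QuotientGroup.ker_mk' _).le
    have : commutator A ≤ ⊥ := by
      rw [commutator_def, Subgroup.commutator_le]
      intro a _ b _
      rw [Subgroup.mem_bot, commutatorElement_eq_one_iff_mul_comm]
      exact hcomm a b
    exact this hx

theorem isCyclic_of_small {A : Type*} [CommGroup A] [Finite A]
    (h : Nat.card A ∈ ({7, 11, 13, 15, 19, 23} : Finset ℕ)) : IsCyclic A := by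
  refine IsCyclic.of_exponent_eq_card (Nat.dvd_antisymm Group.exponent_dvd_nat_card ?_)
  have hdiv : ∀ p : ℕ, p.Prime → p ∣ Nat.card A → p ∣ Monoid.exponent A := by
    intro p hp hd
    have : Fact p.Prime := ⟨hp⟩
    obtain ⟨x, hx⟩ := exists_prime_orderOf_dvd_card' p hd
    exact hx ▸ Monoid.order_dvd_exponent x
  simp only [Finset.mem_insert, Finset.mem_singleton] at h
  rcases h with h | h | h | h | h | h <;> rw [h] at hdiv ⊢
  · exact hdiv 7 (by norm_num) dvd_rfl
  · exact hdiv 11 (by norm_num) dvd_rfl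
  · exact hdiv 13 (by norm_num) dvd_rfl
  · exact Nat.Coprime.mul_dvd_of_dvd_of_dvd (m := 3) (n := 5) (by norm_num)
      (hdiv 3 (by norm_num) (by norm_num)) (hdiv 5 (by norm_num) (by norm_num))
  · exact hdiv 19 (by norm_num) dvd_rfl
  · exact hdiv 23 (by norm_num) dvd_rfl

theorem card_eq_of_small (hnil : Group.IsNilpotent H)
    (h : (commutator H).index ∈ ({7, 11, 13, 15, 19, 23} : Finset ℕ)) :
    Nat.card H = (commutator H).index := by
  have hc : IsCyclic (H ⧸ commutator H) :=
    isCyclic_of_small (A := Abelianization H) (by rwa [Subgroup.index_eq_card] at h)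
  have := commutator_eq_bot_of_cyclic hc
  rw [this, Subgroup.index_bot]

end member

variable {ι : Type*} [Fintype ι] (L H : ι → Subgroup G)

open scoped Classical in
theorem norm_expansion (hM : ∀ i, Member (L i) (H i))
    (hcop : ∀ i j, i ≠ j → Nat.Coprime (Nat.card (H i)) (Nat.card (H j)))
    (hcover : ∀ g : G, g ≠ 1 → ∃ i, ∃ x : G, x * g * x⁻¹ ∈ H i) [∀ i, Fintype (L i)]
    {χ : G → ℂ} (hχ : Cfsg.IsClassFunction G χ) :
    (Cfsg.classInner χ χ).re = ‖χ 1‖ ^ 2 / Nat.card G + ∑ i, sharpNorm (H i) (fun x : L i => χ x) := by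
  let ψ : ∀ i, L i → ℂ := fun i x => if (x : G) ∈ H i ∧ x ≠ 1 then 1 else 0
  have hψs : ∀ i, SuppSharp (H i) (L i) (ψ i) := fun i x hx => if_neg (by tauto)
  have hψc : ∀ i, Cfsg.IsClassFunction (L i) (ψ i) := by
    intro i a b
    have h1 : ((b * a * b⁻¹ : L i) : G) ∈ H i ↔ (a : G) ∈ H i := by
      constructor
      · intro h
        have := (hM i).normal _ (L i |>.inv_mem b.2) _ h
        simpa [mul_assoc] using this
      · exact fun h => (hM i).normal b b.2 a h
    simp only [ψ, h1, Ne, conj_eq_one_iff]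
  -- the sum of the induced indicators
  have hsum : ∀ g : G, ∑ i, Cfsg.indFun (L i) (ψ i) g = if g = 1 then 0 else 1 := by
    intro g
    split_ifs with hg
    · subst hg
      refine Finset.sum_eq_zero fun i _ => ind_eq_zero_of_supp (hψs i) (fun _ _ => rfl)
    obtain ⟨i, x, hx⟩ := hcover g hg
    rw [Finset.sum_eq_single i]
    · have hxL : x * g * x⁻¹ ∈ L i := (hM i).lt.le hx
      have hne : (⟨_, hxL⟩ : L i) ≠ 1 := fun e => hg (conj_eq_one_iff.1 (congrArg Subtype.val e))
      rw [← CharInduce.isClassFunction_indFun (L i) (ψ i) g x]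
      rw [show x * g * x⁻¹ = ((⟨_, hxL⟩ : L i) : G) from rfl,
        ind_apply_of_supp (hM i) (hψc i) (hψs i) _ hx hne]
      exact if_pos ⟨hx, hne⟩
    · intro j _ hji
      refine ind_eq_zero_of_supp (hψs j) fun y hy => ?_
      have e1 : orderOf g ∣ Nat.card (H i) := by
        have := Subgroup.orderOf_dvd_natCard (H i) hx
        rwa [show x * g * x⁻¹ = MulAut.conj x g from rfl, MulEquiv.orderOf_eq] at this
      have e2 : orderOf g ∣ Nat.card (H j) := by
        have := Subgroup.orderOf_dvd_natCard (H j) hy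
        have e : y⁻¹ * g * y = MulAut.conj y⁻¹ g := by simp
        rwa [e, MulEquiv.orderOf_eq] at this
      exact orderOf_eq_one_iff.1 (Nat.eq_one_of_dvd_coprimes (hcop i j (Ne.symm hji)) e1 e2)
    · simp
  let P : G → ℂ := fun g => χ g * conj (χ g)
  have hP : Cfsg.IsClassFunction G P := fun g h => by simp only [P, hχ g h]
  have hPreal : ∀ g, conj (P g) = P g := fun g => by simp [P, mul_comm]
  have key : Cfsg.classInner χ χ =
      P 1 / Nat.card G + ∑ i, Cfsg.classInner (Cfsg.indFun (L i) (ψ i)) P := by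
    rw [← classInner_sum_left, classInner_def, classInner_def]
    simp only [Finset.sum_apply, hsum, hPreal]
    rw [← Finset.add_sum_erase _ _ (Finset.mem_univ (1 : G)),
      ← Finset.add_sum_erase _ (fun g => (if g = 1 then (0 : ℂ) else 1) * P g) (Finset.mem_univ (1 : G))]
    have hh : ∑ g ∈ Finset.univ.erase (1 : G), (if g = 1 then (0 : ℂ) else 1) * P g
        = ∑ g ∈ Finset.univ.erase (1 : G), P g :=
      Finset.sum_congr rfl fun g hg => by rw [if_neg (Finset.ne_of_mem_erase hg), one_mul]
    rw [if_pos rfl, zero_mul, zero_add, hh]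
    simp only [P]
    ring
  rw [key, Complex.add_re, Complex.re_sum]
  congr 1
  · simp only [P, Complex.mul_conj']
    norm_cast
  · refine Finset.sum_congr rfl fun i _ => ?_
    rw [CharInduce.classInner_indFun_left (L i) (ψ i) P hP, sharpNorm]
    congr 1
    unfold Cfsg.classInner
    congr 1
    refine Finset.sum_congr rfl fun x _ => ?_
    simp only [ψ, hPreal]
    split_ifs <;> simp [P]

/-- Orthonormal families satisfy Bessel's inequality. -/
theorem bessel {σ : Type*} [Fintype σ] (v : σ → G → ℂ) [DecidableEq σ]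
    (hv : ∀ s t, Cfsg.classInner (v s) (v t) = if s = t then 1 else 0) (θ : G → ℂ) :
    ∑ s, ‖Cfsg.classInner θ (v s)‖ ^ 2 ≤ (Cfsg.classInner θ θ).re := by
  set a : σ → ℂ := fun s => Cfsg.classInner θ (v s) with ha
  set u : G → ℂ := ∑ s, a s • v s with hu
  have e1 : Cfsg.classInner θ u = ((∑ s, ‖a s‖ ^ 2 : ℝ) : ℂ) := by
    rw [hu, classInner_sum_right, Complex.ofReal_sum]
    refine Finset.sum_congr rfl fun s _ => ?_
    rw [classInner_smul_right, Complex.ofReal_pow, ← Complex.conj_mul']
  have e2 : Cfsg.classInner u u = ((∑ s, ‖a s‖ ^ 2 : ℝ) : ℂ) := by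
    rw [hu, classInner_sum_left, Complex.ofReal_sum]
    refine Finset.sum_congr rfl fun s _ => ?_
    rw [classInner_smul_left, classInner_sum_right, Finset.sum_eq_single s]
    · rw [classInner_smul_right, hv, if_pos rfl, mul_one, Complex.ofReal_pow, ← Complex.mul_conj']
    · intro t _ hts
      rw [classInner_smul_right, hv, if_neg (Ne.symm hts), mul_zero]
    · simp
  have h := H43.classInner_self_re_nonneg (θ - u)
  simp only [classInner_sub_left, classInner_sub_right, Complex.sub_re, e2,
    ← classInner_conj_symm θ u, e1, Complex.conj_ofReal, Complex.ofReal_re] at h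
  linarith

variable {L H}

theorem sharpNorm_one {L₀ H₀ : Subgroup G} (hM : Member L₀ H₀) [Fintype L₀] :
    sharpNorm H₀ (fun _ : L₀ => (1 : ℂ)) =
      weight (H₀.subgroupOf L₀).index (Nat.card H₀) := by
  classical
  have hcard : ((Finset.univ.filter fun x : L₀ => (x : G) ∈ H₀ ∧ x ≠ 1).card : ℕ) + 1 = Nat.card H₀ := by
    have e : (Finset.univ.filter fun x : L₀ => (x : G) ∈ H₀ ∧ x ≠ 1) =
        (Finset.univ.filter fun x : L₀ => (x : G) ∈ H₀).erase 1 := by
      ext x; simp [and_comm]
    rw [e, Finset.card_erase_add_one (by simp)]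
    rw [← Nat.card_congr (Subgroup.subgroupOfEquivOfLe hM.lt.le).toEquiv, Nat.card_eq_fintype_card,
      Fintype.card_subtype]
    rfl
  have hL : Nat.card L₀ = Nat.card H₀ * (H₀.subgroupOf L₀).index := by
    rw [← (H₀.subgroupOf L₀).card_mul_index,
      Nat.card_congr (Subgroup.subgroupOfEquivOfLe hM.lt.le).toEquiv]
  have e : Cfsg.classInner (fun x : L₀ => if (x : G) ∈ H₀ ∧ x ≠ 1 then (1 : ℂ) else 0)
      (fun x : L₀ => if (x : G) ∈ H₀ ∧ x ≠ 1 then (1 : ℂ) else 0) =
      (((Nat.card L₀ : ℝ)⁻¹ * ((Nat.card H₀ : ℝ) - 1) : ℝ) : ℂ) := by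
    rw [← hcard, classInner_def]
    push_cast
    rw [add_sub_cancel_right]
    congr 1
    rw [Finset.sum_congr rfl (g := fun x : L₀ => if (x : G) ∈ H₀ ∧ x ≠ 1 then (1 : ℂ) else 0)
      (fun x _ => by split_ifs <;> simp), Finset.sum_boole]
  rw [sharpNorm, e, Complex.ofReal_re, weight, hL, Nat.cast_mul]
  have h1 : (0 : ℝ) < Nat.card H₀ := by exact_mod_cast Nat.card_pos
  have h2 : (0 : ℝ) < (H₀.subgroupOf L₀).index := by
    exact_mod_cast Nat.pos_of_ne_zero Subgroup.index_ne_zero_of_finite
  field_simp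

section bounds

variable {L₀ H₀ : Subgroup G} [Fintype L₀] (D : Family L₀ H₀)

/-- Lower bound for the norm on `H#` of a class function with prescribed inner products. -/
theorem Family.sharpNorm_ge (f : L₀ → ℂ) (P : ℝ) (d : Fin D.n → ℝ) (i₀ : Fin D.n)
    (hP : Cfsg.classInner (D.φ - D.ξ i₀) f = (P : ℂ))
    (hd : ∀ k, Cfsg.classInner (D.ξ k - D.ξ i₀) f = (d k : ℂ)) :
    P ^ 2 / (H₀.subgroupOf L₀).index + ∑ k, d k ^ 2
      - (P / (H₀.subgroupOf L₀).index + ∑ k, d k) ^ 2
          / (1 / ((H₀.subgroupOf L₀).index : ℝ) + D.n) ≤ sharpNorm H₀ f := by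
  classical
  set e : ℝ := ((H₀.subgroupOf L₀).index : ℝ) with he
  have hepos : 0 < e := by
    rw [he]; exact_mod_cast Nat.pos_of_ne_zero Subgroup.index_ne_zero_of_finite
  set x : ℝ := -(P / e + ∑ k, d k) / (1 / e + D.n) with hx
  set a₀ : ℝ := (P + x) / e with ha₀
  set a : Fin D.n → ℝ := fun k => d k + x with ha
  have hden : (0 : ℝ) < 1 / e + D.n := by positivity
  have hsum : a₀ + ∑ k, a k = 0 := by
    simp only [ha₀, ha, Finset.sum_add_distrib, Finset.sum_const, Finset.card_univ, Fintype.card_fin,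
      nsmul_eq_mul, hx]
    field_simp
    ring
  set α : L₀ → ℂ := (a₀ : ℂ) • (D.φ - D.ξ i₀) + ∑ k, (a k : ℂ) • (D.ξ k - D.ξ i₀) with hα
  have hs : SuppSharp H₀ L₀ α := by
    intro z hz
    simp [hα, Finset.sum_apply, D.φ_supp i₀ z hz, fun k => D.ξ_supp k i₀ z hz, -Pi.sub_apply]
  have h1 : Cfsg.classInner α f = ((a₀ * P + ∑ k, a k * d k : ℝ) : ℂ) := by
    rw [hα, classInner_add_left, classInner_sum_left, classInner_smul_left, hP]
    simp only [classInner_smul_left, hd]
    push_cast
    rfl
  have hα' : α = (a₀ : ℂ) • D.φ + ∑ k, (a k : ℂ) • D.ξ k := by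
    have h0 : ((a₀ : ℂ) + ∑ k, (a k : ℂ)) = 0 := by exact_mod_cast hsum
    funext z
    simp only [hα, Pi.add_apply, Pi.smul_apply, Pi.sub_apply, smul_eq_mul, Finset.sum_apply, mul_sub,
      Finset.sum_sub_distrib, ← Finset.sum_mul]
    linear_combination -(D.ξ i₀ z) * h0
  have hξφ : ∀ k, Cfsg.classInner D.φ (D.ξ k) = 0 := fun k => by
    rw [← classInner_conj_symm, D.ξ_φ, map_zero]
  have h2 : Cfsg.classInner α α = ((e * a₀ ^ 2 + ∑ k, a k ^ 2 : ℝ) : ℂ) := by
    rw [hα']
    simp only [classInner_add_left, classInner_add_right, classInner_sum_left, classInner_sum_right,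
      classInner_smul_left, classInner_smul_right, D.φ_φ, D.ξ_φ, hξφ, D.gram, mul_zero,
      Finset.sum_const_zero, add_zero, zero_add, mul_ite, mul_one, Finset.sum_ite_eq',
      Finset.sum_ite_eq, Finset.mem_univ, if_true, Complex.conj_ofReal, he]
    push_cast
    ring_nf
  have h := two_re_sub_le_sharpNorm hs f
  rw [h1, h2, Complex.ofReal_re, Complex.ofReal_re] at h
  refine le_trans (le_of_eq ?_) h
  simp only [ha, ha₀, add_mul, mul_add, add_sq, Finset.sum_add_distrib, ← Finset.mul_sum,
    ← Finset.sum_mul, Finset.sum_const, Finset.card_univ, Fintype.card_fin, nsmul_eq_mul, hx]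
  simp only [← sq]
  field_simp
  ring

end bounds

/-- **Peterfalvi (7.11)**. -/
theorem no_partition [Nonempty ι] (hodd : Odd (Nat.card G)) (hM : ∀ i, Member (L i) (H i))
    (hcop : ∀ i j, i ≠ j → Nat.Coprime (Nat.card (H i)) (Nat.card (H j)))
    (hcover : ∀ g : G, g ≠ 1 → ∃ i, ∃ x : G, x * g * x⁻¹ ∈ H i) : False := by
  classical
  have : ∀ i, Fintype (L i) := fun i => Fintype.ofFinite _
  have : ∀ i, Group.IsNilpotent (H i) := fun i => (hM i).isNilpotent
  set e : ι → ℕ := fun i => ((H i).subgroupOf (L i)).index with he_def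
  set g : ι → ℕ := fun i => (commutator ((H i).subgroupOf (L i))).index with hg_def
  have hgH : ∀ i, g i = (commutator (H i)).index := fun i =>
    (index_commutator_congr (Subgroup.subgroupOfEquivOfLe (hM i).lt.le)).symm
  have hg1 : ∀ i, g i ≠ 1 := by
    intro i h
    have : Nontrivial (H i) := (H i).nontrivial_iff_ne_bot.2 (hM i).ne_bot
    rw [hgH, Subgroup.index_eq_one] at h
    exact (Group.IsSolvable.commutator_lt_top_of_nontrivial (G := H i)).ne h
  let D : ∀ i, Family (L i) (H i) := fun i => (exists_family' (hM i) hodd (hg1 i)).some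
  have heodd : ∀ i, Odd (e i) ∧ 3 ≤ e i := by
    intro i
    have h1 : Odd (e i) := hodd.of_dvd_nat
      ((Subgroup.index_dvd_card _).trans (L i).card_subgroup_dvd_card)
    have h2 : e i ≠ 1 := by
      simp only [he_def, Ne, Subgroup.index_eq_one, Subgroup.subgroupOf_eq_top]
      exact fun h => (hM i).lt.not_ge h
    obtain ⟨k, hk⟩ := h1
    exact ⟨⟨k, hk⟩, by omega⟩
  have hgdvd : ∀ i, g i ∣ Nat.card (H i) := fun i => hgH i ▸ Subgroup.index_dvd_card _
  have hinj : Function.Injective g := by
    intro i j hij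
    by_contra hne
    exact hg1 i (Nat.eq_one_of_dvd_coprimes (hcop i j hne) (hgdvd i) (hij ▸ hgdvd j))
  let k₀ : ∀ i, Fin (D i).n := fun i => ⟨0, by have := (D i).two_le; omega⟩
  let X : ι → G → ℂ := fun i => (D i).X (k₀ i)
  let β : ι → G → ℂ := fun i => Cfsg.indFun (L i) ((D i).φ - (D i).ξ (k₀ i))
  have hXint : ∀ i, Cfsg.IsGeneralizedCharacter G (X i) := fun i => ((D i).signed _).gen
  have hβgen : ∀ i, Cfsg.IsGeneralizedCharacter G (β i) := fun i =>
    CharInduce.IsGen.ind _ ((D i).gen _)
  have hβcl : ∀ i, Cfsg.IsClassFunction G (β i) := fun i => CharInduce.isClassFunction_indFun _ _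
  have hcl2 : ∀ i k, Cfsg.IsClassFunction (L i) ((D i).φ - (D i).ξ k) := fun i k x y => by
    simp [(D i).φ_class x y, (D i).ξ_class k x y]
  have hcl3 : ∀ i k j, Cfsg.IsClassFunction (L i) ((D i).ξ k - (D i).ξ j) := fun i k j x y => by
    simp [(D i).ξ_class k x y, (D i).ξ_class j x y]
  -- orthogonality of the families
  have hcross : ∀ i j, i ≠ j → ∀ k l, Cfsg.classInner ((D i).X k) ((D j).X l) = 0 := by
    intro i j hij k l
    obtain ⟨k', hk, -, hkX⟩ := (D i).partner k
    obtain ⟨l', hl, -, hlX⟩ := (D j).partner l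
    have h0 : Cfsg.classInner ((D i).X k - (D i).X k') ((D j).X l - (D j).X l') = 0 := by
      rw [← (D i).X_ind, ← (D j).X_ind]
      exact inner_ind_disjoint (hcop i j hij) ((D i).ξ_supp _ _) ((D j).ξ_supp _ _)
    have hswap : ∀ l l₂, Cfsg.conjFun ((D j).X l) = (D j).X l₂ →
        Cfsg.classInner ((D i).X k') ((D j).X l₂) = conj (Cfsg.classInner ((D i).X k) ((D j).X l)) := by
      intro l l₂ hl2
      rw [← hkX, ← hl2, H43.classInner_conjFun]
    rcases ((D i).signed k).inner_cases ((D j).signed l) with h | h | h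
    · exact h
    · exfalso
      have h' : (D i).X k' = (D j).X l' := by rw [← hkX, ← hlX, h]
      rw [h, h'] at h0
      simp [classInner_sub_left, classInner_sub_right, (D j).X_orth, hl.symm, hl] at h0
    · exfalso
      have h' : (D i).X k' = -(D j).X l' := by
        rw [← hkX, ← hlX, h]; funext x; simp [Cfsg.conjFun]
      rw [h, h'] at h0
      rw [classInner_sub_left, classInner_neg_left, classInner_neg_left, classInner_sub_right,
        classInner_sub_right, (D j).X_orth, (D j).X_orth, (D j).X_orth, (D j).X_orth, if_pos rfl,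
        if_pos rfl, if_neg hl.symm, if_neg hl] at h0
      norm_num at h0
  have hβ1 : ∀ i, Cfsg.classInner (β i) (fun _ => 1) = 1 := by
    intro i
    rw [CharInduce.classInner_indFun_left _ _ _ (fun _ _ => rfl), classInner_sub_left,
      (D i).φ_one, (D i).ξ_one, sub_zero]
  have hφξ : ∀ i k, Cfsg.classInner (D i).φ ((D i).ξ k) = 0 := fun i k => by
    rw [← classInner_conj_symm, (D i).ξ_φ, map_zero]
  have hββ : ∀ i, Cfsg.classInner (β i) (β i) = (e i : ℂ) + 1 := by
    intro i
    rw [inner_ind_supp (hM i) (hcl2 i _) ((D i).φ_supp _) ((D i).φ_supp _)]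
    simp [classInner_sub_left, classInner_sub_right, (D i).φ_φ, (D i).gram, (D i).ξ_φ,
      hφξ, he_def]
  have hβdis : ∀ i j, i ≠ j → Cfsg.classInner (β i) (β j) = 0 := fun i j hij =>
    inner_ind_disjoint (hcop i j hij) ((D i).φ_supp _) ((D j).φ_supp _)
  have hβconst : ∀ i j, i ≠ j → ∀ l,
      Cfsg.classInner (β i) ((D j).X l) = Cfsg.classInner (β i) (X j) := by
    intro i j hij l
    rw [← sub_eq_zero, ← classInner_sub_right, ← (D j).X_ind]
    exact inner_ind_disjoint (hcop i j hij) ((D i).φ_supp _) ((D j).ξ_supp _ _)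
  choose c hc using fun i j => H43.gen_inner_int (hβgen j) (hXint i)
  -- parity
  have hpar : ∀ i j, i ≠ j → c i j ≠ 0 ∨ c j i ≠ 0 := by
    intro i j hij
    let Γ : ι → G → ℂ := fun t => β t - (fun _ => 1) + X t
    have hΓgen : ∀ t, Cfsg.IsGeneralizedCharacter G (Γ t) := fun t =>
      H43.gen_add (H43.gen_sub (hβgen t) (H43.gen_of_irr isIrrCharacter_one)) (hXint t)
    have hΓr : ∀ t, Cfsg.conjFun (Γ t) = Γ t := by
      intro t
      obtain ⟨t', -, htξ, htX⟩ := (D t).partner (k₀ t)
      have e1 : Cfsg.conjFun (β t) = β t + (X t - (D t).X t') := by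
        rw [← (D t).X_ind, ← CharInduce.indFun_add]
        funext x
        rw [Cfsg.conjFun, CharInduce.conj_indFun]
        congr 1
        funext z
        have h1 := congrFun htξ z
        have h2 := congrFun (D t).φ_conj z
        simp only [Cfsg.conjFun] at h1 h2
        simp [h1, h2]
      funext x
      have h1 := congrFun e1 x
      have h2 := congrFun htX x
      simp only [Γ, X, Cfsg.conjFun, Pi.add_apply, Pi.sub_apply, map_add, map_sub, map_one] at h1 h2 ⊢
      linear_combination h1 + h2
    have hX1 : ∀ t, Cfsg.classInner (X t) (fun _ => 1) = 0 := fun t => (D t).X_one _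
    have h11 : Cfsg.classInner (fun _ : G => (1 : ℂ)) (fun _ => 1) = 1 :=
      classInner_irr_self isIrrCharacter_one
    obtain ⟨m, hm, hm'⟩ := even_inner hodd (hΓgen i) (hΓgen j) (hΓr i) (hΓr j)
      (by simp [Γ, classInner_sub_left, classInner_add_left, hβ1, hX1, h11])
    have h1X : ∀ t, Cfsg.classInner (fun _ : G => (1 : ℂ)) (X t) = 0 := fun t => by
      rw [← classInner_conj_symm, hX1, map_zero]
    have h1β : ∀ t, Cfsg.classInner (fun _ : G => (1 : ℂ)) (β t) = 1 := fun t => by
      rw [← classInner_conj_symm, hβ1, map_one]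
    have hXβ : Cfsg.classInner (X i) (β j) = (c i j : ℂ) := by
      rw [← classInner_conj_symm, hc, map_intCast]
    simp only [Γ, classInner_sub_left, classInner_sub_right, classInner_add_left, classInner_add_right,
      hβdis i j hij, hβ1, hX1, h11, h1X, h1β, hXβ, hc j i, hcross i j hij _ _] at hm'
    have hm'' : m = c i j + c j i - 1 := by
      have : (m : ℂ) = ((c i j + c j i - 1 : ℤ) : ℂ) := by
        rw [← hm']; push_cast
        simp only [show Cfsg.classInner (X i) (X j) = 0 from hcross i j hij _ _]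
        ring
      exact_mod_cast this
    by_contra hcon
    push Not at hcon
    rw [hm'', hcon.1, hcon.2] at hm
    norm_num at hm
  -- the bound on the members linked to a given one
  have hJ : ∀ i, ∑ j ∈ (Finset.univ.erase i).filter (fun j => c j i ≠ 0), (D j).n + 1 ≤ e i := by
    intro i
    let v : Option (Σ j, Fin (D j).n) → G → ℂ := fun s => s.elim (fun _ => 1) fun p => (D p.1).X p.2
    have hv : ∀ s t, Cfsg.classInner (v s) (v t) = if s = t then 1 else 0 := by
      rintro (_ | ⟨j, k⟩) (_ | ⟨j', k'⟩)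
      · simp [v, classInner_irr_self isIrrCharacter_one]
      · simp only [v, Option.elim]
        rw [← classInner_conj_symm, (D j').X_one, map_zero, if_neg (by simp)]
      · simp [v, (D j).X_one]
      · simp only [v, Option.elim]
        by_cases hjj : j = j'
        · subst hjj; simp [(D j).X_orth]
        · rw [hcross j j' hjj, if_neg (by simp [hjj])]
    have hb := bessel v hv (β i)
    rw [hββ, Fintype.sum_option, Fintype.sum_sigma] at hb
    simp only [v, Option.elim, hβ1, norm_one, one_pow, Complex.add_re, Complex.natCast_re,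
      Complex.one_re] at hb
    rw [← Finset.add_sum_erase _ _ (Finset.mem_univ i)] at hb
    have hown : (1 : ℝ) ≤ ∑ k, ‖Cfsg.classInner (β i) ((D i).X k)‖ ^ 2 := by
      obtain ⟨k', hk', -, -⟩ := (D i).partner (k₀ i)
      have hd : Cfsg.classInner (β i) ((D i).X k') = (c i i : ℂ) + 1 := by
        have h1 : Cfsg.classInner (β i) ((D i).X k' - X i) = 1 := by
          rw [← (D i).X_ind, inner_ind_supp (hM i) (hcl3 i _ _) ((D i).φ_supp _) ((D i).ξ_supp _ _)]
          simp [classInner_sub_left, classInner_sub_right, (D i).gram, hφξ, (D i).ξ_φ,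
            hk'.symm]
        rw [classInner_sub_right, hc] at h1
        linear_combination h1
      refine le_trans ?_ (Finset.sum_le_sum_of_subset_of_nonneg
        (Finset.subset_univ {k₀ i, k'}) fun _ _ _ => sq_nonneg _)
      rw [Finset.sum_pair hk'.symm, show Cfsg.classInner (β i) ((D i).X (k₀ i)) = (c i i : ℂ) from hc i i,
        hd]
      have h1 : (1 : ℤ) ≤ (c i i) ^ 2 + (c i i + 1) ^ 2 := by
        nlinarith [sq_nonneg (2 * c i i + 1)]
      have h2 : (1 : ℝ) ≤ ((c i i : ℤ) : ℝ) ^ 2 + (((c i i : ℤ) : ℝ) + 1) ^ 2 := by exact_mod_cast h1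
      rw [Complex.norm_intCast, sq_abs,
        show (c i i : ℂ) + 1 = ((c i i + 1 : ℤ) : ℂ) by push_cast; rfl, Complex.norm_intCast, sq_abs]
      push_cast
      exact h2
    have hoth : ((∑ j ∈ (Finset.univ.erase i).filter (fun j => c j i ≠ 0), (D j).n : ℕ) : ℝ) ≤
        ∑ j ∈ Finset.univ.erase i, ∑ k, ‖Cfsg.classInner (β i) ((D j).X k)‖ ^ 2 := by
      rw [Finset.sum_filter, Nat.cast_sum]
      refine Finset.sum_le_sum fun j hj => ?_
      have hji : j ≠ i := Finset.ne_of_mem_erase hj
      simp only [hβconst i j hji.symm, hc, Complex.norm_intCast, sq_abs, Finset.sum_const,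
        Finset.card_univ, Fintype.card_fin, nsmul_eq_mul]
      split_ifs with h
      · have : (1 : ℝ) ≤ ((c j i : ℤ) : ℝ) ^ 2 := by
          exact_mod_cast (by nlinarith [Int.one_le_abs h, sq_abs (c j i)] : (1 : ℤ) ≤ c j i ^ 2)
        have : (0 : ℝ) ≤ (D j).n := by positivity
        nlinarith
      · simp only [Nat.cast_zero]; positivity
    have : ((∑ j ∈ (Finset.univ.erase i).filter (fun j => c j i ≠ 0), (D j).n : ℕ) : ℝ) + 1 ≤ e i := by
      linarith
    exact_mod_cast this
  have hN : (0 : ℝ) < Nat.card G := by exact_mod_cast Nat.card_pos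
  -- total weight
  have htot : ∑ i, weight (e i) (Nat.card (H i)) = 1 - 1 / (Nat.card G : ℝ) := by
    have h := norm_expansion L H hM hcop hcover (χ := fun _ => 1) (fun _ _ => rfl)
    rw [classInner_irr_self isIrrCharacter_one, Complex.one_re, norm_one, one_pow] at h
    simp only [fun i => sharpNorm_one (hM i)] at h
    simp only [he_def]
    linarith
  -- the bound on the members linked from a given one
  have hK : ∀ i, ∑ j ∈ (Finset.univ.erase i).filter (fun j => c i j ≠ 0), ((D j).n : ℝ) / g j
      ≤ (e i : ℝ) / g i - 1 / (Nat.card G : ℝ) := by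
    intro i
    have h := norm_expansion L H hM hcop hcover (χ := X i) ((D i).signed _).isClassFunction
    rw [show Cfsg.classInner (X i) (X i) = 1 from ((D i).signed _).inner_self, Complex.one_re,
      ← Finset.add_sum_erase _ _ (Finset.mem_univ i)] at h
    have hgR : ∀ j, (g j : ℝ) = (D j).n * (e j : ℝ) + 1 := fun j => by
      simp only [hg_def, he_def, (D j).ab_eq]; push_cast; ring
    have hepos : ∀ j, (0 : ℝ) < e j := fun j => by
      have := (heodd j).2; exact_mod_cast (by omega : 0 < e j)
    have hX1 : (1 : ℝ) ≤ ‖X i 1‖ ^ 2 := by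
      obtain ⟨d, hd⟩ := H43.gen_one_int (hXint i)
      have hd0 : d ≠ 0 := fun h0 => ((D i).signed (k₀ i)).one_ne_zero (by
        show X i 1 = 0
        rw [hd, h0, Int.cast_zero])
      rw [hd, Complex.norm_intCast, sq_abs]
      exact_mod_cast (by nlinarith [Int.one_le_abs hd0, sq_abs d] : (1 : ℤ) ≤ d ^ 2)
    have hown : 1 - (e i : ℝ) / g i ≤ sharpNorm (H i) (fun x : L i => X i x) := by
      obtain ⟨b, hb⟩ : ∃ b : ℤ, Cfsg.classInner ((D i).φ - (D i).ξ (k₀ i)) (fun x : L i => X i x) = b :=
        ⟨c i i, by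
          rw [← CharInduce.classInner_indFun_left _ _ _ ((D i).signed _).isClassFunction]
          exact hc i i⟩
      refine le_trans ?_ ((D i).sharpNorm_ge _ (b : ℝ) (fun k => if k = k₀ i then 0 else -1) (k₀ i)
        (by rw [hb]; push_cast; rfl) fun k => ?_)
      · have hs1 : ∑ k : Fin (D i).n, (if k = k₀ i then (0 : ℝ) else -1) = 1 - (D i).n := by
          rw [Finset.sum_ite, Finset.sum_const_zero, zero_add, Finset.sum_const, Finset.filter_ne',
            Finset.card_erase_of_mem (Finset.mem_univ _), Finset.card_univ, Fintype.card_fin,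
            nsmul_eq_mul, Nat.cast_sub (by have := (D i).two_le; omega)]
          simp
        have hs2 : ∑ k : Fin (D i).n, (if k = k₀ i then (0 : ℝ) else -1) ^ 2 = (D i).n - 1 := by
          rw [Finset.sum_congr rfl (g := fun k => -(if k = k₀ i then (0 : ℝ) else -1))
            (fun k _ => by split_ifs <;> norm_num), Finset.sum_neg_distrib, hs1]
          ring
        rw [hs1, hs2, hgR]
        have hkey : (0 : ℝ) ≤ (D i).n * ((b : ℝ) + 1) ^ 2 - 2 * ((b : ℝ) + 1) := by
          have h2 : (2 : ℤ) ≤ (D i).n := by exact_mod_cast (D i).two_le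
          have : (0 : ℤ) ≤ (D i).n * (b + 1) ^ 2 - 2 * (b + 1) := by
            rcases eq_or_ne (b + 1) 0 with h0 | h0
            · rw [h0]; norm_num
            · have := Int.one_le_abs h0
              nlinarith [sq_abs (b + 1), le_abs_self (b + 1)]
          exact_mod_cast this
        have := hepos i
        have : (0 : ℝ) ≤ ((D i).n : ℝ) := by positivity
        have key : (b : ℝ) ^ 2 / (e i : ℝ) + ((D i).n - 1)
            - ((b : ℝ) / e i + (1 - (D i).n)) ^ 2 / (1 / (e i : ℝ) + (D i).n)
            = (1 - (e i : ℝ) / ((D i).n * (e i : ℝ) + 1))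
              + ((D i).n * ((b : ℝ) + 1) ^ 2 - 2 * ((b : ℝ) + 1)) / ((D i).n * (e i : ℝ) + 1) := by
          field_simp
          ring
        refine le_trans ?_ key.symm.le
        exact le_add_of_nonneg_right (div_nonneg hkey (by positivity))
      · rw [← CharInduce.classInner_indFun_left _ _ _ ((D i).signed _).isClassFunction, (D i).X_ind,
          classInner_sub_left, (D i).X_orth, (D i).X_orth, if_pos rfl]
        split_ifs <;> norm_num
    have hoth : ∑ j ∈ (Finset.univ.erase i).filter (fun j => c i j ≠ 0), ((D j).n : ℝ) / g j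
        ≤ ∑ j ∈ Finset.univ.erase i, sharpNorm (H j) (fun x : L j => X i x) := by
      rw [Finset.sum_filter]
      refine Finset.sum_le_sum fun j hj => ?_
      have hji : j ≠ i := Finset.ne_of_mem_erase hj
      have hlow := (D j).sharpNorm_ge (fun x : L j => X i x) (c i j : ℝ) (fun _ => 0) (k₀ j)
        (by rw [← CharInduce.classInner_indFun_left _ _ _ ((D i).signed _).isClassFunction]
            rw [show Cfsg.classInner (β j) (X i) = (c i j : ℂ) from hc i j]; push_cast; rfl)
        (fun k => by
          rw [← CharInduce.classInner_indFun_left _ _ _ ((D i).signed _).isClassFunction, (D j).X_ind,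
            classInner_sub_left, hcross j i hji, hcross j i hji, sub_zero, Complex.ofReal_zero])
      simp only [Finset.sum_const_zero, add_zero, ne_eq, OfNat.ofNat_ne_zero, not_false_eq_true,
        zero_pow, smul_zero] at hlow
      refine le_trans ?_ hlow
      have := hepos j
      have hn0 : (0 : ℝ) ≤ ((D j).n : ℝ) := by positivity
      have hval : ((c i j : ℝ)) ^ 2 / (e j : ℝ) - ((c i j : ℝ) / e j) ^ 2 / (1 / (e j : ℝ) + (D j).n)
          = ((D j).n : ℝ) / g j * (c i j : ℝ) ^ 2 := by
        rw [hgR]; field_simp; ring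
      rw [hval]
      split_ifs with h0
      · refine le_mul_of_one_le_right (by positivity) ?_
        exact_mod_cast (by nlinarith [Int.one_le_abs h0, sq_abs (c i j)] : (1 : ℤ) ≤ c i j ^ 2)
      · positivity
    have : 1 / (Nat.card G : ℝ) ≤ ‖X i 1‖ ^ 2 / Nat.card G := by gcongr
    linarith
  exact partition_arith e g (fun i => Nat.card (H i)) (fun i => (D i).n) _ hN heodd
    (fun i => ⟨(D i).even, (D i).two_le⟩) (fun i => (D i).ab_eq)
    (fun i => Nat.le_of_dvd Nat.card_pos (hgdvd i)) hinj
    (fun i h => by rw [hgH] at h ⊢; exact card_eq_of_small (this i) h)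
    (fun i j => c i j ≠ 0) hpar hK hJ htot

end Cfsg.Agent.OddOrder.PF12
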