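import Cfsg.Agent.OddOrder.PF8.Supporting
import Cfsg.Agent.OddOrder.PF12.Partition

/-!
# Peterfalvi (12.17): some maximal subgroup is not of Type I

The local analysis enters through `PF8.LocalFacts` and the covering theorem, Peterfalvi (12.7) as `hfrob`.
-/

set_option autoImplicit false

namespace Cfsg.Agent.OddOrder.PF12

open Subgroup
open Cfsg.Agent Cfsg.Agent.OddOrder

variable {G : Type*} [Group G] [Finite G]

/-- What is used about one maximal subgroup when all of them are of Type I. -/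
theorem typeI_frobenius_centralizer (F : PF8.LocalFacts G)
    (hall : ∀ M : Subgroup G, IsCoatom M → IsTypeI M)
    (hfrob : ∀ M : Subgroup G, IsCoatom M → IsTypeI M → ∀ x ∈ Cfsg.fittingHallOf M, x ≠ 1 →
      M ⊓ centralizer ({x} : Set G) ≤ Cfsg.fittingHallOf M)
    {M : Subgroup G} (hM : IsCoatom M) {x : G} (hx : x ∈ Cfsg.fittingHallOf M) (hx1 : x ≠ 1) :
    centralizer ({x} : Set G) ≤ M := by
  by_contra hn
  have hx0 : x ∈ setA0 M := by
    refine PF8.typeA1_subset_typeA0 (F.core_le_derived M hM) ⟨?_, hx1⟩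
    rw [PF8.typeCore_eq_core (Or.inl (hall M hM))]
    exact hx
  obtain ⟨L, hL, hxL⟩ := ((F.support M hM).unique x hx0 hn).2.exists
  obtain ⟨-, -, -, -, ⟨hA, hA1⟩, -⟩ := (F.support M hM).supporting x hx0 hn L hL hxL
  refine hA1 ?_
  have hIL := hall L hL
  rw [setA, if_pos hIL] at hA
  obtain ⟨hxL', -, y, hy, hy1, hxy⟩ := hA
  refine ⟨?_, hx1⟩
  rw [PF8.typeCore_eq_core (Or.inl hIL)]
  exact hfrob L hL hIL y hy hy1 ⟨hxL', mem_centralizer_singleton_iff.2 hxy⟩

/-- **Peterfalvi (12.17)**. -/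
theorem exists_not_typeI [IsSimpleGroup G] (hodd : Odd (Nat.card G)) (F : PF8.LocalFacts G)
    (hcover : (∀ M : Subgroup G, IsCoatom M → Cfsg.kappa M = ∅) → ∀ g : G, g ≠ 1 →
      ∃ M : Subgroup G, IsCoatom M ∧ g ∈ Cfsg.tildeOf M ((Cfsg.sigmaCore M : Set G) \ {1}))
    (hfrob : ∀ M : Subgroup G, IsCoatom M → IsTypeI M → ∀ x ∈ Cfsg.fittingHallOf M, x ≠ 1 →
      M ⊓ centralizer ({x} : Set G) ≤ Cfsg.fittingHallOf M) :
    ∃ M : Subgroup G, IsCoatom M ∧ ¬ IsTypeI M := by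
  classical
  by_contra hcon
  push Not at hcon
  haveI := Fintype.ofFinite G
  have hMσ : ∀ M : Subgroup G, IsCoatom M → Cfsg.sigmaCore M = Cfsg.fittingHallOf M := fun M hM => by
    rw [← F.typeCore_eq M hM, PF8.typeCore_eq_core (Or.inl (hcon M hM))]
  have hne : ∀ M : Subgroup G, IsCoatom M → Cfsg.fittingHallOf M ≠ ⊥ := fun M hM e =>
    (hcon M hM).1.2.2.1 (((fittingHall M).map_eq_bot_iff_of_injective M.subtype_injective).1 e)
  have hlt : ∀ M : Subgroup G, IsCoatom M → Cfsg.fittingHallOf M < M := fun M hM =>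
    lt_of_le_of_ne (TypeP.core_le M) fun e => (hcon M hM).1.2.2.2.1 (by
      rw [← comap_map_eq_self_of_injective M.subtype_injective (Cfsg.fittingHall M),
        show (Cfsg.fittingHall M).map M.subtype = M from e]
      exact subgroupOf_self M)
  have hC : ∀ M : Subgroup G, IsCoatom M → ∀ x ∈ Cfsg.fittingHallOf M, x ≠ 1 →
      centralizer ({x} : Set G) ≤ M := fun M hM x hx hx1 =>
    typeI_frobenius_centralizer F hcon hfrob hM hx hx1
  have hnorm : ∀ M : Subgroup G, IsCoatom M → ∀ m ∈ M, ∀ h ∈ Cfsg.fittingHallOf M,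
      m * h * m⁻¹ ∈ Cfsg.fittingHallOf M := fun M _ m hm h hh =>
    (mem_normalizer_iff.1 (TypeP.le_normalizer_core M hm) h).1 hh
  have hN : ∀ M : Subgroup G, IsCoatom M → normalizer (Cfsg.fittingHallOf M : Set G) = M := by
    intro M hM
    obtain ⟨⟨x, hx⟩, hx1⟩ := (nontrivial_iff_exists_ne (1 : Cfsg.fittingHallOf M)).1
      ((nontrivial_iff_ne_bot _).2 (hne M hM))
    exact PF8.normalizer_eq_of_subset hM (TypeP.core_le M) ⟨x, hx, fun e => hx1 (Subtype.ext e)⟩
      (hnorm M hM)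
  have hTI : ∀ M : Subgroup G, IsCoatom M → Cfsg.IsTISubset (Cfsg.fittingHallOf M : Set G) := by
    intro M hM g hg x hx hgx
    rw [hN M hM] at hg
    by_contra hx1
    have hA : ∀ y ∈ Cfsg.fittingHallOf M, y ≠ 1 → y ∈ setA0 M := fun y hy hy1 =>
      PF8.typeA1_subset_typeA0 (F.core_le_derived M hM)
        ⟨by rw [PF8.typeCore_eq_core (Or.inl (hcon M hM))]; exact hy, hy1⟩
    obtain ⟨m, hm, e⟩ := (F.support M hM).fusion x (hA x hx hx1) g (hA _ hgx (PF8.conj_ne_one hx1))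
    have hc : m⁻¹ * g ∈ centralizer ({x} : Set G) := by
      refine mem_centralizer_singleton_iff.2 ?_
      calc m⁻¹ * g * x = m⁻¹ * (g * x * g⁻¹) * g := by group
        _ = m⁻¹ * (m * x * m⁻¹) * g := by rw [e]
        _ = x * (m⁻¹ * g) := by group
    have := M.mul_mem hm (hC M hM x hx hx1 hc)
    rw [mul_inv_cancel_left] at this
    exact hg this
  -- representatives of the classes of maximal subgroups
  let conjRel : Setoid {M : Subgroup G // IsCoatom M} :=
    { r := fun M N => ∃ g : G, N.1 = M.1.map (MulAut.conj g).toMonoidHom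
      iseqv :=
        ⟨fun M => ⟨1, (Coprime.map_conj_one M.1).symm⟩,
          fun ⟨g, hg⟩ => ⟨g⁻¹, by rw [hg, Coprime.map_conj_map_conj, inv_mul_cancel, Coprime.map_conj_one]⟩,
          fun ⟨g, hg⟩ ⟨g', hg'⟩ => ⟨g' * g, by rw [hg', hg, Coprime.map_conj_map_conj]⟩⟩ }
  have : Fintype (Quotient conjRel) := Fintype.ofFinite _
  let R : Quotient conjRel → Subgroup G := fun q => q.out.1
  have hR : ∀ q, IsCoatom (R q) := fun q => q.out.2
  obtain ⟨M₀, hM₀, -⟩ := (eq_top_or_exists_le_coatom (⊥ : Subgroup G)).resolve_left bot_ne_top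
  have : Nonempty (Quotient conjRel) := ⟨Quotient.mk conjRel ⟨M₀, hM₀⟩⟩
  refine no_partition (L := R) (H := fun q => Cfsg.fittingHallOf (R q)) hodd
    (fun q => ⟨hlt _ (hR q), hne _ (hR q), hnorm _ (hR q), hfrob _ (hR q) (hcon _ (hR q)),
      hTI _ (hR q), hN _ (hR q)⟩) ?_ ?_
  · intro q q' hqq'
    refine Nat.coprime_of_dvd fun p hp hd hd' => hqq' ?_
    have hmem : ∀ q, p ∣ Nat.card (Cfsg.fittingHallOf (R q)) → p ∈ Cfsg.sigma (R q) := fun q hd => by
      obtain ⟨x, hx⟩ := @exists_prime_orderOf_dvd_card' _ _ _ p ⟨hp⟩ hd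
      refine PF8.prime_mem_sigma (x := (x : G)) ?_ hp ?_
      · rw [hMσ _ (hR q)]; exact x.2
      · rw [Subgroup.orderOf_coe, hx]
    obtain ⟨g, hg⟩ := F.sigma_conj _ _ (hR q) (hR q') ⟨p, hmem q hd, hmem q' hd'⟩
    rw [← Quotient.out_eq q, ← Quotient.out_eq q']
    exact Quotient.sound (s := conjRel) ⟨g, hg⟩
  · intro g hg
    obtain ⟨M, hM, a, ⟨ha, ha1⟩, r, hr, y, rfl⟩ :=
      hcover (fun M hM => (F.typeI_iff M hM).1 (hcon M hM)) g hg
    have haF : a ∈ Cfsg.fittingHallOf M := hMσ M hM ▸ ha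
    rw [PF8.supportR_eq_bot (hC M hM a haF ha1), mem_bot] at hr
    obtain ⟨k, hk⟩ := Quotient.exact (s := conjRel) (Quotient.out_eq (Quotient.mk conjRel ⟨M, hM⟩)).symm
    refine ⟨Quotient.mk conjRel ⟨M, hM⟩, k * y⁻¹, ?_⟩
    have hFk : Cfsg.fittingHallOf (R (Quotient.mk conjRel ⟨M, hM⟩)) =
        (Cfsg.fittingHallOf M).map (MulAut.conj k).toMonoidHom := by
      rw [show R (Quotient.mk conjRel ⟨M, hM⟩) = M.map (MulAut.conj k).toMonoidHom from hk,
        PF8.fittingHallOf_map]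
    rw [hFk, hr, mul_one]
    exact ⟨a, haF, by simp only [MulEquiv.coe_toMonoidHom, MulAut.conj_apply]; group⟩

end Cfsg.Agent.OddOrder.PF12
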