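import Mathlib

/-!
# Coprime automorphisms of `p × p`
-/

set_option autoImplicit false

namespace Cfsg.Agent.OddOrder.PF12

open Subgroup

variable {p : ℕ} [hp : Fact p.Prime] {V : Type*} [CommGroup V] [Finite V]

omit [Finite V] in
/-- An automorphism fixing the line through `v` has a `(p - 1)`-st power fixing `v`. -/
theorem pow_pred_apply_eq (hexp : ∀ v : V, v ^ p = 1) {φ : MulAut V} {v : V} (hv : v ≠ 1) {i : ℤ}
    (hi : φ v = v ^ i) : (φ ^ (p - 1)) v = v := by
  have hord : orderOf v = p := orderOf_eq_prime (hexp v) hv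
  have hk : ∀ k : ℕ, (φ ^ k) v = v ^ (i ^ k) := by
    intro k
    induction k with
    | zero => simp
    | succ k ih =>
      rw [pow_succ', MulAut.mul_apply, ih, map_zpow, hi, ← zpow_mul, pow_succ']
  have hip : ¬ (p : ℤ) ∣ i := fun h => by
    rw [← hord, orderOf_dvd_iff_zpow_eq_one, ← hi, map_eq_one_iff φ φ.injective] at h
    exact hv h
  have hcop : IsCoprime i (p : ℤ) :=
    ((Prime.coprime_iff_not_dvd (Nat.prime_iff_prime_int.1 hp.out)).2 hip).symm
  have hmod : (v : V) ^ (i ^ (p - 1)) = v ^ (1 : ℤ) := by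
    rw [zpow_eq_zpow_iff_modEq, hord]
    exact Int.ModEq.pow_card_sub_one_eq_one hp.out hcop
  rw [hk, hmod, zpow_one]

/-- The lines of `p × p` are `p + 1` in number. -/
theorem card_lines (hexp : ∀ v : V, v ^ p = 1) (hV : Nat.card V = p ^ 2) :
    Nat.card {X : Subgroup V // Nat.card X = p} = p + 1 := by
  classical
  cases nonempty_fintype V
  have hz : ∀ v : V, v ≠ 1 → Nat.card (zpowers v) = p := fun v hv => by
    rw [Nat.card_zpowers, orderOf_eq_prime (hexp v) hv]
  let f : {v : V // v ≠ 1} → {X : Subgroup V // Nat.card X = p} := fun v => ⟨zpowers v.1, hz _ v.2⟩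
  have hfib : ∀ X, Nat.card {v : {v : V // v ≠ 1} // f v = X} = p - 1 := by
    intro X
    have e : {v : {v : V // v ≠ 1} // f v = X} ≃ {v : X.1 // v ≠ 1} :=
      { toFun := fun v => ⟨⟨v.1.1, by
            have h : zpowers v.1.1 = X.1 := congrArg Subtype.val v.2
            exact h ▸ mem_zpowers _⟩, fun h => v.1.2 (congrArg Subtype.val h)⟩
        invFun := fun v => ⟨⟨v.1.1, fun h => v.2 (Subtype.ext h)⟩, Subtype.ext
          (eq_of_le_of_card_ge (zpowers_le.2 v.1.2)
            (by rw [X.2, hz _ fun h => v.2 (Subtype.ext h)]))⟩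
        left_inv := fun v => rfl
        right_inv := fun v => rfl }
    rw [Nat.card_congr e, Nat.card_eq_fintype_card, Fintype.card_subtype_compl,
      Fintype.card_subtype_eq, ← Nat.card_eq_fintype_card, X.2]
  have h1 := Nat.card_congr (Equiv.sigmaFiberEquiv f).symm
  rw [Nat.card_sigma, Finset.sum_congr rfl fun X _ => hfib X, Finset.sum_const, Finset.card_univ,
    ← Nat.card_eq_fintype_card, smul_eq_mul, Nat.card_eq_fintype_card (α := {v : V // v ≠ 1}),
    Fintype.card_subtype_compl, Fintype.card_subtype_eq, ← Nat.card_eq_fintype_card, hV] at h1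
  have h2 := hp.out.two_le
  have h3 : p ^ 2 - 1 = (p + 1) * (p - 1) := by rw [← Nat.sq_sub_sq, one_pow]
  rw [h3] at h1
  exact (Nat.eq_of_mul_eq_mul_right (by omega) h1).symm

/-- A coprime automorphism of `p × p` has exponent dividing `p - 1` or a `(p + 1)`-st power which is
scalar. -/
theorem plane_aut (hexp : ∀ v : V, v ^ p = 1) (hV : Nat.card V = p ^ 2) (φ : MulAut V)
    (hco : (orderOf φ).Coprime p) :
    φ ^ (p - 1) = 1 ∨ ∃ i : ℤ, ∀ v, (φ ^ (p + 1)) v = v ^ i := by
  classical
  have : Finite (MulAut V) := Finite.of_injective (fun f : MulAut V => (f : V → V)) DFunLike.coe_injective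
  have hspan : ∀ v w : V, v ≠ 1 → w ∉ zpowers v → ∀ y, ∃ a b : ℤ, y = v ^ a * w ^ b := by
    intro v w hv hw y
    have hw1 : w ≠ 1 := fun h => hw (h ▸ one_mem _)
    have hcard : Nat.card ↥(zpowers v ⊔ zpowers w) = Nat.card V := by
      refine le_antisymm (card_le_card_group _) ?_
      have hlt : zpowers v < zpowers v ⊔ zpowers w :=
        lt_of_le_of_ne le_sup_left fun h => hw (h ▸ mem_sup_right (mem_zpowers w))
      have hV' : IsPGroup p V := IsPGroup.of_card hV
      obtain ⟨j, hj⟩ := IsPGroup.iff_card.1 (hV'.to_subgroup (zpowers v ⊔ zpowers w))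
      have h1 : Nat.card (zpowers v) < Nat.card ↥(zpowers v ⊔ zpowers w) :=
        Set.Finite.card_lt_card (Set.toFinite _) hlt
      rw [Nat.card_zpowers, orderOf_eq_prime (hexp v) hv, hj] at h1
      rw [hV, hj]
      refine Nat.pow_le_pow_right hp.out.pos ?_
      by_contra hj2
      push Not at hj2
      have := hp.out.two_le
      interval_cases j <;> simp at h1 <;> omega
    have hy : y ∈ zpowers v ⊔ zpowers w := by
      rw [eq_top_of_card_eq _ hcard]
      trivial
    obtain ⟨a, ha, b, hb, rfl⟩ := Subgroup.mem_sup.1 hy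
    obtain ⟨a', rfl⟩ := mem_zpowers_iff.1 ha
    obtain ⟨b', rfl⟩ := mem_zpowers_iff.1 hb
    exact ⟨a', b', rfl⟩
  have hout : ∀ v : V, v ≠ 1 → ∃ w : V, w ∉ zpowers v := by
    intro v hv
    by_contra hall
    push Not at hall
    have h1 : Nat.card V ≤ Nat.card (zpowers v) :=
      Nat.card_le_card_of_injective (fun y => ⟨y, hall y⟩) fun a b e => congrArg Subtype.val e
    rw [Nat.card_zpowers, orderOf_eq_prime (hexp v) hv, hV] at h1
    have := hp.out.two_le
    nlinarith
  by_cases hline : ∃ v : V, v ≠ 1 ∧ φ v ∈ zpowers v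
  · obtain ⟨v, hv, hφv⟩ := hline
    obtain ⟨i, hi⟩ := mem_zpowers_iff.1 hφv
    obtain ⟨w, hw⟩ := hout v hv
    left
    set b := φ ^ (p - 1) with hb
    have hbv : b v = v := pow_pred_apply_eq hexp hv hi.symm
    have hw1 : w ≠ 1 := fun h => hw (h ▸ one_mem _)
    obtain ⟨s₀, j, hj⟩ := hspan v w hv hw (φ w)
    have hjp : ¬ (p : ℤ) ∣ j := fun h => by
      rw [← orderOf_eq_prime (hexp w) hw1, orderOf_dvd_iff_zpow_eq_one] at h
      rw [h, mul_one] at hj
      have hip : φ v ^ s₀ = φ (v ^ s₀) := (map_zpow φ v s₀).symm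
      obtain ⟨i', hi'⟩ : ∃ i' : ℤ, φ (v ^ i') = v := by
        have hiv : ¬ (p : ℤ) ∣ i := fun h' => by
          rw [← orderOf_eq_prime (hexp v) hv, orderOf_dvd_iff_zpow_eq_one, hi,
            map_eq_one_iff φ φ.injective] at h'
          exact hv h'
        obtain ⟨a, b', hab⟩ := ((Prime.coprime_iff_not_dvd (Nat.prime_iff_prime_int.1 hp.out)).2 hiv).symm
        refine ⟨a, ?_⟩
        rw [map_zpow, ← hi, ← zpow_mul, show i * a = 1 + (-b') * p by linear_combination hab,
          zpow_add, zpow_one, zpow_mul', zpow_natCast, hexp, one_zpow, mul_one]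
      refine hw ?_
      have : φ w = φ (v ^ (i' * s₀)) := by rw [hj, zpow_mul, map_zpow, hi']
      exact φ.injective this ▸ zpow_mem (mem_zpowers v) _
    have hk : ∀ k : ℕ, ∃ s : ℤ, (φ ^ k) w = v ^ s * w ^ (j ^ k) := by
      intro k
      induction k with
      | zero => exact ⟨0, by simp⟩
      | succ k ih =>
        obtain ⟨s, hs⟩ := ih
        refine ⟨i * s + s₀ * j ^ k, ?_⟩
        rw [pow_succ' φ, MulAut.mul_apply, hs, map_mul, map_zpow, map_zpow, hj, ← hi, mul_zpow,
          ← zpow_mul, ← zpow_mul, ← zpow_mul, zpow_add, mul_assoc, pow_succ']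
    obtain ⟨s, hs⟩ := hk (p - 1)
    have hjm : (w : V) ^ (j ^ (p - 1)) = w := by
      conv_rhs => rw [← zpow_one w]
      rw [zpow_eq_zpow_iff_modEq, orderOf_eq_prime (hexp w) hw1]
      exact Int.ModEq.pow_card_sub_one_eq_one hp.out
        ((Prime.coprime_iff_not_dvd (Nat.prime_iff_prime_int.1 hp.out)).2 hjp).symm
    rw [← hb, hjm] at hs
    have hbn : ∀ n : ℕ, (b ^ n) w = (v ^ s) ^ n * w := by
      intro n
      induction n with
      | zero => simp
      | succ n ih =>
        rw [pow_succ' b, MulAut.mul_apply, ih, map_mul, map_pow, map_zpow, hbv, hs, pow_succ, mul_assoc]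
    have hvs : v ^ s = 1 := by
      have h1 := hbn (orderOf b)
      rw [pow_orderOf_eq_one, MulAut.one_apply, eq_comm, mul_eq_right] at h1
      refine orderOf_eq_one_iff.1 (Nat.eq_one_of_dvd_coprimes
        (hco.coprime_dvd_left (orderOf_pow_dvd (p - 1))) (orderOf_dvd_of_pow_eq_one h1)
        (orderOf_dvd_of_pow_eq_one (hexp _)))
    rw [hvs, one_mul] at hs
    refine MulEquiv.ext fun y => ?_
    obtain ⟨a, c, rfl⟩ := hspan v w hv hw y
    rw [map_mul, map_zpow, map_zpow, hbv, hs, MulAut.one_apply]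
  push Not at hline
  right
  -- the least power fixing a line
  have hex : ∃ k : ℕ, 0 < k ∧ ∃ v : V, v ≠ 1 ∧ (φ ^ k) v ∈ zpowers v := by
    have hnt : Nontrivial V := Finite.one_lt_card_iff_nontrivial.1 (by
      rw [hV]; exact Nat.one_lt_pow two_ne_zero hp.out.one_lt)
    obtain ⟨v, hv⟩ := exists_ne (1 : V)
    exact ⟨orderOf φ, orderOf_pos φ, v, hv, by rw [pow_orderOf_eq_one]; exact mem_zpowers v⟩
  set k := Nat.find hex with hkdef
  obtain ⟨hk0, v, hv, hkv⟩ := Nat.find_spec hex
  obtain ⟨i, hi⟩ := mem_zpowers_iff.1 hkv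
  have hk1 : φ v ∉ zpowers v := hline v hv
  have hscal : ∀ y, (φ ^ k) y = y ^ i := by
    intro y
    obtain ⟨a, c, rfl⟩ := hspan v (φ v) hv hk1 y
    have h2 : (φ ^ k) (φ v) = φ v ^ i := by
      rw [← map_zpow, hi, ← MulAut.mul_apply, ← MulAut.mul_apply, ← pow_succ, ← pow_succ']
    rw [map_mul, map_zpow, map_zpow, h2, ← hi, mul_zpow, ← zpow_mul, ← zpow_mul, ← zpow_mul,
      ← zpow_mul, mul_comm i a, mul_comm i c]
  let S := {X : Subgroup V // Nat.card X = p}
  let σ : Equiv.Perm S :=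
    { toFun := fun X => ⟨X.1.map φ.toMonoidHom,
        (Nat.card_congr (X.1.equivMapOfInjective _ φ.injective).toEquiv).symm.trans X.2⟩
      invFun := fun X => ⟨X.1.map φ.symm.toMonoidHom,
        (Nat.card_congr (X.1.equivMapOfInjective _ φ.symm.injective).toEquiv).symm.trans X.2⟩
      left_inv := fun X => Subtype.ext (by
        show (X.1.map φ.toMonoidHom).map φ.symm.toMonoidHom = X.1
        rw [Subgroup.map_map]
        convert Subgroup.map_id X.1
        ext y; simp)
      right_inv := fun X => Subtype.ext (by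
        show (X.1.map φ.symm.toMonoidHom).map φ.toMonoidHom = X.1
        rw [Subgroup.map_map]
        convert Subgroup.map_id X.1
        ext y; simp) }
  have hσ : ∀ (n : ℕ) (X : S) (y : V), y ∈ X.1 → (φ ^ n) y ∈ ((σ ^ n) X).1 := by
    intro n
    induction n with
    | zero => intro X y hy; simpa using hy
    | succ n ih =>
      intro X y hy
      rw [pow_succ', pow_succ', MulAut.mul_apply, Equiv.Perm.mul_apply]
      exact ⟨_, ih X y hy, rfl⟩
  have hgen : ∀ X : S, ∃ y, y ≠ 1 ∧ X.1 = zpowers y := by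
    intro X
    obtain ⟨⟨y, hy⟩, hy1⟩ := ne_bot_iff_exists_ne_one.1 (fun h : X.1 = ⊥ => by
      have := X.2
      rw [h, card_bot] at this
      exact hp.out.one_lt.ne this)
    have hy1' : y ≠ 1 := fun h => hy1 (Subtype.ext h)
    exact ⟨y, hy1', (eq_of_le_of_card_ge (zpowers_le.2 hy) (by
      rw [X.2, Nat.card_zpowers, orderOf_eq_prime (hexp y) hy1'])).symm⟩
  have hσk : σ ^ k = 1 := by
    refine Equiv.ext fun X => ?_
    obtain ⟨y, hy1, hy⟩ := hgen X
    obtain ⟨z, hz1, hz⟩ := hgen ((σ ^ k) X)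
    refine Subtype.ext ?_
    have h1 := hσ k X y (hy ▸ mem_zpowers y)
    rw [hscal, hz] at h1
    rw [Equiv.Perm.one_apply, hz, hy]
    refine (eq_of_le_of_card_ge (le_trans ?_ (zpowers_le.2 h1)) ?_).symm
    · refine zpowers_le.2 ?_
      -- `y` is a power of `y ^ i`
      have hne : y ^ i ≠ 1 := by
        rw [← hscal]
        exact fun h => hy1 ((map_eq_one_iff _ (φ ^ k).injective).1 h)
      have he : zpowers (y ^ i) = zpowers y := eq_of_le_of_card_ge
        (zpowers_le.2 (zpow_mem (mem_zpowers y) i)) (by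
          rw [Nat.card_zpowers, Nat.card_zpowers, orderOf_eq_prime (hexp _) hy1,
            orderOf_eq_prime (hexp _) hne])
      exact he ▸ mem_zpowers y
    · rw [Nat.card_zpowers, Nat.card_zpowers, orderOf_eq_prime (hexp _) hy1,
        orderOf_eq_prime (hexp _) hz1]
  have hfree : ∀ (n : ℕ) (X : S), (σ ^ n) X = X → σ ^ n = 1 := by
    intro n X hX
    rw [← Nat.div_add_mod n k, pow_add, pow_mul, hσk, one_pow, one_mul] at hX ⊢
    rcases Nat.eq_zero_or_pos (n % k) with h0 | h0
    · rw [h0, pow_zero]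
    obtain ⟨y, hy1, hy⟩ := hgen X
    have h1 := hσ (n % k) X y (hy ▸ mem_zpowers y)
    rw [hX, hy] at h1
    exact absurd (Nat.find_min hex (Nat.mod_lt n hk0) ⟨h0, y, hy1, h1⟩) not_false
  have hS := card_lines hexp hV
  have hSne : Nonempty S := by
    by_contra h
    rw [not_nonempty_iff] at h
    rw [Nat.card_of_isEmpty] at hS
    omega
  have hord : orderOf σ = k := by
    refine (orderOf_eq_iff hk0).2 ⟨hσk, fun m hm hm0 hσm => ?_⟩
    obtain ⟨X⟩ := hSne
    obtain ⟨y, hy1, hy⟩ := hgen X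
    have h1 := hσ m X y (hy ▸ mem_zpowers y)
    rw [hσm, Equiv.Perm.one_apply, hy] at h1
    exact Nat.find_min hex hm ⟨hm0, y, hy1, h1⟩
  have hstab : ∀ X : S, MulAction.stabilizer (zpowers σ) X = ⊥ := by
    intro X
    refine (eq_bot_iff_forall _).2 fun g hg => ?_
    obtain ⟨n, hn⟩ := (mem_zpowers_iff_mem_range_orderOf.1 g.2 |> Finset.mem_image.1)
    refine Subtype.ext ?_
    rw [← hn.2]
    refine hfree n X ?_
    rw [hn.2]
    exact MulAction.mem_stabilizer_iff.1 hg
  have hcard := Nat.card_congr (MulAction.selfEquivOrbitsQuotientProd hstab)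
  rw [hS, Nat.card_prod, Nat.card_zpowers, hord] at hcard
  obtain ⟨m, hm⟩ : k ∣ p + 1 := ⟨_, hcard.trans (mul_comm _ _)⟩
  refine ⟨i ^ m, fun y => ?_⟩
  rw [hm, pow_mul]
  clear hcard hm
  induction m with
  | zero => simp
  | succ m ih => rw [pow_succ' (φ ^ k), MulAut.mul_apply, ih, map_zpow, hscal, ← zpow_mul, pow_succ']

end Cfsg.Agent.OddOrder.PF12
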