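import Cfsg.Agent.OddOrder.PF12.CaseB
import Cfsg.Agent.OddOrder.BG16.Instance
import Cfsg.Agent.OddOrder.PF8.Instance

/-!
# Peterfalvi (12.7): maximal subgroups of Type I are Frobenius groups

The only open input is the absence of maximal subgroups of Type IV (Peterfalvi 11).
-/

set_option autoImplicit false

namespace Cfsg.Agent.OddOrder.PF12

open Subgroup
open Cfsg.Agent Cfsg.Agent.OddOrder

universe u

variable {G : Type u} [Group G] [Finite G]

theorem Inputs.of_hG (hG : Cfsg.IsMinSimpleOddOrder G) : Inputs G :=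
  ⟨hG, BG16.sectionFacts hG, PF8.localFacts hG⟩

/-- A Type I maximal subgroup has `M_F = M_σ`. -/
theorem fittingHallOf_eq_of_kappa (hG : Cfsg.IsMinSimpleOddOrder G) {M : Subgroup G} (hM : IsCoatom M)
    (hκ : Cfsg.kappa M = ∅) : Cfsg.fittingHallOf M = Cfsg.sigmaCore M := by
  by_contra hne
  obtain ⟨K, U, hd⟩ := BG16.decomposition_exists (BG16.sectionFacts hG) hM
  have hp := ((BG16.sectionFacts hG).s1357 M hM K U hd hne).2.2
  rw [(BG16.K_eq_bot_iff hd).2 hκ, card_bot] at hp
  exact Nat.not_prime_one hp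

/-- Without Type IV there is no witness against (12.7). -/
theorem no_witness (hG : Cfsg.IsMinSimpleOddOrder G)
    (hno4 : ∀ M : Subgroup G, IsCoatom M → ¬ Cfsg.IsOfTypeIV M) :
    ∀ (p : ℕ) (L : Subgroup G) (x : G), ¬ IsWitness p L x := by
  intro p
  induction p using Nat.strong_induction_on with
  | _ p ih =>
    intro L x W
    obtain ⟨M, A, y, B⟩ := (Inputs.of_hG hG).exists_base W ih
    by_cases hne : Cfsg.fittingHallOf M = Cfsg.sigmaCore M
    · exact B.false_nilpotent (Inputs.of_hG hG) (hne ▸ BG15.isNilpotent_fittingHallOf M)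
    · exact B.false_nonnilpotent (Inputs.of_hG hG) (hno4 M B.hM) hne

/-- Peterfalvi (12.7). -/
theorem centralizer_le_core (hG : Cfsg.IsMinSimpleOddOrder G)
    (hno4 : ∀ M : Subgroup G, IsCoatom M → ¬ Cfsg.IsOfTypeIV M) {M : Subgroup G} (hM : IsCoatom M)
    (hI : IsTypeI M) :
    ∀ x ∈ Cfsg.fittingHallOf M, x ≠ 1 →
      M ⊓ centralizer ({x} : Set G) ≤ Cfsg.fittingHallOf M := by
  have hκ := ((PF8.localFacts hG).typeI_iff M hM).1 hI
  rw [fittingHallOf_eq_of_kappa hG hM hκ]
  intro x hx hx1 y hy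
  by_contra hyK
  obtain ⟨r, hr, hro, hrσ⟩ : ∃ r : ℕ, r.Prime ∧ r ∣ orderOf y ∧ r ∉ Cfsg.sigma M := by
    by_contra hall
    push Not at hall
    exact hyK (BG15.mem_sigmaCore hG hM hy.1 hall)
  set b := y ^ (orderOf y / r)
  have hbo : orderOf b = r := orderOf_pow_orderOf_div (orderOf_pos y).ne' hro
  exact no_witness hG hno4 r M b ⟨hM, hκ, hr, hbo ▸ pow_orderOf_eq_one b,
    fun h => hr.one_lt.ne (by rw [← hbo, h, orderOf_one]), pow_mem hy.1 _,
    fun h => hrσ (PF8.prime_mem_sigma h hr (by rw [hbo])), x, hx, hx1,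
    (show Commute x y from (mem_centralizer_singleton_iff.1 hy.2).symm).pow_right _⟩

end Cfsg.Agent.OddOrder.PF12
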