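import Cfsg.Agent.OddOrder.PF12.Witness
import Cfsg.Agent.OddOrder.BG15.Fitting
import Cfsg.Agent.OddOrder.BG16.Decomposition
import Cfsg.Agent.S1414
import Cfsg.Agent.S1423

/-!
# Peterfalvi (12.7): the action of `M` on `M_σ`

Elements of `M` of prime order outside `M_σ` have their fixed points in `M_σ'`.
-/

set_option autoImplicit false

namespace Cfsg.Agent.OddOrder.PF12

open Subgroup
open Cfsg.Agent Cfsg.Agent.OddOrder

universe u

variable {G : Type u} [Group G] [Finite G]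
variable {p : ℕ} {L M A : Subgroup G} {x : G}

omit [Finite G] in
theorem centralizer_zpowers (x : G) :
    centralizer (zpowers x : Set G) = centralizer ({x} : Set G) := by
  refine le_antisymm (centralizer_le (Set.singleton_subset_iff.2 (mem_zpowers x))) fun c hc => ?_
  refine mem_centralizer_iff.2 fun y hy => ?_
  obtain ⟨k, rfl⟩ := mem_zpowers_iff.1 hy
  exact ((show Commute x c from (mem_centralizer_singleton_iff.1 hc).symm).zpow_left k).eq

variable (I : Inputs G) (B : Base p L M A x)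
include I B

theorem Base.x_not_derived : x ∉ ⁅Cfsg.sigmaCore M, Cfsg.sigmaCore M⁆ := by
  intro hx
  have : Fact p.Prime := ⟨B.prime⟩
  have P : Sylow p ↥(Cfsg.sigmaCore M) := default
  have h := (Cfsg.Agent.S1423.result I.hG M B.hM p B.sigmaM (zpowers x)
    (zpowers_le.2 (sigmaCore_le M B.xK)) (by rw [Nat.card_zpowers, orderOf_eq_prime B.x_pow B.x_ne])
    P (Or.inr (zpowers_le.2 hx))).1.1
  rw [centralizer_zpowers] at h
  exact B.not_le h

theorem Base.not_beta : p ∉ Cfsg.beta M := by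
  intro hβ
  have : Fact p.Prime := ⟨B.prime⟩
  have P : Sylow p ↥(Cfsg.sigmaCore M) := default
  have h := (Cfsg.Agent.S1423.result I.hG M B.hM p B.sigmaM (zpowers x)
    (zpowers_le.2 (sigmaCore_le M B.xK)) (by rw [Nat.card_zpowers, orderOf_eq_prime B.x_pow B.x_ne])
    P (Or.inl hβ)).1.1
  rw [centralizer_zpowers] at h
  exact B.not_le h

/-- Elements of order `p` in `M_σ'` have centraliser in `M`. -/
theorem Base.derived_centralizer {z : G} (hz : z ∈ ⁅Cfsg.sigmaCore M, Cfsg.sigmaCore M⁆)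
    (hzp : z ^ p = 1) (hz1 : z ≠ 1) : centralizer ({z} : Set G) ≤ M := by
  have : Fact p.Prime := ⟨B.prime⟩
  have hzM : z ∈ M := sigmaCore_le M (Subgroup.commutator_le_self _ hz)
  have P : Sylow p ↥(Cfsg.sigmaCore M) := default
  have h := (Cfsg.Agent.S1423.result I.hG M B.hM p B.sigmaM (zpowers z) (zpowers_le.2 hzM)
    (by rw [Nat.card_zpowers, orderOf_eq_prime hzp hz1]) P (Or.inr (zpowers_le.2 hz))).1.1
  rwa [centralizer_zpowers] at h

/-- `x` is not in `F(M)` when `F(M)` is a TI-subset. -/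
theorem Base.not_mem_fitting (hTI : Cfsg.IsTISubset (Cfsg.fittingOf M : Set G)) :
    x ∉ Cfsg.fittingOf M := by
  intro hx
  have hne : Cfsg.fittingOf M ≠ ⊥ := fun h => B.x_ne (mem_bot.1 (h ▸ hx))
  have hN : normalizer (Cfsg.fittingOf M : Set G) = M :=
    normalizer_eq_max I.hG B.hM (BG15.fittingOf_le M) hne (BG15.le_normalizer_fittingOf M)
  refine B.not_le fun g hg => ?_
  by_contra hgM
  have e : g * x * g⁻¹ = x := by
    rw [mem_centralizer_singleton_iff.1 hg, mul_inv_cancel_right]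
  exact B.x_ne (hTI g (by rw [hN]; exact hgM) x hx (by rw [e]; exact hx))

/-- A non-empty `κ(M)` forces `U = 1`. -/
theorem Base.U_eq_bot {K U : Subgroup G} (hd : Cfsg.IsSigmaDecomposition M K U) (hK : K ≠ ⊥) :
    U = ⊥ := by
  by_contra hU
  obtain ⟨-, hTI, hle⟩ := I.SF.s1372 M B.hM K U hd hK hU
  exact B.not_mem_fitting I hTI (hle B.xK)

theorem Base.prime_not_mem {r : ℕ} (hr : r.Prime) {b : G} (hbM : b ∈ M) (hbr : b ^ r = 1)
    (hbK : b ∉ Cfsg.sigmaCore M) : r ∉ Cfsg.sigma M := fun h =>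
  hbK (BG15.mem_sigmaCore I.hG B.hM hbM fun q hq hd => by
    have hd' := hd.trans (orderOf_dvd_of_pow_eq_one hbr)
    rw [Nat.prime_dvd_prime_iff_eq hq hr] at hd'
    exact hd' ▸ h)

/-- With `κ(M) = ∅` elements of prime order outside `M_σ` act without fixed points. -/
theorem Base.fix_bot_of_kappa (hκ : Cfsg.kappa M = ∅) {r : ℕ} (hr : r.Prime) {b : G} (hbM : b ∈ M)
    (hbr : b ^ r = 1) (hbK : b ∉ Cfsg.sigmaCore M) :
    Cfsg.sigmaCore M ⊓ centralizer ({b} : Set G) = ⊥ := by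
  refine (eq_bot_iff_forall _).2 fun k hk => ?_
  by_contra hk1
  have hb1 : b ≠ 1 := fun h => hbK (h ▸ one_mem _)
  have W : IsWitness r M b := ⟨B.hM, hκ, hr, hbr, hb1, hbM, hbK,
    k, hk.1, hk1, mem_centralizer_singleton_iff.1 hk.2⟩
  obtain ⟨hτ, -⟩ := I.witness_spec W
  have hrσ := B.prime_not_mem I hr hbM hbr hbK
  have hpr : p < r := lt_of_le_of_ne (not_lt.1 fun h => B.min r h M b W) fun h => hrσ (h ▸ B.sigmaM)
  have : Fact r.Prime := ⟨hr⟩
  obtain ⟨R, hRM, hR, hR2⟩ := BG11.exists_elemAb_sq hτ.2.2.2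
  obtain ⟨hnil, -, -, hfix, -⟩ := Cfsg.Agent.S1417.result I.hG M B.hM r hτ R ⟨hRM, hR, hR2⟩
  -- `R` lies in `O_{p'}(M)`
  have hidx := ((Cfsg.Agent.S1414.result I.hG M B.hM).2.2.2.2 p B.prime B.sigmaM.2.1
    (B.not_beta I)).2.2
  set O := Cfsg.pPrimeCore p ↥M
  have hRO : ∀ a (ha : a ∈ R), (⟨a, hRM ha⟩ : M) ∈ O := by
    intro a ha
    have hn : O.Normal := Cfsg.pPrimeCore_normal p M
    rw [← QuotientGroup.eq_one_iff, ← orderOf_eq_one_iff]
    refine Nat.eq_one_of_dvd_coprimes (a := r) (b := O.index) ?_ ?_ ?_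
    · exact (Nat.Prime.coprime_iff_not_dvd hr).2 fun hd => absurd (hidx r hr hd) (_root_.not_le.2 hpr)
    · refine orderOf_dvd_of_pow_eq_one ?_
      rw [← QuotientGroup.mk_pow, show (⟨a, hRM ha⟩ : M) ^ r = 1 from Subtype.ext (hR.2 a ha),
        QuotientGroup.mk_one]
    · rw [Subgroup.index_eq_card]
      exact orderOf_dvd_natCard _
  set O' := O.map M.subtype with hO'
  set T := Cfsg.piCoreOf ({p} : Set ℕ) (Cfsg.sigmaCore M) with hT
  have hxT : x ∈ T := BG15.mem_piCoreOf_of_nilpotent hnil B.xK fun q hq hd => by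
    have : Fact p.Prime := ⟨B.prime⟩
    rw [orderOf_eq_prime B.x_pow B.x_ne, Nat.prime_dvd_prime_iff_eq hq B.prime] at hd
    exact hd
  have hTn : M ≤ normalizer (T : Set G) := BG15.le_normalizer_piCoreOf' (le_normalizer_sigmaCore M)
  have hOn : M ≤ normalizer (O' : Set G) := by
    intro m hm
    refine mem_normalizer_of_conj fun a ha => ?_
    obtain ⟨a, ha, rfl⟩ := ha
    exact ⟨⟨m, hm⟩ * a * ⟨m, hm⟩⁻¹, (Cfsg.pPrimeCore_normal p M).conj_mem a ha _, rfl⟩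
  have hTM : T ≤ M := (piCoreOf_le _ _).trans (sigmaCore_le M)
  have hinf : O' ⊓ T = ⊥ := by
    refine Coprime.inf_eq_bot (Nat.coprime_of_dvd fun q hq h1 h2 => ?_)
    have hqp : q = p := piCoreOf_isPiNumber _ _ q hq h2
    rw [hO', Cores.card_map_eq _ M.subtype_injective, hqp] at h1
    have : Fact p.Prime := ⟨B.prime⟩
    exact Cores.not_dvd_card_pPrimeCore h1
  have hxR : x ∈ centralizer (R : Set G) := mem_centralizer_iff.2 fun a ha => by
    have haO : a ∈ O' := ⟨_, hRO a ha, rfl⟩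
    have haM : a ∈ M := hRM ha
    have h1 : a * x * a⁻¹ * x⁻¹ ∈ O' ⊓ T := by
      refine ⟨?_, mul_mem (Coprime.conj_mem (hTn haM) hxT) (Subgroup.inv_mem _ hxT)⟩
      rw [show a * x * a⁻¹ * x⁻¹ = a * (x * a⁻¹ * x⁻¹) by group]
      exact mul_mem haO (Coprime.conj_mem (hOn (hTM hxT)) (inv_mem haO))
    rw [hinf, mem_bot] at h1
    rwa [mul_inv_eq_one, mul_inv_eq_iff_eq_mul] at h1
  exact B.x_ne (mem_bot.1 (hfix ▸ (⟨B.xK, hxR⟩ : x ∈ Cfsg.sigmaCore M ⊓ centralizer (R : Set G))))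

/-- Elements of prime order outside `M_σ` fix only points of `M_σ'`. -/
theorem Base.fix_le {r : ℕ} (hr : r.Prime) {b : G} (hbM : b ∈ M) (hbr : b ^ r = 1)
    (hbK : b ∉ Cfsg.sigmaCore M) :
    Cfsg.sigmaCore M ⊓ centralizer ({b} : Set G) ≤
      ⁅Cfsg.sigmaCore M, Cfsg.sigmaCore M⁆ := by
  obtain ⟨Kκ, U, hd⟩ := BG16.decomposition_exists I.SF B.hM
  set K := Cfsg.sigmaCore M
  by_cases hκ : Cfsg.kappa M = ∅
  · rw [B.fix_bot_of_kappa I hκ hr hbM hbr hbK]
    exact bot_le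
  have hKκ : Kκ ≠ ⊥ := fun h => hκ ((BG16.K_eq_bot_iff hd).1 h)
  have hU := B.U_eq_bot I hd hKκ
  obtain ⟨hder, hst⟩ := I.SF.s1365 M B.hM Kκ U hd hKκ
  rw [hU, bot_sup_eq] at hder
  rw [hder] at hst
  have hb1 : b ≠ 1 := fun h => hbK (h ▸ one_mem _)
  have : Fact r.Prime := ⟨hr⟩
  have hord := orderOf_eq_prime hbr hb1
  have hrκ : r ∈ Cfsg.kappa M := by
    have h1 : r ∣ Nat.card M := hord ▸ orderOf_dvd_natCard M hbM
    rw [BG16.card_M hd, hU, card_bot, mul_one] at h1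
    refine hd.hall.2.1 r hr ((hr.dvd_mul.1 h1).resolve_right fun h => ?_)
    exact B.prime_not_mem I hr hbM hbr hbK (sigmaCore_isPiNumber M r hr h)
  obtain ⟨m, hm, hle⟩ := BG15.exists_conj_le_hallOf (BG15.solvable I.hG B.hM) hd.hall
    (zpowers_le.2 hbM) fun q hq hdq => by
      rw [Nat.card_zpowers, hord, Nat.prime_dvd_prime_iff_eq hq hr] at hdq
      exact hdq ▸ hrκ
  set b' := m * b * m⁻¹ with hb'
  have hb'K : b' ∈ Kκ := hle ⟨b, mem_zpowers b, rfl⟩
  have hb'1 : b' ≠ 1 := fun h => hb1 (by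
    have h' : m⁻¹ * b' * m = 1 := by rw [h]; group
    rw [hb'] at h'
    rw [← h']
    group)
  intro k hk
  have hmM : m * k * m⁻¹ ∈ M ⊓ centralizer ({b'} : Set G) := by
    refine ⟨mul_mem (mul_mem hm (sigmaCore_le M hk.1)) (Subgroup.inv_mem _ hm), mem_centralizer_singleton_iff.2 ?_⟩
    have hc : k * b = b * k := mem_centralizer_singleton_iff.1 hk.2
    calc m * k * m⁻¹ * (m * b * m⁻¹) = m * (k * b) * m⁻¹ := by group
      _ = m * (b * k) * m⁻¹ := by rw [hc]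
      _ = m * b * m⁻¹ * (m * k * m⁻¹) := by group
  rw [((I.SF.s1354 M B.hM Kκ hd.cyclic hd.hall).2 hKκ b' hb'K hb'1)] at hmM
  obtain ⟨a, ha, c, hc, e⟩ := BG15.exists_of_mem_sup (X := Kκ)
    (N := Cfsg.sigmaCore M ⊓ centralizer (Kκ : Set G)) (fun y hy =>
      mem_normalizer_of_conj fun c hc => by
        rw [show y * c * y⁻¹ = c by
          rw [mem_centralizer_iff.1 hc.2 y hy, mul_inv_cancel_right]]
        exact hc) hmM
  have hmk : m * k * m⁻¹ ∈ K := Coprime.conj_mem (le_normalizer_sigmaCore M hm) hk.1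
  have haK : a = 1 := by
    have h1 : a ∈ K ⊓ Kκ := ⟨by
      rw [show a = m * k * m⁻¹ * c⁻¹ by rw [e]; group]
      exact mul_mem hmk (Subgroup.inv_mem _ hc.1), ha⟩
    rwa [BG16.K_inf_sigma hd, mem_bot] at h1
  rw [haK, one_mul] at e
  have h2 : m * k * m⁻¹ ∈ ⁅K, K⁆ := e ▸ hst hc
  have h3 := Coprime.conj_mem (a := m⁻¹) (show m⁻¹ ∈ normalizer ((⁅K, K⁆ : Subgroup G) : Set G) from
    inv_mem (mem_normalizer_of_conj fun z hz => by
      have h4 : (⁅K, K⁆).map (MulAut.conj m).toMonoidHom = ⁅K, K⁆ := by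
        rw [Subgroup.map_commutator, Coprime.map_conj_eq (le_normalizer_sigmaCore M hm)]
      rw [← h4]
      exact ⟨z, hz, rfl⟩)) h2
  rwa [inv_inv, show m⁻¹ * (m * k * m⁻¹) * m = k by group] at h3

/-- `M/M_σ` acts semiregularly on `M_σ/N` for normal `N` above `M_σ'`. -/
theorem Base.free {N : Subgroup G} (hNK : N ≤ Cfsg.sigmaCore M)
    (hd : ⁅Cfsg.sigmaCore M, Cfsg.sigmaCore M⁆ ≤ N) (hn : M ≤ normalizer (N : Set G)) :
    ∀ b ∈ M, b ∉ Cfsg.sigmaCore M → ∀ k ∈ Cfsg.sigmaCore M, b * k * b⁻¹ * k⁻¹ ∈ N → k ∈ N := by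
  intro b hb hbK k hk hbk
  obtain ⟨r, hr, hro, hrσ⟩ : ∃ r : ℕ, r.Prime ∧ r ∣ orderOf b ∧ r ∉ Cfsg.sigma M := by
    by_contra hall
    push Not at hall
    exact hbK (BG15.mem_sigmaCore I.hG B.hM hb hall)
  have : Fact r.Prime := ⟨hr⟩
  set j := orderOf b / r
  set c := b ^ j with hc
  have hco : orderOf c = r := by
    rw [hc, orderOf_pow_orderOf_div (orderOf_pos b).ne' hro]
  have hcK : c ∉ Cfsg.sigmaCore M := fun h =>
    hrσ (PF8.prime_mem_sigma h hr (by rw [hco]))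
  have hcM : c ∈ M := pow_mem hb j
  have hpow : ∀ i : ℕ, b ^ i * k * (b ^ i)⁻¹ * k⁻¹ ∈ N := by
    intro i
    induction i with
    | zero => simp
    | succ i ih =>
      rw [show b ^ (i + 1) * k * (b ^ (i + 1))⁻¹ * k⁻¹ =
        b ^ i * (b * k * b⁻¹ * k⁻¹) * (b ^ i)⁻¹ * (b ^ i * k * (b ^ i)⁻¹ * k⁻¹) by
          rw [pow_succ]; group]
      exact mul_mem (Coprime.conj_mem (hn (pow_mem hb i)) hbk) ih
  have hcr : c ^ r = 1 := by rw [← hco, pow_orderOf_eq_one]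
  set K := Cfsg.sigmaCore M
  have hcop : (Nat.card (zpowers c)).Coprime (Nat.card K) := by
    rw [Nat.card_zpowers, hco]
    exact (Nat.Prime.coprime_iff_not_dvd hr).2 fun h => hrσ (sigmaCore_isPiNumber M r hr h)
  have hmem := (Coprime.centralizer_sup_eq (A := zpowers c) (K := K)
    ((zpowers_le.2 hcM).trans (le_normalizer_sigmaCore M)) hcop
    (Or.inl (Coprime.isSolvable_zpowers c)) hNK ((sigmaCore_le M).trans hn)
    ((zpowers_le.2 hcM).trans hn) hk).1 fun a ha => by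
      obtain ⟨i, rfl⟩ := (isOfFinOrder_of_finite c).mem_powers_iff_mem_zpowers.2 ha
      simp only [hc, ← pow_mul]
      exact hpow _
  rw [centralizer_zpowers] at hmem
  exact (sup_le ((B.fix_le I hr hcM hcr hcK).trans hd) le_rfl) hmem

theorem Base.e_ge : 3 ≤ (Cfsg.sigmaCore M).relIndex M := by
  have hlt : ¬ M ≤ Cfsg.sigmaCore M := fun h =>
    (I.SF.s1355 M B.hM).2.2.2.1.not_ge (h.trans (I.SF.s1355 M B.hM).2.2.1)
  have hodd : Odd ((Cfsg.sigmaCore M).relIndex M) :=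
    I.hG.1.of_dvd_nat ((relIndex_dvd_card _ _).trans (card_subgroup_dvd_card M))
  obtain ⟨t, ht⟩ := hodd
  by_contra h
  exact hlt (relIndex_eq_one.1 (by omega))

end Cfsg.Agent.OddOrder.PF12
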