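import Cfsg.Agent.OddOrder.PF12.LSide

/-!
# Peterfalvi (12.7): the lower bound on the side of `L`

With `H₁` maximal among the proper `(L ⊓ K)`-invariant subgroups of `H` on whose quotient `x` acts
trivially, the average of `ψ` has the same sum on every coset of `H₁` off `H₁`; that common average is
an integer congruent to `ψ` at the fixed points of `x`.
-/

set_option autoImplicit false

open scoped ComplexConjugate commutatorElement

namespace Cfsg.Agent.OddOrder.PF12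

open Subgroup
open Cfsg.Agent Cfsg.Agent.CharBasic

universe u

variable {G : Type u} [Group G]
theorem mem_normalizer_of_conj [Finite G] {H : Subgroup G} {g : G} (h : ∀ a ∈ H, g * a * g⁻¹ ∈ H) :
    g ∈ normalizer (H : Set G) := by
  refine Coprime.mem_normalizer_of_map_conj (eq_of_le_of_card_ge ?_ (le_of_eq
    (Coprime.card_map_conj g H).symm))
  rintro _ ⟨a, ha, rfl⟩
  simpa using h a ha

variable {p : ℕ} {L M H K N : Subgroup G} {AL : Set G} {RL RM : G → Subgroup G} {x : G}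
variable (S : Setting p L M H K N AL RL RM x)
include S

/-- A maximal invariant proper subgroup of `H` containing the derived group and `[H,x]`. -/
theorem Setting.exists_max_sub [Finite G] :
    ∃ H₁ : Subgroup G, H₁ ≤ H ∧ H₁ ≠ H ∧ ⁅H, H⁆ ≤ H₁ ∧ L ⊓ K ≤ normalizer (H₁ : Set G) ∧
      (∀ h ∈ H, x * h * x⁻¹ * h⁻¹ ∈ H₁) ∧
      ∀ B : Subgroup G, H₁ ≤ B → B ≤ H → B ≠ H → L ⊓ K ≤ normalizer (B : Set G) → B = H₁ := by
  classical
  have hUH : ∀ w ∈ L ⊓ K, ∀ k ∈ H, w * k * w⁻¹ ∈ H := fun w hw k hk =>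
    Coprime.conj_mem (S.Hn hw.1) hk
  -- the generators
  let T : Set G := {g | ∃ h ∈ H, g = x * h * x⁻¹ * h⁻¹}
  let B₀ : Subgroup G := Subgroup.closure T ⊔ ⁅H, H⁆
  have hT : ∀ g ∈ T, g ∈ H := by
    rintro g ⟨h, hh, rfl⟩
    exact mul_mem (hUH x S.x_mem h hh) (inv_mem hh)
  have hB₀H : B₀ ≤ H := sup_le ((Subgroup.closure_le H).2 hT) (Subgroup.commutator_le_self H)
  have hB₀n : L ⊓ K ≤ normalizer (B₀ : Set G) := by
    intro w hw
    refine mem_normalizer_of_conj fun g hg => ?_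
    rw [show w * g * w⁻¹ = (MulAut.conj w).toMonoidHom g by simp]
    have hmap : B₀.map (MulAut.conj w).toMonoidHom ≤ B₀ := by
      rw [Subgroup.map_sup, MonoidHom.map_closure, Subgroup.map_commutator]
      refine sup_le_sup (Subgroup.closure_mono ?_) (Subgroup.commutator_mono ?_ ?_)
      · rintro _ ⟨g, ⟨h, hh, rfl⟩, rfl⟩
        refine ⟨w * h * w⁻¹, hUH w hw h hh, ?_⟩
        have hc : w * x = x * w := S.UK_comm w hw x S.x_mem
        simp only [MulEquiv.coe_toMonoidHom, MulAut.conj_apply]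
        calc w * (x * h * x⁻¹ * h⁻¹) * w⁻¹ = (w * x) * h * (w * x)⁻¹ * (w * h * w⁻¹)⁻¹ := by group
          _ = (x * w) * h * (x * w)⁻¹ * (w * h * w⁻¹)⁻¹ := by rw [hc]
          _ = x * (w * h * w⁻¹) * x⁻¹ * (w * h * w⁻¹)⁻¹ := by group
      all_goals
        rintro _ ⟨h, hh, rfl⟩
        simpa using hUH w hw h hh
    exact hmap (Subgroup.mem_map_of_mem _ hg)
  have hB₀ne : B₀ ≠ H := by
    obtain ⟨h₀, hh₀, hc₀, hn₀⟩ := S.x_fix
    let φ : H →* H := MonoidHom.mk' (fun h => ⟨x * h * x⁻¹, hUH x S.x_mem h h.2⟩)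
      fun a b => Subtype.ext (by simp [mul_assoc])
    let δ : H →* Abelianization H :=
      MonoidHom.mk' (fun h => Abelianization.of (φ h) / Abelianization.of h) fun a b => by
        rw [map_mul, map_mul, map_mul, mul_div_mul_comm]
    let δ' : Abelianization H →* Abelianization H := Abelianization.lift δ
    have hker : Abelianization.of (⟨h₀, hh₀⟩ : H) ≠ (1 : Abelianization H) := fun h => by
      refine hn₀ ?_
      have h' : (⟨h₀, hh₀⟩ : H) ∈ commutator H := (QuotientGroup.eq_one_iff _).1 h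
      rw [← Subgroup.map_subtype_commutator]
      exact ⟨_, h', rfl⟩
    have hns : δ'.range ≠ ⊤ := by
      intro h
      have hinj := Finite.injective_iff_surjective.2 (MonoidHom.range_eq_top.1 h)
      refine hker (hinj ?_)
      rw [map_one]
      show δ ⟨h₀, hh₀⟩ = 1
      show Abelianization.of (φ ⟨h₀, hh₀⟩) / Abelianization.of (⟨h₀, hh₀⟩ : H) = 1
      rw [show φ ⟨h₀, hh₀⟩ = ⟨h₀, hh₀⟩ from Subtype.ext (show x * h₀ * x⁻¹ = h₀ by
        rw [← hc₀.eq, mul_inv_cancel_right]), div_self']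
    intro hEq
    refine hns (eq_top_iff.2 fun q _ => ?_)
    induction q using QuotientGroup.induction_on with | _ a =>
    have hle : B₀ ≤ (δ'.range.comap Abelianization.of).map H.subtype := by
      refine sup_le ((Subgroup.closure_le _).2 ?_) ?_
      · rintro g ⟨h, hh, rfl⟩
        refine ⟨φ ⟨h, hh⟩ * (⟨h, hh⟩ : H)⁻¹, ⟨Abelianization.of (⟨h, hh⟩ : H), ?_⟩, rfl⟩
        show δ ⟨h, hh⟩ = _
        rw [map_mul, map_inv, ← div_eq_mul_inv]
        rfl
      · rw [← Subgroup.map_subtype_commutator]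
        refine Subgroup.map_mono fun g hg => ?_
        show Abelianization.of g ∈ δ'.range
        rw [show Abelianization.of g = (1 : Abelianization H) from (QuotientGroup.eq_one_iff g).2 hg]
        exact one_mem _
    obtain ⟨b, hb, hba⟩ := hle (hEq.symm ▸ a.2 : (a : G) ∈ B₀)
    rw [show b = a from Subtype.ext hba] at hb
    exact hb
  let P : Subgroup G → Prop := fun B => B₀ ≤ B ∧ B ≤ H ∧ B ≠ H ∧ L ⊓ K ≤ normalizer (B : Set G)
  obtain ⟨H₁, hH₁⟩ := Set.Finite.exists_maximal (s := {B | P B}) (Set.toFinite _)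
    ⟨B₀, le_rfl, hB₀H, hB₀ne, hB₀n⟩
  obtain ⟨h1, h2, h3, h4⟩ := hH₁.1
  exact ⟨H₁, h2, h3, le_sup_right.trans h1, h4,
    fun h hh => h1 (mem_sup_left (Subgroup.subset_closure ⟨h, hh, rfl⟩)),
    fun B hB hBH hne hn => le_antisymm (hH₁.2 ⟨h1.trans hB, hBH, hne, hn⟩ hB) hB⟩

variable [Fintype G] [Fintype M] [(K.subgroupOf M).Normal] {n : ℕ} {χ : Fin n → M → ℂ}
  {ψ : Fin n → G → ℂ} (F : FamilyData S χ ψ) (i₀ : Fin n)
include F

/-- `ψ` takes integral values on the Dade support of `H#`. -/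
theorem FamilyData.exists_int_supp {g : G} (hg : g ∈ H43.dadeSupp ((H : Set G) \ {1}) RL) :
    ∃ m : ℤ, ψ i₀ g = m := by
  refine DadeFamily.int_of_eq (by rw [Fintype.card_fin]; exact F.n_ge) F.inj F.closed F.fam
    (fun i j => ?_) i₀
  have h : Cfsg.dadeIsometry ((K : Set G) \ {1}) M RM (χ i - χ j) g = 0 :=
    PF7.dade_eq_zero_of_not_mem fun hmem => Set.disjoint_left.1 S.disj hmem hg
  rw [F.fam.map_sub, Pi.sub_apply, sub_eq_zero] at h
  exact h

/-- The average is an integer on `H#`. -/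
theorem FamilyData.exists_int_rho {a : L} (ha : (a : G) ∈ H) (ha1 : (a : G) ≠ 1) :
    ∃ z : ℤ, PF7.invDade AL L RL (ψ i₀) a = z := by
  classical
  have hA := S.H_sub _ ha ha1
  choose m hm using fun u : RL (a : G) => F.exists_int_supp S i₀ (g := (a : G) * u)
    ⟨_, ⟨ha, ha1⟩, u, u.2, 1, by group⟩
  set q : ℚ := ((∑ u, m u : ℤ) : ℚ) / (Nat.card (RL (a : G)) : ℚ) with hq
  have e : PF7.invDade AL L RL (ψ i₀) a = (q : ℂ) := by
    rw [hq]
    rw [PF7.invDade_apply hA, ← finsum_set_coe_eq_finsum_mem, finsum_eq_sum_of_fintype]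
    push_cast
    rw [div_eq_mul_inv, mul_comm]
    congr 1
    exact Finset.sum_congr rfl fun u _ => hm u
  have hint : IsIntegral ℤ (PF7.invDade AL L RL (ψ i₀) a) := by
    rw [PF7.invDade_apply hA]
    refine avg_isIntegral (F.gen S i₀) (RL (a : G)) (a : G) (mem_normalizer_of_conj ?_)
    intro u hu
    exact S.dadeL.conj_mem_H _ hA _ (Subgroup.mem_centralizer_singleton_iff.2 rfl) u hu
  exact H43.int_of_rat_integral hint e

/-- At a point fixed by `x` the average is congruent to the value. -/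
theorem FamilyData.rho_congP [Fact p.Prime] {a : L} (ha : (a : G) ∈ H) (ha1 : (a : G) ≠ 1)
    (hax : Commute (a : G) x) : CongP p (PF7.invDade AL L RL (ψ i₀) a) (ψ i₀ a) := by
  classical
  have hA := S.H_sub _ ha ha1
  obtain ⟨z, hz⟩ := F.exists_int_rho S i₀ ha ha1
  choose m hm using fun u : RL (a : G) => F.exists_int_supp S i₀ (g := (a : G) * u)
    ⟨_, ⟨ha, ha1⟩, u, u.2, 1, by group⟩
  have hxn : ∀ u ∈ RL (a : G), x * u * x⁻¹ ∈ RL (a : G) := fun u hu =>
    S.dadeL.conj_mem_H _ hA _ (Subgroup.mem_centralizer_singleton_iff.2 hax.eq.symm) u hu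
  have hxinv : ∀ u ∈ RL (a : G), x⁻¹ * u * x ∈ RL (a : G) := fun u hu => by
    simpa using S.dadeL.conj_mem_H _ hA x⁻¹
      (inv_mem (Subgroup.mem_centralizer_singleton_iff.2 hax.eq.symm)) u hu
  let σ : Equiv.Perm (RL (a : G)) :=
    { toFun := fun u => ⟨x * u * x⁻¹, hxn u u.2⟩
      invFun := fun u => ⟨x⁻¹ * u * x, hxinv u u.2⟩
      left_inv := fun u => Subtype.ext (by simp [mul_assoc])
      right_inv := fun u => Subtype.ext (by simp [mul_assoc]) }
  have hσk : ∀ k : ℕ, ∀ u, (((σ ^ k) u : RL (a : G)) : G) = x ^ k * u * (x ^ k)⁻¹ := by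
    intro k
    induction k with
    | zero => intro u; simp
    | succ k ih =>
      intro u
      rw [pow_succ', Equiv.Perm.mul_apply]
      show x * (((σ ^ k) u : RL (a : G)) : G) * x⁻¹ = _
      rw [ih, pow_succ']
      group
  have hσ : σ ^ p ^ 1 = 1 := Equiv.ext fun u => Subtype.ext (by
    rw [hσk, pow_one, S.x_pow]; simp)
  have hfix : ∀ u, σ u = u ↔ u = 1 := by
    intro u
    refine ⟨fun h => Subtype.ext ?_, fun h => by subst h; exact Subtype.ext (by simp [σ])⟩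
    have h' : x * (u : G) * x⁻¹ = u := congrArg Subtype.val h
    have hc : (u : G) ∈ centralizer ({x} : Set G) :=
      Subgroup.mem_centralizer_singleton_iff.2 (mul_inv_eq_iff_eq_mul.1 h').symm
    have h2 : (u : G) ∈ RL (a : G) ⊓ (L ⊓ centralizer ({(a : G)} : Set G)) :=
      ⟨u.2, S.x_cent hc, S.dadeL.le_centralizer _ hA u.2⟩
    rw [S.dadeL.inf_eq_bot _ hA, mem_bot] at h2
    exact h2
  have hmi : ∀ u ∈ (Finset.univ : Finset (RL (a : G))), m (σ u) = m u := by
    intro u _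
    have h1 : (ψ i₀ ((a : G) * (σ u : RL (a : G)))) = ψ i₀ ((a : G) * u) := by
      rw [show (a : G) * ((σ u : RL (a : G)) : G) = x * ((a : G) * u) * x⁻¹ from by
        show (a : G) * (x * u * x⁻¹) = _
        rw [← mul_assoc x, ← hax.eq]
        group]
      exact F.cls S i₀ _ _
    rw [hm, hm] at h1
    exact_mod_cast h1
  obtain ⟨y, hy⟩ := exists_sum_eq_fixed σ hσ Finset.univ (fun i _ => Finset.mem_univ _) m hmi
  obtain ⟨y', hy'⟩ := exists_sum_eq_fixed σ hσ Finset.univ (fun i _ => Finset.mem_univ _)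
    (fun _ => (1 : ℤ)) (fun _ _ => rfl)
  have hfil : (Finset.univ.filter fun u : RL (a : G) => σ u = u) = {1} := by
    ext u
    simp [hfix]
  rw [hfil, Finset.sum_singleton, nsmul_eq_mul] at hy hy'
  rw [Finset.sum_const, Finset.card_univ, nsmul_one, ← Nat.card_eq_fintype_card] at hy'
  have hsum : z * (Nat.card (RL (a : G)) : ℤ) = ∑ u, m u := by
    have h1 := hz
    rw [PF7.invDade_apply hA, ← finsum_set_coe_eq_finsum_mem, finsum_eq_sum_of_fintype,
      inv_mul_eq_iff_eq_mul₀ (Nat.cast_ne_zero.2 Nat.card_pos.ne')] at h1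
    have h2 : ((z * (Nat.card (RL (a : G)) : ℤ) : ℤ) : ℂ) = ((∑ u, m u : ℤ) : ℂ) := by
      push_cast
      rw [mul_comm, ← h1]
      exact (Finset.sum_congr rfl fun u _ => hm u)
    exact_mod_cast h2
  have hm1 : ψ i₀ (a : G) = (m 1 : ℂ) := by simpa using hm 1
  rw [hz, hm1]
  refine ⟨(p : AlgInt) * ((y - z * y' : ℤ) : AlgInt), Ideal.le_radical (Ideal.mul_mem_right _ _
    (Ideal.mem_span_singleton_self _)), ?_⟩
  have h3 : (z : ℤ) - m 1 = (p : ℤ) * (y - z * y') := by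
    linear_combination (-z) * hy' + hsum + hy
  push_cast
  exact_mod_cast h3.symm

/-- The lower bound. -/
theorem FamilyData.kernel_bound [Fintype L] (e₀ : ℕ)
    (he₀ : ∀ c : ℤ, (p : ℤ) ∣ c - (K.relIndex M : ℤ) → (e₀ : ℤ) ^ 2 ≤ c ^ 2)
    (hcg : ∀ r ∈ H, Commute r x → r ≠ 1 → CongP p (ψ i₀ r) (K.relIndex M : ℂ)) :
    10 * (e₀ : ℝ) ^ 2 * (Nat.card H : ℝ) ≤
      11 * ∑ a : L, ‖PF7.invDade ((H : Set G) \ {1}) L RL (ψ i₀) a‖ ^ 2 := by
  classical
  have hpf : Fact p.Prime := ⟨S.prime⟩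
  let := Fintype.ofFinite ↥(Dsub L H K)
  let := Fintype.ofFinite ↥(Hsub L H K)
  have : (Hsub L H K).Normal := S.H_normal
  obtain ⟨H₁, h1H, h1ne, h1c, h1n, h1x, h1max⟩ := S.exists_max_sub
  have hconjH₁ : ∀ a ∈ H, ∀ h ∈ H₁, a * h * a⁻¹ ∈ H₁ := fun a ha h hh => by
    rw [show a * h * a⁻¹ = ⁅a, h⁆ * h by simp [commutatorElement_def]]
    exact mul_mem (h1c (Subgroup.commutator_mem_commutator ha (h1H hh))) hh
  -- `H₁` inside `D` and inside `H`
  set E₁ : Subgroup ↥(Dsub L H K) := H₁.comap (L.subtype.comp (Dsub L H K).subtype) with hE₁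
  have hE₁n : E₁.Normal := ⟨fun c hc d => by
    show ((d : L) : G) * ((c : L) : G) * ((d : L) : G)⁻¹ ∈ H₁
    obtain ⟨h, hh, u, hu, e⟩ := S.sup_mem d.2
    rw [show ((d : L) : G) = h * u from e]
    have := hconjH₁ h hh _ (Coprime.conj_mem (h1n hu) (show ((c : L) : G) ∈ H₁ from hc))
    simpa [mul_assoc] using this⟩
  set N₁ : Subgroup ↥(Hsub L H K) := E₁.subgroupOf (Hsub L H K) with hN₁
  have : N₁.Normal := inferInstance
  let := Fintype.ofFinite ↥N₁
  have hN₁mem : ∀ k : ↥(Hsub L H K), k ∈ N₁ ↔ (((k : ↥(Dsub L H K)) : L) : G) ∈ H₁ :=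
    fun k => Iff.rfl
  let ι : ↥(Hsub L H K) ≃ H :=
    { toFun := fun a => ⟨((a : ↥(Dsub L H K)) : L), a.2⟩
      invFun := fun a => ⟨⟨⟨a, S.HL a.2⟩, mem_sup_left a.2⟩, a.2⟩
      left_inv := fun a => rfl
      right_inv := fun a => rfl }
  have hHcard : Nat.card ↥(Hsub L H K) = Nat.card H := Nat.card_congr ι
  have hodd : Odd (Nat.card ↥(Hsub L H K)) := by
    rw [hHcard]
    exact S.odd.of_dvd_nat (Subgroup.card_subgroup_dvd_card H)
  have hpH : ¬ p ∣ Nat.card ↥(Hsub L H K) := by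
    intro hdvd
    rw [hHcard] at hdvd
    have h1 : p ∣ Nat.card ↥(M ⊓ L) := by
      rw [← orderOf_eq_prime S.x_pow S.x_ne]
      exact Subgroup.orderOf_dvd_natCard _ ⟨S.KM S.x_mem.2, S.x_mem.1⟩
    exact hpf.out.one_lt.ne' (Nat.dvd_one.1 (S.cop ▸ Nat.dvd_gcd hdvd h1))
  have hpodd : Odd p := hpf.out.odd_of_ne_two (by have := S.p_ge; omega)
  -- semiregularity
  have hfree : ∀ d : ↥(Dsub L H K), ¬ (∀ h ∈ Hsub L H K, d * h * d⁻¹ * h⁻¹ ∈ E₁) →
      ∀ h ∈ Hsub L H K, d * h * d⁻¹ * h⁻¹ ∈ E₁ → h ∈ E₁ := by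
    intro d hd h hh hfix
    obtain ⟨a, ha, u, hu, e⟩ := S.sup_mem d.2
    have hiff : ∀ k ∈ H, (((d : L) : G) * k * ((d : L) : G)⁻¹ * k⁻¹ ∈ H₁ ↔
        u * k * u⁻¹ * k⁻¹ ∈ H₁) := by
      intro k hk
      rw [show ((d : L) : G) = a * u from e]
      have hk' : u * k * u⁻¹ ∈ H := Coprime.conj_mem (S.Hn hu.1) hk
      rw [show a * u * k * (a * u)⁻¹ * k⁻¹ =
        ⁅a, u * k * u⁻¹⁆ * (u * k * u⁻¹ * k⁻¹) by simp [commutatorElement_def]; group]
      exact Subgroup.mul_mem_cancel_left _ (h1c (Subgroup.commutator_mem_commutator ha hk'))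
    let Fu : Subgroup G :=
      { carrier := {k | k ∈ H ∧ u * k * u⁻¹ * k⁻¹ ∈ H₁}
        one_mem' := ⟨one_mem _, by simp⟩
        mul_mem' := fun {k l} hk hl => ⟨mul_mem hk.1 hl.1, by
          rw [show u * (k * l) * u⁻¹ * (k * l)⁻¹ =
            (u * k * u⁻¹ * k⁻¹) * (k * (u * l * u⁻¹ * l⁻¹) * k⁻¹) by group]
          exact mul_mem hk.2 (hconjH₁ k hk.1 _ hl.2)⟩
        inv_mem' := fun {k} hk => ⟨inv_mem hk.1, by
          rw [show u * k⁻¹ * u⁻¹ * k⁻¹⁻¹ = k⁻¹ * (u * k * u⁻¹ * k⁻¹)⁻¹ * k⁻¹⁻¹ by group]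
          exact hconjH₁ _ (inv_mem hk.1) _ (inv_mem hk.2)⟩ }
    have hFle : H₁ ≤ Fu := fun k hk => ⟨h1H hk, mul_mem (Coprime.conj_mem (h1n hu) hk) (inv_mem hk)⟩
    have hFn : L ⊓ K ≤ normalizer (Fu : Set G) := fun w hw =>
      mem_normalizer_of_conj fun k hk => by
        refine ⟨Coprime.conj_mem (S.Hn hw.1) hk.1, ?_⟩
        have hc : u * w = w * u := S.UK_comm u hu w hw
        rw [show u * (w * k * w⁻¹) * u⁻¹ * (w * k * w⁻¹)⁻¹ =
            (u * w) * k * (u * w)⁻¹ * (w * k * w⁻¹)⁻¹ by group, hc,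
          show (w * u) * k * (w * u)⁻¹ * (w * k * w⁻¹)⁻¹ = w * (u * k * u⁻¹ * k⁻¹) * w⁻¹ by group]
        exact Coprime.conj_mem (h1n hw) hk.2
    have hFne : Fu ≠ H := fun hEq => hd fun k hk =>
      (hiff _ hk).2 (hEq.symm ▸ (hk : ((k : L) : G) ∈ H) : ((k : L) : G) ∈ Fu).2
    have hFeq := h1max Fu hFle (fun k hk => hk.1) hFne hFn
    show ((h : L) : G) ∈ H₁
    rw [← hFeq]
    exact ⟨hh, (hiff _ hh).1 hfix⟩
  -- the index
  have hidx : 2 * p + 1 ≤ N₁.index := by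
    have hHn1 : H ≤ normalizer (H₁ : Set G) := fun a ha =>
      mem_normalizer_of_conj fun h hh => hconjH₁ a ha h hh
    obtain ⟨b, hb, hbp, h, hh, hbh⟩ := S.no_fix H₁ h1H h1ne hHn1 h1n
    let bd : ↥(Dsub L H K) := ⟨⟨b, hb.1⟩, mem_sup_right hb⟩
    have hcj : ∀ q : ↥(Hsub L H K), bd * q * bd⁻¹ ∈ Hsub L H K := fun q =>
      (inferInstance : (Hsub L H K).Normal).conj_mem _ q.2 bd
    let c : MulAut ↥(Hsub L H K) := MulAut.conjNormal bd
    have hmap : N₁.map c.toMonoidHom = N₁ := by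
      refine Subgroup.eq_of_le_of_card_ge ?_ (le_of_eq (Nat.card_congr
        (N₁.equivMapOfInjective _ c.injective).toEquiv))
      rintro _ ⟨q, hq, rfl⟩
      show (((c q : ↥(Dsub L H K)) : L) : G) ∈ H₁
      rw [MulAut.conjNormal_apply]
      exact Coprime.conj_mem (h1n hb) hq
    let Q := ↥(Hsub L H K) ⧸ N₁
    let := Fintype.ofFinite Q
    let cq : Q ≃* Q := QuotientGroup.congr N₁ N₁ c hmap
    have hcq : ∀ q : ↥(Hsub L H K), cq (q : Q) = ((c q : ↥(Hsub L H K)) : Q) := fun q => rfl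
    have hcpow : ∀ (k : ℕ) (q : ↥(Hsub L H K)),
        ((cq.toEquiv : Equiv.Perm Q) ^ k) (q : Q) = (((c ^ k) q : ↥(Hsub L H K)) : Q) := by
      intro k
      induction k with
      | zero => intro q; rfl
      | succ k ih =>
        intro q
        rw [pow_succ', Equiv.Perm.mul_apply, ih, pow_succ', MulAut.mul_apply]
        exact hcq _
    have hσ : (cq.toEquiv : Equiv.Perm Q) ^ p ^ 1 = 1 := by
      ext q
      induction q using QuotientGroup.induction_on with | _ q =>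
      rw [pow_one, hcpow, ← map_pow, show bd ^ p = 1 from Subtype.ext (Subtype.ext hbp), map_one]
      rfl
    obtain ⟨y, hy⟩ := exists_sum_eq_fixed (cq.toEquiv : Equiv.Perm Q) hσ Finset.univ
      (fun i _ => Finset.mem_univ _) (fun _ => (1 : ℤ)) (fun _ _ => rfl)
    have hfix1 : (Finset.univ.filter fun q : Q => (cq.toEquiv : Equiv.Perm Q) q = q) = {1} := by
      ext q
      simp only [Finset.mem_filter, Finset.mem_univ, true_and, Finset.mem_singleton]
      refine ⟨fun hq => ?_, fun hq => by subst hq; exact map_one cq⟩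
      induction q using QuotientGroup.induction_on with | _ q =>
      refine (QuotientGroup.eq_one_iff q).2 ?_
      have hq' : ((c q * q⁻¹ : ↥(Hsub L H K)) : Q) = 1 := by
        have h0 : ((c q : ↥(Hsub L H K)) : Q) = (q : Q) := hq
        rw [QuotientGroup.mk_mul, QuotientGroup.mk_inv, h0, mul_inv_cancel]
      have hq'' := (QuotientGroup.eq_one_iff _).1 hq'
      refine hfree bd (fun hall => hbh (hall ⟨⟨h, S.HL hh⟩, mem_sup_left hh⟩ hh)) q q.2 ?_
      show bd * (q : ↥(Dsub L H K)) * bd⁻¹ * (q : ↥(Dsub L H K))⁻¹ ∈ E₁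
      have h3 : ((c q * q⁻¹ : ↥(Hsub L H K)) : ↥(Dsub L H K)) ∈ E₁ := hq''
      rw [Subgroup.coe_mul, MulAut.conjNormal_apply, Subgroup.coe_inv] at h3
      exact h3
    rw [hfix1, Finset.sum_singleton, Finset.sum_const, Finset.card_univ, nsmul_one, nsmul_eq_mul,
      ← Nat.card_eq_fintype_card, ← Subgroup.index_eq_card] at hy
    have hne1 : N₁.index ≠ 1 := by
      rw [Ne, Subgroup.index_eq_one, eq_top_iff]
      exact fun htop => h1ne (le_antisymm h1H fun k hk => htop (x := ι.symm ⟨k, hk⟩) trivial)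
    have hne0 : N₁.index ≠ 0 := Subgroup.index_ne_zero_of_finite
    obtain ⟨r, hr⟩ := hodd.of_dvd_nat N₁.index_dvd_card
    obtain ⟨s, hs⟩ := hpodd
    have hy0 : 0 < y := by
      by_contra hle
      push Not at hle
      have : (p : ℤ) * y ≤ 0 := mul_nonpos_of_nonneg_of_nonpos (Nat.cast_nonneg p) hle
      omega
    rcases (Int.lt_iff_add_one_le.1 hy0).eq_or_lt with hy1 | hy2
    · rw [← hy1] at hy
      omega
    · have : (p : ℤ) * 2 ≤ p * y := mul_le_mul_of_nonneg_left (by omega) (Nat.cast_nonneg p)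
      omega
  -- the coset sums
  set Ψ : ↥(Hsub L H K) → ℂ := fun k => psiD L H K AL RL (ψ i₀) k with hΨdef
  have hΨ : ∀ k, Ψ k = PF7.invDade AL L RL (ψ i₀) ((k : ↥(Dsub L H K)) : L) := fun k => if_pos k.2
  have hA1 : (1 : G) ∉ AL := S.dadeL.one_not_mem
  have hΨint : ∀ k, ∃ z : ℤ, Ψ k = z := by
    intro k
    rw [hΨ]
    by_cases hk : (((k : ↥(Dsub L H K)) : L) : G) = 1
    · exact ⟨0, by rw [PF7.invDade_eq_zero (by rw [hk]; exact hA1), Int.cast_zero]⟩
    · exact F.exists_int_rho S i₀ k.2 hk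
  choose zΨ hzΨ using hΨint
  have hnt : ∃ g, g ∉ N₁ := by
    by_contra hall
    push Not at hall
    rw [show N₁ = ⊤ from eq_top_iff.2 fun g _ => hall g, Subgroup.index_top] at hidx
    have := S.p_ge
    omega
  have hab1 : ∀ a b : ↥(Hsub L H K), a * b * a⁻¹ * b⁻¹ ∈ N₁ := fun a b =>
    h1c (Subgroup.commutator_mem_commutator a.2 b.2)
  obtain ⟨l₀, hl₀, hl₀1⟩ : ∃ l : ↥(Hsub L H K) →* ℂˣ, (∀ a ∈ N₁, l a = 1) ∧ l ≠ 1 := by
    by_contra hall
    push Not at hall
    have h1 := card_homs_trivial N₁ hab1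
    have : Subsingleton {l : ↥(Hsub L H K) →* ℂˣ // ∀ a ∈ N₁, l a = 1} :=
      ⟨fun a b => Subtype.ext ((hall _ a.2).trans (hall _ b.2).symm)⟩
    have h2 := Finite.card_le_one_iff_subsingleton.2 this
    have := S.p_ge
    omega
  set C := ∑ k, Ψ k * conj (l₀ k : ℂ) with hC
  have hcoef : ∀ l : ↥(Hsub L H K) →* ℂˣ, (∀ a ∈ N₁, l a = 1) → l ≠ 1 →
      ∑ k, Ψ k * conj (l k : ℂ) = C := fun l hl hl1 =>
    fourier_eq (Hsub L H K) (Usub L H K) S.D_compl S.D_inf S.D_ab (F.psiD_cls S i₀)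
      (F.perp S i₀) E₁ (fun a ha b hb => h1c (Subgroup.commutator_mem_commutator ha hb))
      hfree (fun k hk => hl k hk) (fun k hk => hl₀ k hk) hl1 hl₀1
  have hcos : ∀ g, g ∉ N₁ → (N₁.index : ℂ) * ∑ a : N₁, Ψ (g * a) = (∑ k, Ψ k) - C := fun g hg =>
    coset_sum_eq N₁ hab1 Ψ C hcoef hg
  obtain ⟨g₀, hg₀⟩ := hnt
  set s : ℤ := ∑ a : N₁, zΨ (g₀ * a) with hs
  have hs' : ∀ g, g ∉ N₁ → ∑ a : N₁, Ψ (g * a) = (s : ℂ) := by
    intro g hg
    have h0 : ∑ a : N₁, Ψ (g₀ * a) = (s : ℂ) := by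
      rw [hs, Int.cast_sum]
      exact Finset.sum_congr rfl fun a _ => hzΨ _
    rw [← h0]
    exact mul_left_cancel₀ (Nat.cast_ne_zero.2 Subgroup.index_ne_zero_of_finite)
      ((hcos g hg).trans (hcos g₀ hg₀).symm)
  have hdiff : (∑ k, Ψ k) - C = (N₁.index : ℂ) * s := by rw [← hcos g₀ hg₀, hs' g₀ hg₀]
  -- the common average is an integer
  obtain ⟨c₀, hc₀⟩ : ∃ c : ℤ, s = c * (Nat.card N₁ : ℤ) := by
    set θ : ↥(Hsub L H K) → ℂ := fun k => (l₀ k : ℂ) - 1 with hθ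
    set f := Cfsg.indFun (Hsub L H K) θ with hf
    set Fi := Cfsg.indFun (Dsub L H K) f with hFi
    have hfgen : Cfsg.IsGeneralizedCharacter ↥(Dsub L H K) f :=
      CharInduce.IsGen.ind _ (H43.gen_sub (H43.gen_of_char (CharInduce.isCharacter_hom l₀))
        (H43.gen_of_char CharInduce.IsChar.one))
    have hgen : Cfsg.IsGeneralizedCharacter L Fi := CharInduce.IsGen.ind _ hfgen
    have hcl := CharInduce.IsGen.isClassFunction hgen
    have hfval : ∀ d, f d ≠ 0 → ((d : L) : G) ∈ H ∧ ((d : L) : G) ≠ 1 := by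
      intro d hd
      refine ⟨by_contra fun hdH => hd (CharInduce.indFun_eq_zero_of_normal _ θ fun h => hdH h),
        fun h => hd ?_⟩
      rw [show d = 1 from Subtype.ext (Subtype.ext h), hf, CharInduce.indFun_one]
      simp [θ]
    have hsupp : ∀ a : L, (a : G) ∉ AL → Fi a = 0 := by
      intro a ha
      rw [hFi, CharInduce.indFun_apply]
      refine mul_eq_zero_of_right _ (Finset.sum_eq_zero fun y _ => ?_)
      by_cases hy : y⁻¹ * a * y ∈ Dsub L H K
      · rw [CharInduce.extendByZero_of_mem _ hy]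
        by_contra h0
        have h1 := S.dadeL.conj_mem y y.2 _ (S.H_sub _ (hfval _ h0).1 (hfval _ h0).2)
        exact ha (by simpa [mul_assoc] using h1)
      · rw [CharInduce.extendByZero_of_not_mem _ hy]
    obtain ⟨z, hz⟩ := int_inner_signed (H43.dade_virtual S.dadeL hgen hsupp) (F.fam.signed i₀)
    rw [PF7.classInner_invDade S.dadeL hcl hsupp (F.cls S i₀), hFi,
      CharInduce.classInner_indFun_left _ f _ (PF7.invDade_isClassFunction S.dadeL (F.cls S i₀)),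
      hf, CharInduce.classInner_indFun_left _ θ _ (fun a d =>
        PF7.invDade_isClassFunction S.dadeL (F.cls S i₀) (a : L) (d : L)), classInner_def] at hz
    refine ⟨-z, ?_⟩
    have hreal : ∀ k, conj (Ψ k) = Ψ k := fun k => by rw [hzΨ, map_intCast]
    have hsum : ∑ k : ↥(Hsub L H K), θ k * conj (PF7.invDade AL L RL (ψ i₀)
        ((k : ↥(Dsub L H K)) : L)) = conj (C - ∑ k, Ψ k) := by
      rw [map_sub, hC, map_sum, map_sum, ← Finset.sum_sub_distrib]
      refine Finset.sum_congr rfl fun k _ => ?_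
      rw [← hΨ, map_mul, hreal, Complex.conj_conj]
      simp only [θ]
      ring
    rw [hsum, show C - ∑ k, Ψ k = -((N₁.index : ℂ) * s) by linear_combination -hdiff, map_neg,
      map_mul, map_natCast, map_intCast, inv_mul_eq_iff_eq_mul₀ (Nat.cast_ne_zero.2 Nat.card_pos.ne'),
      ← N₁.index_mul_card, Nat.cast_mul] at hz
    have h0 : (N₁.index : ℂ) ≠ 0 := Nat.cast_ne_zero.2 Subgroup.index_ne_zero_of_finite
    have h3 : (s : ℂ) = -((Nat.card N₁ : ℂ) * z) := by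
      refine mul_left_cancel₀ h0 ?_
      linear_combination -hz
    have h4 : (s : ℂ) = ((-z * (Nat.card N₁ : ℤ) : ℤ) : ℂ) := by
      rw [h3]; push_cast; ring
    exact_mod_cast h4
  -- congruence at a fixed point
  have hdvd : (p : ℤ) ∣ c₀ - (K.relIndex M : ℤ) := by
    let xd : ↥(Dsub L H K) := ⟨⟨x, S.x_mem.1⟩, mem_sup_right S.x_mem⟩
    let c : MulAut ↥(Hsub L H K) := MulAut.conjNormal xd
    have hval : ∀ q, (((c q : ↥(Dsub L H K)) : L) : G) =
        x * (((q : ↥(Dsub L H K)) : L) : G) * x⁻¹ := fun q => by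
      rw [MulAut.conjNormal_apply]
      rfl
    let s₀ : Finset ↥(Hsub L H K) := Finset.univ.filter (fun k => g₀⁻¹ * k ∈ N₁)
    have hinv : ∀ k ∈ s₀, c k ∈ s₀ := by
      intro k hk
      simp only [s₀, Finset.mem_filter, Finset.mem_univ, true_and] at hk ⊢
      have hkk : k⁻¹ * c k ∈ N₁ := by
        rw [hN₁mem]
        push_cast
        rw [hval]
        have h0 := hconjH₁ _ (inv_mem k.2) _ (h1x _ k.2)
        simpa [mul_assoc] using h0
      rw [show g₀⁻¹ * c k = g₀⁻¹ * k * (k⁻¹ * c k) by group]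
      exact mul_mem hk hkk
    have hcp : (c.toEquiv : Equiv.Perm ↥(Hsub L H K)) ^ p ^ 1 = 1 := by
      have hp' : ∀ (k : ℕ) q, ((c.toEquiv : Equiv.Perm ↥(Hsub L H K)) ^ k) q = (c ^ k) q := by
        intro k
        induction k with
        | zero => intro q; rfl
        | succ k ih =>
          intro q
          rw [pow_succ', Equiv.Perm.mul_apply, ih, pow_succ', MulAut.mul_apply]
          rfl
      refine Equiv.ext fun q => ?_
      rw [pow_one, hp', ← map_pow, show xd ^ p = 1 from Subtype.ext (Subtype.ext S.x_pow), map_one]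
      rfl
    have hΨc : ∀ k ∈ s₀, zΨ ((c.toEquiv : Equiv.Perm ↥(Hsub L H K)) k) = zΨ k := by
      intro k _
      have h0 : Ψ (c k) = Ψ k := by
        simp only [hΨdef]
        rw [MulAut.conjNormal_apply]
        exact F.psiD_cls S i₀ _ _
      rw [hzΨ, hzΨ] at h0
      exact_mod_cast h0
    obtain ⟨y, hy⟩ := exists_sum_eq_fixed (c.toEquiv : Equiv.Perm ↥(Hsub L H K)) hcp s₀ hinv zΨ hΨc
    obtain ⟨y', hy'⟩ := exists_sum_eq_fixed (c.toEquiv : Equiv.Perm ↥(Hsub L H K)) hcp s₀ hinv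
      (fun _ => (1 : ℤ)) (fun _ _ => rfl)
    set fx := s₀.filter (fun k => (c.toEquiv : Equiv.Perm ↥(Hsub L H K)) k = k) with hfx
    have hbij : ∀ {R : Type} [AddCommMonoid R] (W : ↥(Hsub L H K) → R),
        ∑ k ∈ s₀, W k = ∑ a : N₁, W (g₀ * a) := fun {R} _ W =>
      (Finset.sum_bij (fun (a : N₁) _ => g₀ * (a : ↥(Hsub L H K))) (fun a _ => by simp [s₀])
        (fun a _ b _ e => Subtype.ext (mul_left_cancel e))
        (fun k hk => ⟨⟨g₀⁻¹ * k, (Finset.mem_filter.1 hk).2⟩, Finset.mem_univ _, by simp⟩)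
        fun a _ => rfl).symm
    rw [hbij, ← hs, nsmul_eq_mul] at hy
    rw [hbij, Finset.sum_const, Finset.card_univ, nsmul_one, nsmul_eq_mul,
      ← Nat.card_eq_fintype_card, Finset.sum_const, nsmul_one] at hy'
    have hfe : ∀ k ∈ fx, (p : ℤ) ∣ zΨ k - (K.relIndex M : ℤ) := by
      intro k hk
      obtain ⟨hk0, hk1⟩ := Finset.mem_filter.1 hk
      simp only [s₀, Finset.mem_filter, Finset.mem_univ, true_and] at hk0
      have hkne : (((k : ↥(Dsub L H K)) : L) : G) ≠ 1 := by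
        intro h
        refine hg₀ ?_
        rw [show k = 1 from Subtype.ext (Subtype.ext (Subtype.ext h)), mul_one] at hk0
        exact inv_mem_iff.1 hk0
      have hcom : Commute (((k : ↥(Dsub L H K)) : L) : G) x := by
        have h0 := hval k
        rw [show (c k : ↥(Hsub L H K)) = k from hk1] at h0
        exact (mul_inv_eq_iff_eq_mul.1 h0.symm).symm
      have h2 : CongP p (Ψ k) (K.relIndex M : ℂ) :=
        (hΨ k).symm ▸ (F.rho_congP S i₀ k.2 hkne hcom).trans (hcg _ k.2 hcom hkne)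
      rw [hzΨ] at h2
      exact CongP.int_dvd (by simpa using h2)
    have hfd := Finset.dvd_sum hfe
    rw [Finset.sum_sub_distrib, Finset.sum_const, nsmul_eq_mul] at hfd
    have hprod : (p : ℤ) ∣ (c₀ - (K.relIndex M : ℤ)) * (Nat.card N₁ : ℤ) := by
      rw [sub_mul, ← hc₀, hy, hy']
      obtain ⟨t, ht⟩ := hfd
      exact ⟨t + y - (K.relIndex M : ℤ) * y', by linear_combination ht⟩
    refine ((Nat.prime_iff_prime_int.1 hpf.out).dvd_or_dvd hprod).resolve_right fun h => hpH ?_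
    exact (Int.natCast_dvd_natCast.1 h).trans (Subgroup.card_subgroup_dvd_card N₁)
  -- the bound
  have he := he₀ c₀ hdvd
  set T := Finset.univ.filter (fun k : ↥(Hsub L H K) => k ∉ N₁) with hT
  have hTsum : ∑ k ∈ T, Ψ k = (T.card : ℂ) * ((c₀ : ℝ) : ℂ) := by
    refine mul_left_cancel₀ (CharInduce.card_ne_zero_complex N₁) ?_
    have h1 := card_mul_sum_mul N₁ (W := fun k => if k ∈ N₁ then 0 else (1 : ℂ)) (fun g a ha => by
      simp only [Subgroup.mul_mem_cancel_right _ ha]) Ψ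
    simp only [ite_mul, zero_mul, one_mul] at h1
    rw [Finset.sum_ite, Finset.sum_const_zero, zero_add, Finset.sum_ite, Finset.sum_const_zero,
      zero_add, Finset.sum_congr rfl fun g hg => hs' g (Finset.mem_filter.1 hg).2,
      Finset.sum_const, nsmul_eq_mul, hc₀] at h1
    rw [hT, h1]
    push_cast
    ring
  have hlow := sq_le_sum_norm_sq T Ψ (c₀ : ℝ) hTsum
  have hTcard : (T.card : ℝ) = (Nat.card H : ℝ) - Nat.card N₁ := by
    rw [eq_sub_iff_add_eq, ← hHcard, hT, Nat.card_eq_fintype_card, Nat.card_eq_fintype_card,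
      Fintype.card_of_subtype (Finset.univ.filter fun k => k ∈ N₁) (by simp), ← Nat.cast_add,
      add_comm, Finset.card_filter_add_card_filter_not, Finset.card_univ]
  have hup : ∑ k ∈ T, ‖Ψ k‖ ^ 2 ≤ ∑ a : L, ‖PF7.invDade ((H : Set G) \ {1}) L RL (ψ i₀) a‖ ^ 2 := by
    have hT1 : ∀ k ∈ T, (((k : ↥(Dsub L H K)) : L) : G) ≠ 1 := fun k hk h =>
      (Finset.mem_filter.1 hk).2 ((hN₁mem k).2 (h ▸ H₁.one_mem))
    rw [Finset.sum_congr rfl (fun k hk => show ‖Ψ k‖ ^ 2 =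
        ‖PF7.invDade ((H : Set G) \ {1}) L RL (ψ i₀) ((k : ↥(Dsub L H K)) : L)‖ ^ 2 by
      rw [hΨ, PF7.invDade, PF7.invDade, if_pos (S.H_sub (((k : ↥(Dsub L H K)) : L) : G) k.2 (hT1 k hk)),
        if_pos (show (((k : ↥(Dsub L H K)) : L) : G) ∈ (H : Set G) \ {1} from ⟨k.2, hT1 k hk⟩)]),
      ← Finset.sum_image (f := fun a : L => ‖PF7.invDade ((H : Set G) \ {1}) L RL (ψ i₀) a‖ ^ 2)
        (g := fun k : ↥(Hsub L H K) => ((k : ↥(Dsub L H K)) : L))
        fun a _ b _ e => Subtype.ext (Subtype.ext e)]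
    exact Finset.sum_le_sum_of_subset_of_nonneg (Finset.subset_univ _) fun _ _ _ => by positivity
  have hI : (N₁.index : ℝ) * Nat.card N₁ = Nat.card H := by
    rw [← hHcard]
    exact_mod_cast N₁.index_mul_card
  have h11 : (11 : ℝ) ≤ N₁.index := by
    have := S.p_ge
    exact_mod_cast (by omega : 11 ≤ N₁.index)
  have hce : (e₀ : ℝ) ^ 2 ≤ (c₀ : ℝ) ^ 2 := by exact_mod_cast he
  rw [hTcard] at hlow
  nlinarith [mul_le_mul_of_nonneg_right h11 (Nat.cast_nonneg (Nat.card N₁) : (0 : ℝ) ≤ _),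
    sq_nonneg (c₀ : ℝ), sq_nonneg (e₀ : ℝ)]

end Cfsg.Agent.OddOrder.PF12
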