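import Mathlib
import Cfsg.Agent.Coprime.Basic
import Cfsg.Agent.OddOrder.PF12.Kernel
import Cfsg.Agent.OddOrder.PF12.Plane
import Cfsg.Agent.OddOrder.BG15.Decomp

/-!
# Auxiliary facts on coprime actions on small `p`-groups
-/

set_option autoImplicit false
set_option linter.unusedVariables false

namespace Cfsg.Agent.OddOrder.PF12

open Subgroup
open Cfsg.Agent Cfsg.Agent.OddOrder
open scoped commutatorElement

universe u

variable {G : Type u} [Group G]

theorem conj_pow_zpow {a x : G} {i : ℤ} (h : a * x * a⁻¹ = x ^ i) (n : ℕ) :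
    a ^ n * x * (a ^ n)⁻¹ = x ^ (i ^ n) := by
  induction n with
  | zero => simp
  | succ n ih =>
    rw [pow_succ a n, show a ^ n * a * x * (a ^ n * a)⁻¹ = a ^ n * (a * x * a⁻¹) * (a ^ n)⁻¹ by group,
      h, ← conj_zpow, ih, ← zpow_mul, pow_succ]

/-- An element acting as a power on a cyclic group of order `p` has a fixed `(p - 1)`-st power. -/
theorem commute_pow_pred {p : ℕ} (hp : p.Prime) {a x : G} {i : ℤ} (hxp : x ^ p = 1)
    (h : a * x * a⁻¹ = x ^ i) : Commute (a ^ (p - 1)) x := by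
  have : Fact p.Prime := ⟨hp⟩
  rcases eq_or_ne x 1 with rfl | hx
  · exact Commute.one_right _
  have hord : orderOf x = p := orderOf_eq_prime hxp hx
  have hip : ¬ (p : ℤ) ∣ i := fun hd => by
    rw [← hord, orderOf_dvd_iff_zpow_eq_one, ← h, conj_eq_one_iff] at hd
    exact hx hd
  have hcop : IsCoprime i (p : ℤ) :=
    ((Prime.coprime_iff_not_dvd (Nat.prime_iff_prime_int.1 hp)).2 hip).symm
  have hx1 : x ^ (i ^ (p - 1)) = x ^ (1 : ℤ) := by
    rw [zpow_eq_zpow_iff_modEq, hord]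
    exact Int.ModEq.pow_card_sub_one_eq_one hp hcop
  rw [← conj_pow_zpow h, zpow_one, mul_inv_eq_iff_eq_mul] at hx1
  exact hx1

/-- A coprime element fixing an element of order `p` of a cyclic `p`-group centralises it. -/
theorem commute_of_cyclic [Finite G] {p : ℕ} (hp : p.Prime) {a g z : G} {c : ℤ} {m : ℕ}
    (hg : g ^ p ^ m = 1) (hc : a * g * a⁻¹ = g ^ c) (hz : z ∈ zpowers g) (hzo : orderOf z = p)
    (haz : Commute a z) (hco : (orderOf a).Coprime p) : Commute a g := by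
  obtain ⟨k, rfl⟩ := mem_zpowers_iff.1 hz
  have h1 : (g ^ k) ^ c = g ^ k := by
    rw [← zpow_mul, mul_comm, zpow_mul, ← hc, conj_zpow, haz.eq, mul_inv_cancel_right]
  have h2 : (p : ℤ) ∣ c - 1 := by
    have h := orderOf_dvd_iff_zpow_eq_one.2
      (show (g ^ k) ^ (c - 1) = 1 by rw [zpow_sub_one, h1, mul_inv_cancel])
    rwa [hzo] at h
  have h3 : (p : ℤ) ^ (m + 1) ∣ c ^ p ^ m - (1 : ℤ) ^ p ^ m := dvd_sub_pow_of_dvd_sub h2 m
  rw [one_pow] at h3
  obtain ⟨t, ht⟩ := h3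
  have h4 : a ^ p ^ m * g * (a ^ p ^ m)⁻¹ = g := by
    rw [conj_pow_zpow hc,
      show c ^ p ^ m = 1 + ((p ^ m : ℕ) : ℤ) * ((p : ℤ) * t) by
        push_cast; linear_combination ht,
      zpow_add, zpow_one, zpow_mul, zpow_natCast, hg, one_zpow, mul_one]
  obtain ⟨n, hn⟩ := exists_pow_eq_self_of_coprime (x := a) (n := p ^ m) (hco.symm.pow_left m)
  rw [← hn]
  exact (show Commute (a ^ p ^ m) g from mul_inv_eq_iff_eq_mul.1 h4).pow_left n

/-- Conjugation restricted to a normalised subgroup. -/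
def conjAut {V : Subgroup G} {d : G} (hd : d ∈ normalizer (V : Set G)) : MulAut V where
  toFun v := ⟨d * v * d⁻¹, Coprime.conj_mem hd v.2⟩
  invFun v := ⟨d⁻¹ * v * d, by simpa using Coprime.conj_mem (inv_mem hd) v.2⟩
  left_inv v := Subtype.ext (by simp only; group)
  right_inv v := Subtype.ext (by simp only; group)
  map_mul' v w := Subtype.ext (by simp only [coe_mul]; group)

theorem conjAut_apply {V : Subgroup G} {d : G} (hd : d ∈ normalizer (V : Set G)) (v : V) :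
    (conjAut hd v : G) = d * v * d⁻¹ := rfl

/-- A coprime element acting on an abelian section `p × p`. -/
theorem plane_action [Finite G] {p : ℕ} (hp : p.Prime) {V W : Subgroup G} {d : G}
    (hdV : d ∈ normalizer (V : Set G)) (hdW : d ∈ normalizer (W : Set G)) (hWV : W ≤ V)
    (hVW : V ≤ normalizer (W : Set G))
    (hab : ∀ a ∈ V, ∀ b ∈ V, a * b * a⁻¹ * b⁻¹ ∈ W) (hexp : ∀ a ∈ V, a ^ p ∈ W)
    (hidx : W.relIndex V = p ^ 2) (hco : (orderOf d).Coprime p) :
    (∀ v ∈ V, d ^ (p - 1) * v * (d ^ (p - 1))⁻¹ * v⁻¹ ∈ W) ∨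
      ∃ i : ℤ, ∀ v ∈ V, ∃ w ∈ W, d ^ (p + 1) * v * (d ^ (p + 1))⁻¹ = v ^ i * w := by
  classical
  have : Fact p.Prime := ⟨hp⟩
  have : (W.subgroupOf V).Normal := normal_subgroupOf_of_le_normalizer hVW
  let inst : CommGroup (V ⧸ W.subgroupOf V) :=
    { (inferInstance : Group (V ⧸ W.subgroupOf V)) with
      mul_comm := fun a b => by
        induction a using QuotientGroup.induction_on with | _ a =>
        induction b using QuotientGroup.induction_on with | _ b =>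
        rw [← QuotientGroup.mk_mul, ← QuotientGroup.mk_mul, QuotientGroup.eq, mem_subgroupOf]
        have h : ((b⁻¹ : V) : G) * ((a⁻¹ : V) : G) * ((b⁻¹ : V) : G)⁻¹ * ((a⁻¹ : V) : G)⁻¹ ∈ W :=
          hab _ (b⁻¹).2 _ (a⁻¹).2
        convert h using 1
        push_cast
        group }
  have hmap : (W.subgroupOf V).map (conjAut hdV : V →* V) = W.subgroupOf V := by
    refine eq_of_le_of_card_ge ?_
      (Nat.card_congr ((W.subgroupOf V).equivMapOfInjective _ (conjAut hdV).injective).toEquiv).le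
    rintro _ ⟨v, hv, rfl⟩
    exact Coprime.conj_mem hdW hv
  let φ : MulAut (V ⧸ W.subgroupOf V) :=
    QuotientGroup.congr (W.subgroupOf V) (W.subgroupOf V) (conjAut hdV) hmap
  have hpowV : ∀ n : ℕ, d ^ n ∈ normalizer (V : Set G) := fun n => pow_mem hdV n
  have hφ : ∀ (n : ℕ) (v : V),
      (φ ^ n) (v : V ⧸ W.subgroupOf V) = ((conjAut (hpowV n) v : V) : V ⧸ W.subgroupOf V) := by
    intro n
    induction n with
    | zero =>
      intro v
      rw [pow_zero, MulAut.one_apply]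
      exact congrArg _ (Subtype.ext (by rw [conjAut_apply]; group))
    | succ n ih =>
      intro v
      rw [pow_succ' φ, MulAut.mul_apply, ih]
      refine (QuotientGroup.congr_mk _ _ (conjAut hdV) hmap _).trans ?_
      exact congrArg _ (Subtype.ext (by rw [conjAut_apply, conjAut_apply, conjAut_apply, pow_succ' d]; group))
  have hφo : φ ^ orderOf d = 1 := by
    refine MulEquiv.ext fun q => ?_
    induction q using QuotientGroup.induction_on with | _ v =>
    rw [hφ, MulAut.one_apply]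
    exact congrArg _ (Subtype.ext (by rw [conjAut_apply, pow_orderOf_eq_one]; group))
  have hexpQ : ∀ q : V ⧸ W.subgroupOf V, q ^ p = 1 := by
    intro q
    induction q using QuotientGroup.induction_on with | _ v =>
    rw [← QuotientGroup.mk_pow, QuotientGroup.eq_one_iff, mem_subgroupOf, SubmonoidClass.coe_pow]
    exact hexp v v.2
  have hcard : Nat.card (V ⧸ W.subgroupOf V) = p ^ 2 := hidx
  rcases plane_aut (p := p) hexpQ hcard φ
    (hco.coprime_dvd_left (orderOf_dvd_of_pow_eq_one hφo)) with h | ⟨i, hi⟩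
  · refine Or.inl fun v hv => ?_
    have h1 := hφ (p - 1) ⟨v, hv⟩
    rw [h, MulAut.one_apply, QuotientGroup.eq, mem_subgroupOf] at h1
    simp only [coe_mul, coe_inv, conjAut_apply] at h1
    have h2 := Coprime.conj_mem (hVW hv) h1
    rwa [show v * (v⁻¹ * (d ^ (p - 1) * v * (d ^ (p - 1))⁻¹)) * v⁻¹ =
      d ^ (p - 1) * v * (d ^ (p - 1))⁻¹ * v⁻¹ by group] at h2
  · refine Or.inr ⟨i, fun v hv => ?_⟩
    have h1 := hi (⟨v, hv⟩ : V)
    rw [hφ, ← QuotientGroup.mk_zpow, eq_comm, QuotientGroup.eq, mem_subgroupOf] at h1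
    simp only [coe_mul, coe_inv, coe_zpow, conjAut_apply] at h1
    exact ⟨_, h1, by group⟩

/-- A power of an element acting as a power modulo a central subgroup acts as a power. -/
theorem scal_pow {V W : Subgroup G} {d : G} {i : ℤ} (hdW : d ∈ normalizer (W : Set G))
    (hcen : ∀ w ∈ W, ∀ v ∈ V, Commute w v) (h : ∀ v ∈ V, ∃ w ∈ W, d * v * d⁻¹ = v ^ i * w)
    (j : ℕ) : ∀ v ∈ V, ∃ w ∈ W, d ^ j * v * (d ^ j)⁻¹ = v ^ (i ^ j) * w := by
  induction j with
  | zero => intro v _; exact ⟨1, one_mem _, by simp⟩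
  | succ j ih =>
    intro v hv
    obtain ⟨w₁, hw₁, e₁⟩ := h v hv
    obtain ⟨w, hw, e⟩ := ih v hv
    refine ⟨w₁ ^ (i ^ j) * (d * w * d⁻¹),
      mul_mem (zpow_mem hw₁ _) (Coprime.conj_mem hdW hw), ?_⟩
    rw [show d ^ (j + 1) * v * (d ^ (j + 1))⁻¹ = d * (d ^ j * v * (d ^ j)⁻¹) * d⁻¹ by
      rw [pow_succ']; group, e, ← conj_mul, ← conj_zpow, e₁,
      ((hcen w₁ hw₁ _ (zpow_mem hv i)).symm).mul_zpow, ← zpow_mul, pow_succ', mul_assoc]

/-- Powers in a group of class two. -/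
theorem conj_zpow_central {x y c : G} (hcx : Commute c x) (hcy : Commute c y)
    (h : y * x * y⁻¹ = c * x) (a b : ℤ) : y ^ a * x ^ b * (y ^ a)⁻¹ = c ^ (a * b) * x ^ b := by
  have hb : y * x ^ b * y⁻¹ = c ^ b * x ^ b := by rw [← conj_zpow, h, hcx.mul_zpow]
  have hcy' : y * c ^ b * y⁻¹ = c ^ b := by
    rw [((hcy.zpow_left b).symm).eq, mul_inv_cancel_right]
  induction a using Int.induction_on with
  | zero => simp
  | succ a ih =>
    rw [show (y : G) ^ ((a : ℤ) + 1) * x ^ b * (y ^ ((a : ℤ) + 1))⁻¹ =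
      y * (y ^ (a : ℤ) * x ^ b * (y ^ (a : ℤ))⁻¹) * y⁻¹ by rw [add_comm, zpow_add, zpow_one]; group,
      ih, ← conj_mul, hb, ← mul_assoc,
      show y * c ^ ((a : ℤ) * b) * y⁻¹ = c ^ ((a : ℤ) * b) by
        rw [((hcy.zpow_left _).symm).eq, mul_inv_cancel_right], ← zpow_add]
    congr 2
    ring
  | pred a ih =>
    have hinv : y⁻¹ * x ^ b * y = c ^ (-b) * x ^ b := by
      calc y⁻¹ * x ^ b * y = y⁻¹ * ((c ^ b)⁻¹ * (y * x ^ b * y⁻¹)) * y := by rw [hb]; group
        _ = y⁻¹ * (c ^ b)⁻¹ * y * x ^ b := by group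
        _ = _ := by
          rw [mul_assoc y⁻¹, (((hcy.zpow_left b).inv_left)).eq, inv_mul_cancel_left, zpow_neg]
    rw [show (y : G) ^ (-(a : ℤ) - 1) * x ^ b * (y ^ (-(a : ℤ) - 1))⁻¹ =
      y⁻¹ * (y ^ (-(a : ℤ)) * x ^ b * (y ^ (-(a : ℤ)))⁻¹) * y by
        rw [sub_eq_add_neg, add_comm, zpow_add, zpow_neg_one]; group,
      ih, show y⁻¹ * (c ^ (-(a : ℤ) * b) * x ^ b) * y = c ^ (-(a : ℤ) * b) * (y⁻¹ * x ^ b * y) by
        rw [← mul_assoc y⁻¹, ← (((hcy.zpow_left _)).inv_right).eq]; group,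
      hinv, ← mul_assoc, ← zpow_add]
    congr 2
    ring

variable [Finite G]

/-- A nilpotent group is the direct product of a Sylow subgroup and its complement. -/
theorem nilpotent_split {p : ℕ} (hp : p.Prime) {K P : Subgroup G} (hK : Group.IsNilpotent K)
    (hPK : P ≤ K) (hPp : IsPGroup p P) (hidx : ¬ p ∣ P.relIndex K) :
    P = piCoreOf {p} K ∧ ∃ W : Subgroup G, W = piCoreOf {q | q ∉ ({p} : Set ℕ)} K ∧ W ≤ K ∧
      P ⊓ W = ⊥ ∧ (∀ a ∈ P, ∀ b ∈ W, a * b = b * a) ∧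
      (∀ k ∈ K, ∃ a ∈ P, ∃ b ∈ W, k = a * b) := by
  have : Fact p.Prime := ⟨hp⟩
  set T := piCoreOf {p} K
  have hPT : P ≤ T := fun a ha => BG15.mem_piCoreOf_of_nilpotent hK (hPK ha)
    (BG15.piNumber_orderOf ((Cores.isPGroup_iff_isPiNumber hp).1 hPp) ha)
  have hTp : IsPGroup p T := (Cores.isPGroup_iff_isPiNumber hp).2 (piCoreOf_isPiNumber _ _)
  have hPT' : P = T := by
    refine eq_of_le_of_card_ge hPT ?_
    obtain ⟨j, hj⟩ := (hPp.to_le (le_refl P)).exists_card_eq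
    obtain ⟨t, ht⟩ := hTp.exists_card_eq
    have h1 : P.relIndex T ∣ P.relIndex K :=
      Dvd.intro _ (relIndex_mul_relIndex P T K hPT (piCoreOf_le _ _))
    obtain ⟨s, -, hs⟩ := (Nat.dvd_prime_pow hp).1 (ht ▸ relIndex_dvd_card P T)
    rcases Nat.eq_zero_or_pos s with hs0 | hs0
    · rw [hs0, pow_zero, relIndex_eq_one] at hs
      exact Nat.le_of_dvd Nat.card_pos (card_dvd_of_le hs)
    · exact absurd ((hs ▸ dvd_pow_self p hs0.ne').trans h1) hidx
  refine ⟨hPT', _, rfl, piCoreOf_le _ _, ?_, ?_, fun k hk => ?_⟩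
  all_goals set W := piCoreOf {q | q ∉ ({p} : Set ℕ)} K
  · rw [hPT']
    refine Coprime.inf_eq_bot (Nat.coprime_of_dvd fun q hq h1 h2 => ?_)
    exact (piCoreOf_isPiNumber _ _ q hq h2) (piCoreOf_isPiNumber _ _ q hq h1)
  · intro a ha b hb
    have hcop : (Nat.card T).Coprime (Nat.card W) := Nat.coprime_of_dvd fun q hq h1 h2 =>
      (piCoreOf_isPiNumber _ _ q hq h2) (piCoreOf_isPiNumber _ _ q hq h1)
    exact (mem_centralizer_iff.1 (BG15.le_centralizer_of_nilpotent hK (piCoreOf_le _ _)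
      (piCoreOf_le _ _) hcop (hPT ha)) b hb).symm
  · have hcop : (Nat.card T).Coprime (Nat.card W) := Nat.coprime_of_dvd fun q hq h1 h2 =>
      (piCoreOf_isPiNumber _ _ q hq h2) (piCoreOf_isPiNumber _ _ q hq h1)
    have hTW : T ≤ normalizer (W : Set G) := (BG15.le_centralizer_of_nilpotent hK (piCoreOf_le _ _)
      (piCoreOf_le _ _) hcop).trans (centralizer_le_normalizer _)
    obtain ⟨a, ha, b, hb, e⟩ := BG15.exists_of_mem_sup hTW (BG15.le_sup_piCoreOf hK {p} hk)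
    exact ⟨a, hPT' ▸ ha, b, hb, e⟩

/-- In a nilpotent group the derived group meets a Sylow subgroup in its derived group. -/
theorem derived_inf_sylow {p : ℕ} (hp : p.Prime) {K P : Subgroup G} (hK : Group.IsNilpotent K)
    (hPK : P ≤ K) (hPp : IsPGroup p P) (hidx : ¬ p ∣ P.relIndex K) :
    ⁅K, K⁆ ⊓ P ≤ ⁅P, P⁆ := by
  obtain ⟨-, W, -, -, hinf, hcomm, hmul⟩ := nilpotent_split hp hK hPK hPp hidx
  have hWn : W ≤ normalizer ((⁅P, P⁆ : Subgroup G) : Set G) := fun w hw =>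
    mem_normalizer_of_conj fun c hc => by
      rwa [← hcomm c (commutator_le_self P hc) w hw, mul_inv_cancel_right]
  have hle : ⁅K, K⁆ ≤ W ⊔ ⁅P, P⁆ := Subgroup.commutator_le.2 fun k hk l hl => by
    obtain ⟨a, ha, b, hb, rfl⟩ := hmul k hk
    obtain ⟨c, hc, d, hd, rfl⟩ := hmul l hl
    have h1 : b * c = c * b := (hcomm c hc b hb).symm
    have h2 : d * a⁻¹ = a⁻¹ * d := (hcomm a⁻¹ (inv_mem ha) d hd).symm
    have h3 : b⁻¹ * a⁻¹ = a⁻¹ * b⁻¹ := (hcomm a⁻¹ (inv_mem ha) b⁻¹ (inv_mem hb)).symm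
    have h5 : (b * d * b⁻¹ * d⁻¹) * c⁻¹ = c⁻¹ * (b * d * b⁻¹ * d⁻¹) :=
      (hcomm c⁻¹ (inv_mem hc) _
        (mul_mem (mul_mem (mul_mem hb hd) (inv_mem hb)) (inv_mem hd))).symm
    rw [show ⁅a * b, c * d⁆ = ⁅a, c⁆ * ⁅b, d⁆ by
      simp only [commutatorElement_def]
      calc a * b * (c * d) * (a * b)⁻¹ * (c * d)⁻¹
          = a * (b * c) * d * (b⁻¹ * a⁻¹) * d⁻¹ * c⁻¹ := by group
        _ = a * c * b * (d * a⁻¹) * b⁻¹ * d⁻¹ * c⁻¹ := by rw [h1, h3]; group
        _ = a * c * (b * a⁻¹) * d * b⁻¹ * d⁻¹ * c⁻¹ := by rw [h2]; group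
        _ = a * c * a⁻¹ * ((b * d * b⁻¹ * d⁻¹) * c⁻¹) := by
            rw [(hcomm a⁻¹ (inv_mem ha) b hb).symm]; group
        _ = _ := by rw [h5]; group]
    exact mul_mem (mem_sup_right (commutator_mem_commutator ha hc))
      (mem_sup_left (W.mul_mem (W.mul_mem (W.mul_mem hb hd) (W.inv_mem hb)) (W.inv_mem hd)))
  intro y hy
  obtain ⟨w, hw, s, hs, e⟩ := BG15.exists_of_mem_sup hWn (hle hy.1)
  have hwP : w ∈ P ⊓ W := ⟨by
    rw [show w = y * s⁻¹ by rw [e]; group]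
    exact P.mul_mem hy.2 (P.inv_mem (commutator_le_self P hs)), hw⟩
  rw [hinf, mem_bot] at hwP
  rwa [e, hwP, one_mul]

end Cfsg.Agent.OddOrder.PF12
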