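import Cfsg.Agent.OddOrder.PF12.SylowP
import Cfsg.Agent.OddOrder.PF12.ActionTools
import Cfsg.Agent.OddOrder.BG3.FrobeniusModule

/-!
# Peterfalvi (12.7): the bound on `|M : M_σ|`
-/

set_option autoImplicit false
set_option linter.unusedSectionVars false

namespace Cfsg.Agent.OddOrder.PF12

open Subgroup
open Cfsg.Agent Cfsg.Agent.OddOrder
open scoped commutatorElement

universe u

theorem two_mul_le_of_odd_dvd {e n : ℕ} (he : Odd e) (hn : Even n) (h : e ∣ n) (h0 : n ≠ 0) :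
    2 * e ≤ n :=
  Nat.le_of_dvd (Nat.pos_of_ne_zero h0)
    (Nat.Coprime.mul_dvd_of_dvd_of_dvd he.coprime_two_left hn.two_dvd h)

variable {G : Type u} [Group G] [Finite G]
variable {p : ℕ} {L M A E P : Subgroup G} {x : G} (I : Inputs G) (B : Base p L M A x)
include I B

theorem Base.derived_normalised :
    M ≤ normalizer ((⁅Cfsg.sigmaCore M, Cfsg.sigmaCore M⁆ : Subgroup G) : Set G) := fun m hm =>
  Coprime.mem_normalizer_of_map_conj (by
    rw [Subgroup.map_commutator, Coprime.map_conj_eq (le_normalizer_sigmaCore M hm)])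

/-- An element of `M` outside `M_σ` moves `x` modulo `M_σ'`. -/
theorem Base.moves_x {b : G} (hb : b ∈ M) (hbK : b ∉ Cfsg.sigmaCore M) :
    b * x * b⁻¹ * x⁻¹ ∉ ⁅Cfsg.sigmaCore M, Cfsg.sigmaCore M⁆ := fun h =>
  B.x_not_derived I
    (B.free I (commutator_le_self _) le_rfl (B.derived_normalised I) b hb hbK x B.xK h)

/-- No element of prime order below `p` outside `M_σ` normalises `A` and `⟨x⟩` freely. -/
theorem Base.no_scalar {r : ℕ} (hr : r.Prime) (hrp : r < p) {d : G} (hdM : d ∈ M) (hdr : d ^ r = 1)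
    (hdK : d ∉ Cfsg.sigmaCore M) (hdA : d ∈ normalizer (A : Set G))
    (hdx : d * x * d⁻¹ ∈ zpowers x) (hfpf : ∀ a ∈ A, Commute d a → a = 1) : False := by
  have : Fact r.Prime := ⟨hr⟩
  have hd1 : d ≠ 1 := fun h => hdK (h ▸ one_mem _)
  have hord := orderOf_eq_prime hdr hd1
  obtain ⟨i, hi⟩ := mem_zpowers_iff.1 hdx
  set H := Cfsg.sigmaCore L
  obtain ⟨h, hh, -, hh'⟩ := B.x_fix
  have hH1 : H ≠ ⊥ := fun e => by
    have h0 : h ∈ H := hh
    rw [e, mem_bot] at h0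
    exact hh' (h0 ▸ one_mem _)
  -- `d` lies in `L`
  have hmap : centralizer ({x} : Set G) ≤ L.map (MulAut.conj d).toMonoidHom := by
    intro c hc
    refine ⟨d⁻¹ * c * d, B.x_uniq.1 (mem_centralizer_singleton_iff.2 ?_),
      by simp only [MulEquiv.coe_toMonoidHom, MulAut.conj_apply]; group⟩
    have h1 : Commute c (d * x * d⁻¹) := hi ▸
      (show Commute c x from mem_centralizer_singleton_iff.1 hc).zpow_right i
    calc d⁻¹ * c * d * x = d⁻¹ * (c * (d * x * d⁻¹)) * d := by group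
      _ = d⁻¹ * ((d * x * d⁻¹) * c) * d := by rw [h1.eq]
      _ = x * (d⁻¹ * c * d) := by group
  have hLmap := B.x_uniq.2 _ (isCoatom_map (MulAut.conj d) B.hL) hmap
  have hL1 : L ≠ ⊥ := fun e => B.x_ne (mem_bot.1 (e ▸ B.AL B.xA))
  have hdL : d ∈ L := by
    rw [← normalizer_eq_max I.hG B.hL le_rfl hL1 le_normalizer]
    exact Coprime.mem_normalizer_of_map_conj hLmap
  have hdML : d ∈ M ⊓ L := ⟨hdM, hdL⟩
  have hdH : d ∉ H := fun hdH => hd1 (by
    have h1 : d ∈ H ⊓ (M ⊓ L) := ⟨hdH, hdML⟩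
    rwa [Coprime.inf_eq_bot (B.coprime I), mem_bot] at h1)
  -- Frobenius--Wielandt
  have hcard := BG3.fw_formula (U := A) (E := zpowers d) (H := H) (zpowers_le.2 hdA)
    (fun g hg hg1 a ha hga => hfpf a ha (by
      have hz : zpowers g = zpowers d := eq_of_le_of_card_ge (zpowers_le.2 hg) (by
        have h1 : orderOf g ∣ r := hord ▸ orderOf_dvd_of_mem_zpowers hg
        rw [Nat.card_zpowers, Nat.card_zpowers, hord,
          (hr.eq_one_or_self_of_dvd _ h1).resolve_left (mt orderOf_eq_one_iff.1 hg1)])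
      obtain ⟨j, rfl⟩ := mem_zpowers_iff.1 (show d ∈ zpowers g from hz ▸ mem_zpowers d)
      exact (show Commute g a from hga).zpow_left j))
    (fun e => B.x_ne (mem_bot.1 (e ▸ B.xA))) (fun e => hd1 (mem_bot.1 (e ▸ mem_zpowers d)))
    (B.AL.trans (le_normalizer_sigmaCore L)) ((zpowers_le.2 hdL).trans (le_normalizer_sigmaCore L))
    (Coprime.isSolvable_of_le (sigmaCore_le L) (BG15.solvable I.hG B.hL))
    ((B.coprime I).coprime_dvd_right (card_dvd_of_le (sup_le (B.A_le_ML I) (zpowers_le.2 hdML))))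
    (B.fix_bot I)
  have hfix : H ⊓ centralizer (zpowers d : Set G) ≠ ⊥ := fun e => hH1 (by
    rw [e, card_bot, one_pow] at hcard
    exact card_eq_one.1 hcard)
  obtain ⟨⟨c, hc⟩, hc1⟩ := ne_bot_iff_exists_ne_one.1 hfix
  rw [centralizer_zpowers] at hc
  exact B.min r hrp L d ⟨B.hL, B.kappaL, hr, hdr, hd1, hdL, hdH, c, hc.1,
    fun h => hc1 (Subtype.ext h), mem_centralizer_singleton_iff.1 hc.2⟩

omit I in
theorem Base.x_zpow_mem {W : Subgroup G} (hx : x ∉ W) {n : ℤ} (hn : x ^ n ∈ W) : (p : ℤ) ∣ n := by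
  by_contra hnd
  obtain ⟨a, b, hab⟩ := ((Prime.coprime_iff_not_dvd (Nat.prime_iff_prime_int.1 B.prime)).2 hnd).symm
  refine hx ?_
  rw [show x = (x ^ n) ^ a * (x ^ (p : ℤ)) ^ b by
    rw [← zpow_mul, ← zpow_mul, ← zpow_add,
      show n * a + (p : ℤ) * b = 1 by linear_combination hab, zpow_one]]
  rw [zpow_natCast, B.x_pow, one_zpow, mul_one]
  exact zpow_mem hn a

omit I in
/-- `A` is generated by `x` and any other of its lines. -/
theorem Base.A_split {z : G} (hzA : z ∈ A) (hz1 : z ≠ 1) (hx : x ∉ zpowers z) :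
    ∀ a ∈ A, ∃ (u : ℤ) (w : G), w ∈ zpowers z ∧ a = x ^ u * w := by
  have : Fact p.Prime := ⟨B.prime⟩
  have hn : zpowers x ≤ normalizer (zpowers z : Set G) := zpowers_le.2 (mem_normalizer_of_conj fun w hw => by
    rwa [PGroups.comm_of_isMulCommutative B.elem.1 B.xA ((zpowers_le.2 hzA) hw),
      mul_inv_cancel_right])
  have hA : zpowers z ⊔ zpowers x = A := by
    refine eq_of_le_of_card_ge (sup_le (zpowers_le.2 hzA) (zpowers_le.2 B.xA)) ?_
    rw [Coprime.card_sup hn ((eq_bot_iff_forall _).2 fun a ha => ?_), Nat.card_zpowers,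
      Nat.card_zpowers, orderOf_eq_prime B.x_pow B.x_ne, orderOf_eq_prime (B.elem.2 z hzA) hz1,
      B.cardA, sq]
    obtain ⟨n, rfl⟩ := mem_zpowers_iff.1 ha.2
    obtain ⟨t, rfl⟩ := B.x_zpow_mem hx ha.1
    rw [zpow_mul, zpow_natCast, B.x_pow, one_zpow]
  intro a ha
  rw [← hA, sup_comm] at ha
  obtain ⟨b, hb, w, hw, rfl⟩ := BG15.exists_of_mem_sup hn ha
  obtain ⟨u, rfl⟩ := mem_zpowers_iff.1 hb
  exact ⟨u, w, hw, rfl⟩

variable (D : SylowData p M A E P)
include D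

theorem Base.eq_one_of_moves {a : G} (ha : a ∈ E)
    (h : a * x * a⁻¹ * x⁻¹ ∈ ⁅Cfsg.sigmaCore M, Cfsg.sigmaCore M⁆) : a = 1 := by
  by_contra ha1
  refine B.moves_x I (D.compl.1 ha) (fun haK => ha1 ?_) h
  have h1 : a ∈ E ⊓ Cfsg.sigmaCore M := ⟨ha, haK⟩
  rwa [B.E_inf I D, mem_bot] at h1

theorem Base.E_odd : Odd (Nat.card E) := I.hG.1.of_dvd_nat E.card_subgroup_dvd_card

theorem Base.p_coprime_E {a : G} (ha : a ∈ E) : (orderOf a).Coprime p := by
  refine Nat.Coprime.coprime_dvd_left (orderOf_dvd_natCard E ha)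
    ((B.coprime_E I D).coprime_dvd_right ?_)
  exact (dvd_pow_self p two_ne_zero).trans (B.cardA ▸ card_dvd_of_le B.AK)

theorem Base.E_cyclic : IsCyclic E := by
  have : Fact p.Prime := ⟨B.prime⟩
  obtain ⟨⟨hle, -⟩, -, -⟩ := BG5.narrow_action (B.p_odd I D) D.Pp (B.narrow I D) D.EP
    (Coprime.isSolvable_of_le D.compl.1 (BG15.solvable I.hG B.hM)) (B.E_odd I D) (B.faithful I D)
  have hbot : Cfsg.pCore p E = ⊥ := by
    refine (eq_bot_iff_forall _).2 fun a ha => ?_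
    have hp : IsPGroup p (Cfsg.pCore p E) := Cores.pCore_isPGroup
    obtain ⟨k, hk⟩ := hp ⟨a, ha⟩
    have h1 : orderOf (a : G) ∣ p ^ k := orderOf_dvd_of_pow_eq_one
      (congrArg (fun t : Cfsg.pCore p E => ((t : E) : G)) hk)
    exact Subtype.ext (orderOf_eq_one_iff.1 (Nat.eq_one_of_dvd_coprimes
      ((B.p_coprime_E I D a.2).pow_right k) dvd_rfl h1))
  have hcomm : IsMulCommutative E := ⟨⟨fun a b => commutatorElement_eq_one_iff_mul_comm.1
    (mem_bot.1 (hbot ▸ hle (commutator_mem_commutator (mem_top a) (mem_top b))))⟩⟩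
  by_contra hE
  exact B.x_not_derived I (Coprime.le_of_centralizer_noncyclic_le hE
    (D.compl.1.trans (le_normalizer_sigmaCore M)) (B.coprime_E I D)
    (fun a ha ha1 => B.fix_E I D ha ha1) B.xK)

/-- Abelian `P` of rank two. -/
theorem Base.dvd_comm (hr : Cfsg.PRankLE p 2 P) (hc : IsMulCommutative P) {d : G} (hd : d ∈ E)
    (hord : orderOf d = Nat.card E) : Nat.card E ∣ p - 1 ∨ Nat.card E ∣ p + 1 := by
  have : Fact p.Prime := ⟨B.prime⟩
  have hcomm : ∀ a ∈ P, ∀ b ∈ P, a * b = b * a := fun a ha b hb =>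
    PGroups.comm_of_isMulCommutative hc ha hb
  let Ω : Subgroup G :=
    { carrier := {y | y ∈ P ∧ y ^ p = 1}
      one_mem' := ⟨one_mem _, one_pow _⟩
      mul_mem' := by
        rintro a b ⟨ha, ha'⟩ ⟨hb, hb'⟩
        exact ⟨mul_mem ha hb, by
          rw [(show Commute a b from hcomm a ha b hb).mul_pow, ha', hb', one_mul]⟩
      inv_mem' := by
        rintro a ⟨ha, ha'⟩
        exact ⟨inv_mem ha, by rw [inv_pow, ha', inv_one]⟩ }
  have hΩP : Ω ≤ P := fun y hy => hy.1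
  have hAΩ : A ≤ Ω := fun a ha => ⟨D.AP ha, B.elem.2 a ha⟩
  have hΩA : Ω ≤ A := by
    have h1 := hr (Ω.subgroupOf P) ⟨⟨fun a b => Subtype.ext (Subtype.ext (hcomm _ a.1.2 _ b.1.2))⟩⟩
      fun a ha => Subtype.ext (show ((a : P) : G) ^ p = 1 from ha.2)
    rw [Nat.card_congr (subgroupOfEquivOfLe hΩP).toEquiv, ← B.cardA] at h1
    exact (eq_of_le_of_card_ge hAΩ h1).ge
  have hdA : d ∈ normalizer (A : Set G) := mem_normalizer_of_conj fun a ha =>
    hΩA ⟨Coprime.conj_mem (D.EP hd) (D.AP ha), by rw [conj_pow, B.elem.2 a ha]; group⟩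
  have hbn : ∀ g : G, g ∈ normalizer ((⊥ : Subgroup G) : Set G) := fun g =>
    mem_normalizer_of_conj fun a ha => by simp [mem_bot.1 ha]
  rcases plane_action B.prime hdA (hbn d) bot_le (fun a _ => hbn a)
    (fun a ha b hb => mem_bot.2 (by rw [hcomm a (D.AP ha) b (D.AP hb)]; group))
    (fun a ha => mem_bot.2 (B.elem.2 a ha)) (by rw [relIndex_bot_left]; exact B.cardA)
    (B.p_coprime_E I D hd) with h | ⟨i, hi⟩
  · refine Or.inl (hord ▸ orderOf_dvd_of_pow_eq_one (B.eq_one_of_commute I D (pow_mem hd _) ?_))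
    exact mul_inv_eq_iff_eq_mul.1 (mul_inv_eq_one.1 (mem_bot.1 (h x B.xA)))
  · by_cases hd' : d ^ (p + 1) = 1
    · exact Or.inr (hord ▸ orderOf_dvd_of_pow_eq_one hd')
    exfalso
    obtain ⟨r, hrp', hro⟩ := Nat.exists_prime_and_dvd (mt orderOf_eq_one_iff.1 hd')
    set j := orderOf (d ^ (p + 1)) / r
    set d₁ := (d ^ (p + 1)) ^ j
    have hd₁o : orderOf d₁ = r := orderOf_pow_orderOf_div (orderOf_pos _).ne' hro
    have hd₁E : d₁ ∈ E := pow_mem (pow_mem hd _) _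
    have hd₁1 : d₁ ≠ 1 := fun h => hrp'.one_lt.ne' (by rw [← hd₁o, h, orderOf_one])
    have hsc : ∀ a ∈ A, d₁ * a * d₁⁻¹ = a ^ (i ^ j) := fun a ha => by
      obtain ⟨w, hw, e⟩ := scal_pow (hbn (d ^ (p + 1)))
        (fun w hw v _ => by rw [mem_bot.1 hw]; exact Commute.one_left v) hi j a ha
      rw [mem_bot.1 hw, mul_one] at e
      exact e
    have hr1 : r ∣ p - 1 := hd₁o ▸ orderOf_dvd_of_pow_eq_one (B.eq_one_of_commute I D
      (pow_mem hd₁E _) (commute_pow_pred B.prime B.x_pow (hsc x B.xA)))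
    have hrp : r < p := lt_of_le_of_lt
      (Nat.le_of_dvd (by have := B.prime.two_le; omega) hr1) (by have := B.prime.two_le; omega)
    refine B.no_scalar I hrp' hrp (D.compl.1 hd₁E) (hd₁o ▸ pow_orderOf_eq_one d₁) (fun h => hd₁1 ?_)
      (pow_mem (pow_mem hdA _) _) (by rw [hsc x B.xA]; exact zpow_mem (mem_zpowers x) _) ?_
    · have h1 : d₁ ∈ E ⊓ Cfsg.sigmaCore M := ⟨hd₁E, h⟩
      rwa [B.E_inf I D, mem_bot] at h1
    · intro a ha hca
      by_contra ha1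
      refine hd₁1 (B.eq_one_of_commute I D hd₁E ?_)
      have h1 : a ^ (i ^ j - 1) = 1 := by
        rw [zpow_sub_one, ← hsc a ha, hca.eq, mul_inv_cancel_right, mul_inv_cancel]
      have h2 : (p : ℤ) ∣ i ^ j - 1 := by
        have h3 := orderOf_dvd_iff_zpow_eq_one.2 h1
        rwa [orderOf_eq_prime (B.elem.2 a ha) ha1] at h3
      obtain ⟨t, ht⟩ := h2
      refine mul_inv_eq_iff_eq_mul.1 ?_
      rw [hsc x B.xA, show i ^ j = 1 + (p : ℤ) * t by linear_combination ht, zpow_add, zpow_one,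
        zpow_mul, zpow_natCast, B.x_pow, one_zpow, mul_one]

/-- Non-abelian `P` of rank two. -/
theorem Base.dvd_noncomm (hK : Group.IsNilpotent (Cfsg.sigmaCore M)) (hr : Cfsg.PRankLE p 2 P)
    (hna : ¬ IsMulCommutative P) {d : G} (hd : d ∈ E) (hord : orderOf d = Nat.card E) :
    Nat.card E ∣ p - 1 ∨ Nat.card E ∣ p + 1 ∧
      Nat.card P = p ^ 3 ∧ Nat.card ↥(⁅P, P⁆) = p := by
  have : Fact p.Prime := ⟨B.prime⟩
  obtain ⟨P₁, P₂, z, R⟩ := B.rankTwoShape I D hr hna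
  have hzo : orderOf z = p := orderOf_eq_prime R.z_pow R.z_ne
  set W := zpowers z with hW
  have hWc : Nat.card W = p := by rw [Nat.card_zpowers, hzo]
  have hdK : ⁅P, P⁆ ≤ ⁅Cfsg.sigmaCore M, Cfsg.sigmaCore M⁆ := commutator_mono D.PK D.PK
  have hWK : W ≤ ⁅Cfsg.sigmaCore M, Cfsg.sigmaCore M⁆ := by
    rw [hW, ← R.derived]
    exact hdK
  have hxW : x ∉ W := fun h => B.x_not_derived I (hWK h)
  have hcen : ∀ w ∈ W, ∀ v ∈ P, Commute w v := fun w hw v hv => by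
    obtain ⟨k, rfl⟩ := mem_zpowers_iff.1 hw
    exact ((show Commute v z from R.z_cent v hv).symm).zpow_left k
  have hxdvd : ∀ n : ℤ, x ^ n ∈ W → (p : ℤ) ∣ n := fun n hn => B.x_zpow_mem hxW hn
  -- `A = ⟨x, z⟩`
  have hAW : W ≤ A := zpowers_le.2 R.z_mem.1
  have hAdec := B.A_split R.z_mem.1 R.z_ne hxW
  -- elements of order `p` lie in `P₁`
  have hxP₂ : x ∉ P₂ := fun hx2 => by
    have hA2 : A ≤ P₂ := fun a ha => by
      obtain ⟨u, w, hw, rfl⟩ := hAdec a ha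
      exact mul_mem (zpow_mem hx2 u) ((zpowers_le.2 R.z_mem.2.1) hw)
    have := R.cyc₂
    have hcyc : IsCyclic A := isCyclic_of_surjective (subgroupOfEquivOfLe hA2).toMonoidHom
      (subgroupOfEquivOfLe hA2).surjective
    have h1 : Monoid.exponent A ∣ p := Monoid.exponent_dvd_of_forall_pow_eq_one fun a =>
      Subtype.ext (B.elem.2 a a.2)
    rw [IsCyclic.exponent_eq_card, B.cardA] at h1
    have h2 := Nat.le_of_dvd B.prime.pos h1
    have := B.prime.two_le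
    nlinarith
  have hord2 : ∀ b ∈ P₂, b ^ p = 1 → b ∈ W := by
    intro b hb hbp
    have hbA : b ∈ A := by
      have hbn : zpowers b ≤ normalizer (A : Set G) := zpowers_le.2 (mem_normalizer_of_conj fun a ha => by
        rwa [R.center₂ b hb a (D.AP ha), mul_inv_cancel_right])
      have hle : zpowers b ⊔ A ≤ P := sup_le (zpowers_le.2 (R.le₂ hb)) D.AP
      have hel : ∀ c ∈ zpowers b ⊔ A, ∃ a ∈ A, ∃ i : ℤ, c = b ^ i * a := fun c hc => by
        obtain ⟨v, hv, a, ha, rfl⟩ := BG15.exists_of_mem_sup hbn hc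
        obtain ⟨i, rfl⟩ := mem_zpowers_iff.1 hv
        exact ⟨a, ha, i, rfl⟩
      have h1 := hr ((zpowers b ⊔ A).subgroupOf P) ⟨⟨fun u v => Subtype.ext (Subtype.ext (by
          obtain ⟨a, ha, i, e⟩ := hel _ u.2
          obtain ⟨c, hc, k, e'⟩ := hel _ v.2
          replace e : ((u : P) : G) = b ^ i * a := e
          replace e' : ((v : P) : G) = b ^ k * c := e'
          show ((u : P) : G) * ((v : P) : G) = ((v : P) : G) * ((u : P) : G)
          rw [e, e']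
          have cac : Commute a c := PGroups.comm_of_isMulCommutative B.elem.1 ha hc
          have cba : Commute b a := R.center₂ b hb a (D.AP ha)
          have cbc : Commute b c := R.center₂ b hb c (D.AP hc)
          exact ((((Commute.refl b).zpow_zpow i k).mul_right (cbc.zpow_left i)).mul_left
            (((cba.zpow_left k).symm).mul_right cac)).eq))⟩⟩
        fun u hu => Subtype.ext (by
          obtain ⟨a, ha, i, e⟩ := hel _ hu
          replace e : (u : G) = b ^ i * a := e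
          rw [SubmonoidClass.coe_pow, e,
            ((show Commute b a from R.center₂ b hb a (D.AP ha)).zpow_left i).mul_pow,
            B.elem.2 a ha, ← zpow_natCast, ← zpow_mul, mul_comm i, zpow_mul, zpow_natCast, hbp,
            one_zpow, one_mul, coe_one])
      rw [Nat.card_congr (subgroupOfEquivOfLe hle).toEquiv, ← B.cardA] at h1
      exact (eq_of_le_of_card_ge (le_sup_right (a := zpowers b)) h1).ge
        (mem_sup_left (mem_zpowers b))
    obtain ⟨u, w, hw, rfl⟩ := hAdec b hbA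
    have hxu : x ^ u ∈ P₂ := by
      have := P₂.mul_mem hb (P₂.inv_mem ((zpowers_le.2 R.z_mem.2.1) hw))
      rwa [mul_inv_cancel_right] at this
    have hu : (p : ℤ) ∣ u := B.x_zpow_mem hxP₂ hxu
    obtain ⟨t, rfl⟩ := hu
    rwa [zpow_mul, zpow_natCast, B.x_pow, one_zpow, one_mul]
  have hW1 : W ≤ P₁ := zpowers_le.2 R.z_mem.2.2
  have hP₁ : ∀ y ∈ P, y ^ p = 1 → y ∈ P₁ := by
    intro y hy hyp
    obtain ⟨a, ha, b, hb, rfl⟩ := R.sup y hy
    rw [(show Commute a b from R.comm a ha b hb).mul_pow, R.exp₁ a ha, one_mul] at hyp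
    exact mul_mem ha (hW1 (hord2 b hb hyp))
  have hxP₁ : x ∈ P₁ := hP₁ x (D.AP B.xA) B.x_pow
  -- the action of `d`
  have hdP := D.EP hd
  have hdW : d ∈ normalizer (W : Set G) := by
    rw [hW, ← R.derived]
    exact Coprime.mem_normalizer_of_map_conj
      (by rw [Subgroup.map_commutator, Coprime.map_conj_eq hdP])
  have hdP₁ : d ∈ normalizer (P₁ : Set G) := mem_normalizer_of_conj fun a ha =>
    hP₁ _ (Coprime.conj_mem hdP (R.le₁ ha)) (by rw [conj_pow, R.exp₁ a ha]; group)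
  have hdP₂ : d ∈ normalizer (P₂ : Set G) := mem_normalizer_of_conj fun b hb =>
    R.center _ (Coprime.conj_mem hdP (R.le₂ hb)) fun w hw => by
      have h1 : d⁻¹ * w * d ∈ P := by simpa using Coprime.conj_mem (inv_mem hdP) hw
      calc d * b * d⁻¹ * w = d * (b * (d⁻¹ * w * d)) * d⁻¹ := by group
        _ = d * ((d⁻¹ * w * d) * b) * d⁻¹ := by rw [R.center₂ b hb _ h1]
        _ = w * (d * b * d⁻¹) := by group
  -- either `e ∣ p - 1` or `P = P₁`
  rw [or_iff_not_imp_left]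
  intro hnd
  have hP₂W : P₂ ≤ W := by
    obtain ⟨g, hg⟩ := (Subgroup.isCyclic_iff_exists_zpowers_eq_top P₂).1 R.cyc₂
    have hgP : g ∈ P := R.le₂ (hg ▸ mem_zpowers g)
    obtain ⟨m, hm⟩ := D.Pp ⟨g, hgP⟩
    have hgm : g ^ p ^ m = 1 := congrArg Subtype.val hm
    obtain ⟨c, hc⟩ := mem_zpowers_iff.1 (show (d ^ (p - 1)) * g * (d ^ (p - 1))⁻¹ ∈ zpowers g from
      hg.symm ▸ Coprime.conj_mem (pow_mem hdP₂ _) (hg ▸ mem_zpowers g))
    obtain ⟨k, hk⟩ := mem_zpowers_iff.1 (Coprime.conj_mem hdW (mem_zpowers z))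
    have hcg := commute_of_cyclic B.prime hgm hc.symm (hg.symm ▸ R.z_mem.2.1) hzo
      (commute_pow_pred B.prime R.z_pow hk.symm) (B.p_coprime_E I D (pow_mem hd _))
    have hne : d ^ (p - 1) ≠ 1 := fun h => hnd (hord ▸ orderOf_dvd_of_pow_eq_one h)
    have hgK := B.fix_E I D (pow_mem hd _) hne
      ⟨D.PK hgP, mem_centralizer_singleton_iff.2 hcg.eq.symm⟩
    have hgW : g ∈ W := by
      rw [hW, ← R.derived]
      exact derived_inf_sylow B.prime hK D.PK D.Pp D.Pind ⟨hgK, hgP⟩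
    rw [← hg]
    exact zpowers_le.2 hgW
  have hPP₁ : P = P₁ := le_antisymm (fun y hy => by
    obtain ⟨a, ha, b, hb, rfl⟩ := R.sup y hy
    exact mul_mem ha (hW1 (hP₂W hb))) R.le₁
  have hcardP : Nat.card P = p ^ 3 := by rw [hPP₁]; exact R.card₁
  refine ⟨?_, hcardP, by rw [R.derived]; exact hWc⟩
  have hidx : W.relIndex P₁ = p ^ 2 := by
    have h1 := relIndex_mul_relIndex ⊥ W P₁ bot_le hW1
    rw [relIndex_bot_left, relIndex_bot_left, hWc, R.card₁, pow_succ' p 2] at h1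
    exact Nat.eq_of_mul_eq_mul_left B.prime.pos h1
  rcases plane_action B.prime hdP₁ hdW hW1
    (fun a ha => mem_normalizer_of_conj fun w hw => by
      rwa [← (hcen w hw a (R.le₁ ha)).eq, mul_inv_cancel_right])
    (fun a ha b hb => by
      rw [hW, ← R.derived]
      exact commutator_mem_commutator (R.le₁ ha) (R.le₁ hb))
    (fun a ha => by rw [R.exp₁ a ha]; exact one_mem _) hidx (B.p_coprime_E I D hd) with h | ⟨i₀, hi₀⟩
  · exact absurd (hord ▸ orderOf_dvd_of_pow_eq_one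
      (B.eq_one_of_moves I D (pow_mem hd _) (hWK (h x hxP₁)))) hnd
  by_cases hd' : d ^ (p + 1) = 1
  · exact hord ▸ orderOf_dvd_of_pow_eq_one hd'
  exfalso
  obtain ⟨r, hrp', hro⟩ := Nat.exists_prime_and_dvd (mt orderOf_eq_one_iff.1 hd')
  set j := orderOf (d ^ (p + 1)) / r
  set d₁ := (d ^ (p + 1)) ^ j
  have hd₁o : orderOf d₁ = r := orderOf_pow_orderOf_div (orderOf_pos _).ne' hro
  have hd₁E : d₁ ∈ E := pow_mem (pow_mem hd _) _
  have hd₁1 : d₁ ≠ 1 := fun h => hrp'.one_lt.ne' (by rw [← hd₁o, h, orderOf_one])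
  have hd₁M := D.compl.1 hd₁E
  have hd₁K : d₁ ∉ Cfsg.sigmaCore M := fun h => hd₁1 (by
    have h1 : d₁ ∈ E ⊓ Cfsg.sigmaCore M := ⟨hd₁E, h⟩
    rwa [B.E_inf I D, mem_bot] at h1)
  have hd₁W : d₁ ∈ normalizer (W : Set G) := pow_mem (pow_mem hdW _) _
  have hcen₁ : ∀ w ∈ W, ∀ v ∈ P₁, Commute w v := fun w hw v hv => hcen w hw v (R.le₁ hv)
  set i := i₀ ^ j with hij
  have hsc : ∀ v ∈ P₁, ∃ w ∈ W, d₁ * v * d₁⁻¹ = v ^ i * w :=
    scal_pow (pow_mem hdW _) hcen₁ hi₀ j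
  -- a non-trivial commutator with `x`
  obtain ⟨y, hy, hyx⟩ : ∃ y ∈ P, y * x ≠ x * y := by
    by_contra hall
    push Not at hall
    exact hxP₂ (R.center x (D.AP B.xA) fun w hw => (hall w hw).symm)
  set c := ⁅y, x⁆ with hc
  have hcW : c ∈ W := by
    rw [hW, ← R.derived]
    exact commutator_mem_commutator hy (D.AP B.xA)
  have hc1 : c ≠ 1 := fun h => hyx (commutatorElement_eq_one_iff_mul_comm.1 h)
  have hcgen : zpowers c = W := PGroups.zpowers_eq_of_card_eq hWc hcW hc1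
  have hyc : y * x * y⁻¹ = c * x := by rw [hc, commutatorElement_def]; group
  have hcx : Commute c x := hcen c hcW x (D.AP B.xA)
  have hcy : Commute c y := hcen c hcW y hy
  have hcp : c ^ p = 1 := by
    rw [← orderOf_dvd_iff_pow_eq_one, ← Nat.card_zpowers, hcgen, hWc]
  -- `d₁ c d₁⁻¹ = c ^ (i²)`
  obtain ⟨w₂, hw₂, e₂⟩ := hsc y (hPP₁ ▸ hy)
  obtain ⟨w₁, hw₁, e₁⟩ := hsc x hxP₁
  have hdc : d₁ * c * d₁⁻¹ = c ^ (i * i) := by
    have hcomm := conj_zpow_central hcx hcy hyc i i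
    calc d₁ * c * d₁⁻¹
        = (d₁ * y * d₁⁻¹) * (d₁ * x * d₁⁻¹) * (d₁ * y * d₁⁻¹)⁻¹ * (d₁ * x * d₁⁻¹)⁻¹ := by
          rw [hc, commutatorElement_def]; group
      _ = y ^ i * (w₂ * (x ^ i * w₁)) * w₂⁻¹ * (y ^ i)⁻¹ * w₁⁻¹ * (x ^ i)⁻¹ := by rw [e₁, e₂]; group
      _ = y ^ i * (x ^ i * w₁) * (y ^ i)⁻¹ * w₁⁻¹ * (x ^ i)⁻¹ := by
          rw [(hcen w₂ hw₂ _ (mul_mem (zpow_mem (D.AP B.xA) i)
            (hPP₁ ▸ hW1 hw₁ : w₁ ∈ P))).eq]
          group
      _ = y ^ i * x ^ i * (y ^ i)⁻¹ * (x ^ i)⁻¹ := by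
          rw [show y ^ i * (x ^ i * w₁) * (y ^ i)⁻¹ = y ^ i * x ^ i * (w₁ * (y ^ i)⁻¹) by group,
            (hcen w₁ hw₁ _ (inv_mem (zpow_mem hy i))).eq]
          group
      _ = c ^ (i * i) := by rw [hcomm, mul_inv_cancel_right]
  obtain ⟨s, hs⟩ := mem_zpowers_iff.1 (show w₁ ∈ zpowers c from hcgen.symm ▸ hw₁)
  rw [← hs] at e₁
  -- the scalar
  have hi1 : ¬ (p : ℤ) ∣ i - 1 := by
    rintro ⟨t, ht⟩
    refine hd₁1 (B.eq_one_of_moves I D hd₁E (hWK ?_))
    rw [e₁, show i = 1 + (p : ℤ) * t by linear_combination ht, zpow_add, zpow_one, zpow_mul,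
      zpow_natCast, B.x_pow, one_zpow, mul_one,
      ((hcx.zpow_left s).symm).eq, mul_inv_cancel_right]
    exact zpow_mem hcW s
  have hi0 : ¬ (p : ℤ) ∣ i := by
    rintro ⟨t, ht⟩
    refine hxW ?_
    have h1 : d₁ * x * d₁⁻¹ ∈ W := by
      rw [e₁, ht, zpow_mul, zpow_natCast, B.x_pow, one_zpow, one_mul]
      exact zpow_mem hcW s
    have h2 := Coprime.conj_mem (inv_mem hd₁W) h1
    rwa [inv_inv, show d₁⁻¹ * (d₁ * x * d₁⁻¹) * d₁ = x by group] at h2
  obtain ⟨w₃, hw₃, e₃⟩ := scal_pow hd₁W hcen₁ hsc r x hxP₁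
  have hir : (p : ℤ) ∣ i ^ r - 1 := hxdvd _ (by
    rw [← hd₁o, pow_orderOf_eq_one, one_mul, inv_one, mul_one, hd₁o] at e₃
    rw [zpow_sub_one, show x ^ (i ^ r) * x⁻¹ = x ^ (i ^ r) * (x ^ (i ^ r) * w₃)⁻¹ by rw [← e₃],
      mul_inv_rev, ← mul_assoc,
      ((hcen _ (W.inv_mem hw₃) _ (zpow_mem (D.AP B.xA) (i ^ r))).symm).eq, mul_inv_cancel_right]
    exact inv_mem hw₃)
  have hi2 : ¬ (p : ℤ) ∣ i * i - 1 := by
    intro h2
    obtain ⟨k, hk⟩ : Odd r := (I.hG.1.of_dvd_nat (hd₁o ▸ orderOf_dvd_natCard d₁))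
    refine hi1 ?_
    have h3 : (p : ℤ) ∣ (i * i) ^ k - 1 := h2.trans (sub_one_dvd_pow_sub_one _ k)
    have : i - 1 = (i ^ r - 1) - i * ((i * i) ^ k - 1) := by
      rw [hk, pow_succ, pow_mul, sq]; ring
    rw [this]
    exact dvd_sub hir (h3.mul_left i)
  have hr1 : r ∣ p - 1 := by
    refine hd₁o ▸ orderOf_dvd_of_pow_eq_one (B.eq_one_of_moves I D (pow_mem hd₁E _) (hWK ?_))
    obtain ⟨w, hw, e⟩ := scal_pow hd₁W hcen₁ hsc (p - 1) x hxP₁
    have hcop : IsCoprime i (p : ℤ) :=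
      ((Prime.coprime_iff_not_dvd (Nat.prime_iff_prime_int.1 B.prime)).2 hi0).symm
    have hx1 : x ^ (i ^ (p - 1)) = x := by
      conv_rhs => rw [← zpow_one x]
      rw [zpow_eq_zpow_iff_modEq, orderOf_eq_prime B.x_pow B.x_ne]
      exact Int.ModEq.pow_card_sub_one_eq_one B.prime hcop
    rw [e, hx1, ((hcen w hw x (D.AP B.xA)).symm).eq, mul_inv_cancel_right]
    exact hw
  have hrp : r < p := lt_of_le_of_lt
    (Nat.le_of_dvd (by have := B.prime.two_le; omega) hr1) (by have := B.prime.two_le; omega)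
  -- move the fixed line of `d₁` to `⟨x⟩`
  have hii : ¬ (p : ℤ) ∣ i * i - i := by
    rw [show i * i - i = i * (i - 1) by ring]
    exact fun h => ((Nat.prime_iff_prime_int.1 B.prime).dvd_or_dvd h).elim hi0 hi1
  obtain ⟨a, b, hab⟩ := ((Prime.coprime_iff_not_dvd (Nat.prime_iff_prime_int.1 B.prime)).2 hii).symm
  set k := -s * a with hk
  set h := y ^ k with hh
  have hconj : h * x * h⁻¹ = c ^ k * x := by
    have h1 := conj_zpow_central hcx hcy hyc k 1
    rwa [zpow_one, mul_one] at h1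
  set d₂ := h⁻¹ * d₁ * h with hd₂
  have hhM : h ∈ M := B.P_le I D (zpow_mem hy k)
  have hd₂M : d₂ ∈ M := mul_mem (mul_mem (inv_mem hhM) hd₁M) hhM
  have hd₂K : d₂ ∉ Cfsg.sigmaCore M := fun h' => hd₁K (by
    have h2 := Coprime.conj_mem (le_normalizer_sigmaCore M hhM) h'
    rwa [hd₂, show h * (h⁻¹ * d₁ * h) * h⁻¹ = d₁ by group] at h2)
  have hd₂r : d₂ ^ r = 1 := by
    rw [hd₂, show h⁻¹ * d₁ * h = h⁻¹ * d₁ * (h⁻¹)⁻¹ by group, conj_pow, ← hd₁o, pow_orderOf_eq_one]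
    group
  have hd₂c : d₂ * c * d₂⁻¹ = c ^ (i * i) := by
    have hch : Commute c h := hcy.zpow_right k
    calc d₂ * c * d₂⁻¹ = h⁻¹ * (d₁ * (h * c * h⁻¹) * d₁⁻¹) * h := by rw [hd₂]; group
      _ = h⁻¹ * c ^ (i * i) * h := by rw [hch.symm.eq, mul_inv_cancel_right, hdc]
      _ = c ^ (i * i) := by rw [mul_assoc, (hch.zpow_left _).eq, inv_mul_cancel_left]
  have hd₂x : d₂ * x * d₂⁻¹ = x ^ i := by
    have h1 : d₁ * (c ^ k * x) * d₁⁻¹ = h * x ^ i * h⁻¹ := by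
      have hlt : ∀ n : ℤ, (p : ℤ) ∣ n → c ^ n = 1 := by
        rintro n ⟨t, rfl⟩
        rw [zpow_mul, zpow_natCast, hcp, one_zpow]
      have hkey : c ^ (i * i * k + s) = c ^ (k * i) := by
        rw [show i * i * k + s = k * i + (i * i * k + s - k * i) by ring, zpow_add,
          hlt (i * i * k + s - k * i) ⟨s * b, by rw [hk]; linear_combination (-s) * hab⟩, mul_one]
      rw [← conj_mul, ← conj_zpow, hdc, e₁, ← zpow_mul, hh,
        conj_zpow_central hcx hcy hyc k i, ← mul_assoc, mul_assoc (c ^ (i * i * k)),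
        ((hcx.zpow_zpow s i).symm).eq, ← mul_assoc, ← zpow_add, hkey]
    calc d₂ * x * d₂⁻¹ = h⁻¹ * (d₁ * (h * x * h⁻¹) * d₁⁻¹) * h := by rw [hd₂]; group
      _ = x ^ i := by rw [hconj, h1]; group
  have hd₂A : d₂ ∈ normalizer (A : Set G) := mem_normalizer_of_conj fun g hg => by
    obtain ⟨u, w, hw, rfl⟩ := hAdec g hg
    obtain ⟨v, rfl⟩ := mem_zpowers_iff.1 (show w ∈ zpowers c from hcgen.symm ▸ hw)
    rw [← conj_mul, ← conj_zpow, ← conj_zpow, hd₂x, hd₂c]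
    exact mul_mem (zpow_mem (zpow_mem B.xA _) _) (zpow_mem (zpow_mem (hAW hcW) _) _)
  refine B.no_scalar I hrp' hrp hd₂M hd₂r hd₂K hd₂A
    (by rw [hd₂x]; exact zpow_mem (mem_zpowers x) i) fun g hg hgc => ?_
  obtain ⟨u, w, hw, rfl⟩ := hAdec g hg
  obtain ⟨v, rfl⟩ := mem_zpowers_iff.1 (show w ∈ zpowers c from hcgen.symm ▸ hw)
  have hfix : x ^ (i * u) * c ^ (i * i * v) = x ^ u * c ^ v := by
    rw [zpow_mul, zpow_mul c, ← hd₂x, ← hd₂c, conj_zpow, conj_zpow, conj_mul, hgc.eq,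
      mul_inv_cancel_right]
  have hpu : (p : ℤ) ∣ u := by
    have h1 : x ^ (i * u - u) ∈ W := by
      rw [show x ^ (i * u - u) = c ^ v * (c ^ (i * i * v))⁻¹ by
        rw [show c ^ v * (c ^ (i * i * v))⁻¹ = (x ^ u)⁻¹ * (x ^ u * c ^ v) * (c ^ (i * i * v))⁻¹ by
          group, ← hfix]
        group]
      exact mul_mem (zpow_mem hcW _) (inv_mem (zpow_mem hcW _))
    have h2 := hxdvd _ h1
    rw [show i * u - u = (i - 1) * u by ring] at h2
    exact ((Nat.prime_iff_prime_int.1 B.prime).dvd_or_dvd h2).resolve_left hi1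
  obtain ⟨t, rfl⟩ := hpu
  have hxu : x ^ ((p : ℤ) * t) = 1 := by rw [zpow_mul, zpow_natCast, B.x_pow, one_zpow]
  rw [show i * ((p : ℤ) * t) = (p : ℤ) * (i * t) by ring, zpow_mul, zpow_natCast, B.x_pow, one_zpow,
    one_mul, hxu, one_mul] at hfix
  have hpv : (p : ℤ) ∣ v := by
    have h2 : c ^ (i * i * v - v) = 1 := by rw [zpow_sub, hfix, mul_inv_cancel]
    rw [← orderOf_dvd_iff_zpow_eq_one, ← Nat.card_zpowers, hcgen, hWc,
      show i * i * v - v = (i * i - 1) * v by ring] at h2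
    exact ((Nat.prime_iff_prime_int.1 B.prime).dvd_or_dvd h2).resolve_left hi2
  obtain ⟨t', rfl⟩ := hpv
  rw [hxu, one_mul, zpow_mul, zpow_natCast, hcp, one_zpow]

/-- The bound `2e ≤ p + 1` and the configuration when it is attained with `P` non-abelian. -/
theorem Base.bound (hcase : Group.IsNilpotent (Cfsg.sigmaCore M) ∨ IsMulCommutative P) :
    2 * (Cfsg.sigmaCore M).relIndex M ≤ p + 1 ∧
      (2 * (Cfsg.sigmaCore M).relIndex M = p + 1 → ¬ IsMulCommutative P →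
        Nat.card P = p ^ 3 ∧ Nat.card ↥(⁅P, P⁆) = p ∧ M ⊓ L ≤ Cfsg.sigmaCore M) := by
  have : Fact p.Prime := ⟨B.prime⟩
  have := B.E_cyclic I D
  obtain ⟨⟨d, hd⟩, hgen⟩ := IsCyclic.exists_generator (α := E)
  have hord : orderOf d = Nat.card E := by
    rw [← Subgroup.orderOf_mk d hd]
    exact orderOf_eq_card_of_forall_mem_zpowers hgen
  have hkey : Nat.card E ∣ p - 1 ∨ (Nat.card E ∣ p + 1 ∧ (¬ IsMulCommutative P →
      Nat.card P = p ^ 3 ∧ Nat.card ↥(⁅P, P⁆) = p)) := by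
    by_cases hr : Cfsg.PRankLE p 2 P
    · by_cases hc : IsMulCommutative P
      · exact (B.dvd_comm I D hr hc hd hord).imp_right fun h => ⟨h, fun h' => absurd hc h'⟩
      · exact (B.dvd_noncomm I D (hcase.resolve_right hc) hr hc hd hord).imp_right
          fun h => ⟨h.1, fun _ => h.2⟩
    · left
      obtain ⟨-, h, -⟩ := BG5.narrow_action (B.p_odd I D) D.Pp (B.narrow I D) D.EP
        (Coprime.isSolvable_of_le D.compl.1 (BG15.solvable I.hG B.hM)) (B.E_odd I D)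
        (B.faithful I D)
      exact hord ▸ h hr d hd (B.p_coprime_E I D hd)
  rw [← B.card_E I D]
  have hodd := B.E_odd I D
  have hp3 : 3 ≤ p := lt_of_le_of_ne B.prime.two_le (B.p_odd I D).symm
  have hpodd : Odd p := B.prime.odd_of_ne_two (B.p_odd I D)
  refine ⟨?_, fun heq hna => ?_⟩
  · rcases hkey with h | ⟨h, -⟩
    · have := two_mul_le_of_odd_dvd hodd (Nat.Odd.sub_odd hpodd odd_one) h (by omega)
      omega
    · exact two_mul_le_of_odd_dvd hodd (hpodd.add_odd odd_one) h (by omega)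
  rcases hkey with h | ⟨-, h⟩
  · have := two_mul_le_of_odd_dvd hodd (Nat.Odd.sub_odd hpodd odd_one) h (by omega)
    omega
  obtain ⟨hc3, hcd⟩ := h hna
  refine ⟨hc3, hcd, fun b hb => ?_⟩
  by_contra hbK
  obtain ⟨r, hr, hro, hrσ⟩ : ∃ r : ℕ, r.Prime ∧ r ∣ orderOf b ∧ r ∉ Cfsg.sigma M := by
    by_contra hall
    push Not at hall
    exact hbK (BG15.mem_sigmaCore I.hG B.hM hb.1 hall)
  set b₁ := b ^ (orderOf b / r)
  have hb₁o : orderOf b₁ = r := orderOf_pow_orderOf_div (orderOf_pos b).ne' hro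
  have hb₁ : b₁ ∈ M ⊓ L := pow_mem hb _
  have hb₁K : b₁ ∉ Cfsg.sigmaCore M := fun h => hrσ (PF8.prime_mem_sigma h hr (by rw [hb₁o]))
  have hre : r ∣ Nat.card E := by
    have h1 : r ∣ Nat.card M := hb₁o ▸ orderOf_dvd_natCard M hb₁.1
    have h2 := relIndex_mul_relIndex ⊥ (Cfsg.sigmaCore M) M bot_le (sigmaCore_le M)
    rw [relIndex_bot_left, relIndex_bot_left, ← B.card_E I D] at h2
    rw [← h2] at h1
    exact (hr.dvd_mul.1 h1).resolve_left fun h => hrσ (sigmaCore_isPiNumber M r hr h)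
  have hrp1 : r ∣ p + 1 := hre.trans ⟨2, by omega⟩
  -- `b₁` normalises `A` and `⟨z⟩ = P'`
  obtain ⟨P₁, P₂, z, R⟩ := B.rankTwoShape I D (by
    intro X hX hXp
    by_contra hlt
    have hXP : Nat.card X ∣ p ^ 3 := hc3 ▸ card_subgroup_dvd_card X
    obtain ⟨m, hm, hXm⟩ := (Nat.dvd_prime_pow B.prime).1 hXP
    have hX3 : X = ⊤ := by
      refine eq_top_of_card_eq _ ?_
      rw [hc3, hXm]
      rcases eq_or_lt_of_le hm with rfl | hm'
      · rfl
      · exact absurd (hXm ▸ Nat.pow_le_pow_right B.prime.pos (Nat.lt_succ_iff.1 hm')) hlt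
    exact hna ⟨⟨fun u v => PGroups.comm_of_isMulCommutative hX (hX3 ▸ mem_top u) (hX3 ▸ mem_top v)⟩⟩)
    hna
  have hbA := (B.ML_spec I).1 hb₁
  have hzK : zpowers z ≤ ⁅Cfsg.sigmaCore M, Cfsg.sigmaCore M⁆ :=
    R.derived ▸ commutator_mono D.PK D.PK
  obtain ⟨hPT, -⟩ := nilpotent_split B.prime (hcase.resolve_right hna) D.PK D.Pp D.Pind
  have hPn : b₁ ∈ normalizer (P : Set G) := by
    rw [hPT]
    exact BG15.le_normalizer_piCoreOf' (le_normalizer_sigmaCore M) hb₁.1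
  have hzn : b₁ ∈ normalizer (zpowers z : Set G) := by
    rw [← R.derived]
    exact Coprime.mem_normalizer_of_map_conj
      (by rw [Subgroup.map_commutator, Coprime.map_conj_eq hPn])
  have hxz : x ∉ zpowers z := fun h => B.x_not_derived I (hzK h)
  have hcomm : Commute x z := R.z_cent x (D.AP B.xA)
  have hxn : zpowers x ≤ normalizer (zpowers z : Set G) := zpowers_le.2 (mem_normalizer_of_conj fun w hw => by
    obtain ⟨k, rfl⟩ := mem_zpowers_iff.1 hw
    rw [(hcomm.zpow_right k).eq, mul_inv_cancel_right]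
    exact hw)
  obtain ⟨i, w, hw, e⟩ := B.A_split R.z_mem.1 R.z_ne hxz _ (Coprime.conj_mem hbA B.xA)
  obtain ⟨w₃, hw₃, e₃⟩ := scal_pow (V := zpowers x) (i := i) hzn
    (fun w' hw' v hv => by
      obtain ⟨k, rfl⟩ := mem_zpowers_iff.1 hw'
      obtain ⟨l, rfl⟩ := mem_zpowers_iff.1 hv
      exact hcomm.symm.zpow_zpow k l)
    (fun v hv => by
      obtain ⟨l, rfl⟩ := mem_zpowers_iff.1 hv
      refine ⟨w ^ l, zpow_mem hw l, ?_⟩
      obtain ⟨k, rfl⟩ := mem_zpowers_iff.1 hw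
      rw [← conj_zpow, e, (hcomm.zpow_zpow i k).mul_zpow, ← zpow_mul, mul_comm i, zpow_mul])
    r x (mem_zpowers x)
  rw [show b₁ ^ r = 1 by rw [← hb₁o, pow_orderOf_eq_one], one_mul, inv_one, mul_one] at e₃
  have hdvd : ∀ n : ℤ, x ^ n ∈ zpowers z → (p : ℤ) ∣ n := fun n hn => B.x_zpow_mem hxz hn
  have hir : (p : ℤ) ∣ i ^ r - 1 := hdvd _ (by
    have hxw : Commute (x ^ (i ^ r)) w₃⁻¹ := by
      obtain ⟨k, rfl⟩ := mem_zpowers_iff.1 hw₃
      exact (hcomm.zpow_zpow _ _).inv_right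
    rw [zpow_sub_one, show x ^ (i ^ r) * x⁻¹ = x ^ (i ^ r) * (x ^ (i ^ r) * w₃)⁻¹ by rw [← e₃],
      mul_inv_rev, ← mul_assoc, hxw.eq, mul_inv_cancel_right]
    exact inv_mem hw₃)
  -- `i ≡ 1`
  have hi0 : ¬ (p : ℤ) ∣ i := fun h =>
    (Nat.prime_iff_prime_int.1 B.prime).not_dvd_one
      (by simpa using dvd_sub (h.trans (dvd_pow_self i hr.ne_zero)) hir)
  have hzi : (i : ZMod p) ≠ 0 := fun h => hi0 ((ZMod.intCast_zmod_eq_zero_iff_dvd i p).1 h)
  have hzr : (i : ZMod p) ^ r = 1 := by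
    have h := (ZMod.intCast_zmod_eq_zero_iff_dvd _ _).2 hir
    push_cast at h
    exact sub_eq_zero.1 h
  have hgcd : Nat.gcd r (p - 1) = 1 := by
    refine (hr.coprime_iff_not_dvd).2 fun h => ?_
    have h2 : r ∣ 2 := by
      have := Nat.dvd_sub hrp1 h
      rwa [show p + 1 - (p - 1) = 2 by omega] at this
    have hrodd : Odd r := hodd.of_dvd_nat hre
    rw [(Nat.prime_dvd_prime_iff_eq hr Nat.prime_two).1 h2] at hrodd
    exact absurd hrodd (by decide)
  have hi1 : (i : ZMod p) = 1 := by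
    have := pow_gcd_eq_one.2 ⟨hzr, ZMod.pow_card_sub_one_eq_one hzi⟩
    rwa [hgcd, pow_one] at this
  obtain ⟨t, ht⟩ := (ZMod.intCast_zmod_eq_zero_iff_dvd (i - 1) p).1 (by push_cast; rw [hi1, sub_self])
  refine B.moves_x I hb₁.1 hb₁K (hzK ?_)
  have hxw : Commute x w := by
    obtain ⟨k, rfl⟩ := mem_zpowers_iff.1 hw
    exact hcomm.zpow_right k
  rw [e, show i = 1 + (p : ℤ) * t by linear_combination ht, zpow_add, zpow_one, zpow_mul,
    zpow_natCast, B.x_pow, one_zpow, mul_one, hxw.eq, mul_inv_cancel_right]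
  exact hw

end Cfsg.Agent.OddOrder.PF12
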