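import Cfsg.Agent.OddOrder.PF12.Bound
import Cfsg.Agent.S1420

/-!
# Peterfalvi (12.7): the case of a nilpotent `M_σ`
-/

set_option autoImplicit false
set_option linter.unusedSectionVars false

namespace Cfsg.Agent.OddOrder.PF12

open Subgroup
open Cfsg.Agent Cfsg.Agent.OddOrder
open scoped commutatorElement

universe u

theorem top_of_sup_derived {X : Type*} [Group X] [Finite X] [Group.IsNilpotent X] {H : Subgroup X}
    (h : H ⊔ commutator X = ⊤) : H = ⊤ := by
  by_contra hH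
  obtain ⟨W, hW, hle⟩ := (IsCoatomic.eq_top_or_exists_le_coatom H).resolve_left hH
  haveI : W.Normal := Subgroup.NormalizerCondition.normal_of_coatom W
    Group.normalizerCondition_of_isNilpotent hW
  haveI : Nontrivial (X ⧸ W) := QuotientGroup.nontrivial_iff.2 hW.1
  refine (Group.IsSolvable.commutator_lt_top_of_nontrivial (X ⧸ W)).ne ?_
  have hs := congrArg (Subgroup.map (QuotientGroup.mk' W)) h
  rw [Subgroup.map_sup, Subgroup.map_top_of_surjective _ (QuotientGroup.mk'_surjective W),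
    (Subgroup.map_eq_bot_iff H).2 (hle.trans (QuotientGroup.ker_mk' W).ge), bot_sup_eq,
    commutator_def, Subgroup.map_commutator,
    Subgroup.map_top_of_surjective _ (QuotientGroup.mk'_surjective W), ← commutator_def] at hs
  exact hs

variable {G : Type u} [Group G] [Finite G]
variable {p : ℕ} {L M A : Subgroup G} {x : G} (I : Inputs G) (B : Base p L M A x)
include I B

/-- Nilpotent subgroups of `L ⊓ M_σ` are abelian. -/
theorem Base.comm_of_le_LK {X : Subgroup G} (hX : X ≤ L ⊓ Cfsg.sigmaCore M)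
    (hn : Group.IsNilpotent X) : ∀ a ∈ X, ∀ b ∈ X, a * b = b * a := by
  have h := (Cfsg.Agent.S1420.result I.hG L B.hL (M ⊓ L) (B.support_L I).2).1 X
    (hX.trans inf_le_left) hn fun q hq hd hqL => B.sigma_disj I hqL
      (sigmaCore_isPiNumber M q hq (hd.trans (card_dvd_of_le (hX.trans inf_le_right))))
  exact fun a ha b hb => PGroups.comm_of_isMulCommutative h ha hb

/-- `M_σ ≤ L` forces `|M : M_σ| > |M ⊓ L : L ⊓ M_σ|`. -/
theorem Base.hidx {N : Subgroup G}
    (S : Setting p L M (Cfsg.sigmaCore L) (Cfsg.sigmaCore M) N (setA L) (Cfsg.supportR L)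
      (Cfsg.supportR M) x) (hle : Cfsg.sigmaCore M ≤ L)
    (he : S.eL = (Cfsg.sigmaCore M).relIndex M) : False := by
  have h1 := S.card_ML
  rw [he, inf_eq_right.2 hle, S.e_mul] at h1
  have h2 : M ⊓ L = M := eq_of_le_of_card_ge inf_le_left h1.le
  exact B.ne (B.hM.le_iff_eq B.hL.1 |>.1 (inf_eq_left.1 h2)).symm

/-- The case of a nilpotent `M_σ`. -/
theorem Base.false_nilpotent (hK : Group.IsNilpotent (Cfsg.sigmaCore M)) : False := by
  have : Fact p.Prime := ⟨B.prime⟩
  obtain ⟨E, P, D⟩ := B.exists_sylowData I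
  set K := Cfsg.sigmaCore M
  obtain ⟨hb1, hb2⟩ := B.bound I D (Or.inl hK)
  obtain ⟨-, W, -, hWK, hPW, hcomm, hmul⟩ := nilpotent_split B.prime hK D.PK D.Pp D.Pind
  have hWx : W ≤ L := fun w hw =>
    B.x_uniq.1 (mem_centralizer_singleton_iff.2 (hcomm x (D.AP B.xA) w hw).symm)
  have hLK : ∀ a ∈ L ⊓ K, ∀ b ∈ L ⊓ K, a * b = b * a :=
    B.comm_of_le_LK I le_rfl (BG15.isNilpotent_of_le inf_le_right hK)
  have hWab : ∀ a ∈ W, ∀ b ∈ W, a * b = b * a := fun a ha b hb =>
    hLK a ⟨hWx ha, hWK ha⟩ b ⟨hWx hb, hWK hb⟩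
  have hder : ⁅K, K⁆ ≤ ⁅P, P⁆ := Subgroup.commutator_le.2 fun k hk l hl => by
    obtain ⟨a, ha, b, hb, rfl⟩ := hmul k hk
    obtain ⟨c, hc, d, hd, rfl⟩ := hmul l hl
    rw [show ⁅a * b, c * d⁆ = ⁅a, c⁆ by
      have h1 : b * c = c * b := (hcomm c hc b hb).symm
      have h2 : b * d * b⁻¹ = d := by rw [hWab b hb d hd, mul_inv_cancel_right]
      have h3 : d * a⁻¹ = a⁻¹ * d := (hcomm a⁻¹ (inv_mem ha) d hd).symm
      have h4 : b⁻¹ * a⁻¹ = a⁻¹ * b⁻¹ := (hcomm a⁻¹ (inv_mem ha) b⁻¹ (inv_mem hb)).symm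
      simp only [commutatorElement_def]
      calc a * b * (c * d) * (a * b)⁻¹ * (c * d)⁻¹
          = a * (b * c) * d * (b⁻¹ * a⁻¹) * d⁻¹ * c⁻¹ := by group
        _ = a * c * b * (d * a⁻¹) * b⁻¹ * d⁻¹ * c⁻¹ := by rw [h1, h4]; group
        _ = a * c * (b * a⁻¹) * d * b⁻¹ * d⁻¹ * c⁻¹ := by rw [h3]; group
        _ = a * c * a⁻¹ * (b * d * b⁻¹) * d⁻¹ * c⁻¹ := by
            rw [(hcomm a⁻¹ (inv_mem ha) b hb).symm]; group
        _ = a * c * a⁻¹ * c⁻¹ := by rw [h2, mul_inv_cancel_right]]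
    exact commutator_mem_commutator ha hc
  by_cases hPc : IsMulCommutative P
  · -- `M_σ` is abelian
    have hK0 : ⁅K, K⁆ = ⊥ := by
      refine le_bot_iff.1 (hder.trans (Subgroup.commutator_le.2 fun a ha b hb => ?_))
      rw [mem_bot, commutatorElement_eq_one_iff_mul_comm]
      exact PGroups.comm_of_isMulCommutative hPc ha hb
    have hn : M ≤ normalizer ((⊥ : Subgroup G) : Set G) := fun m _ =>
      mem_normalizer_of_conj fun a ha => by simp [mem_bot.1 ha]
    have S := B.setting I (N := ⊥) hLK bot_le hn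
      (fun a ha b hb => hK0 ▸ commutator_mem_commutator ha hb)
      (B.free I bot_le hK0.le hn) (B.e_ge I) hb1
      (by rw [relIndex_bot_left, ← B.cardA]; exact Nat.le_of_dvd Nat.card_pos (card_dvd_of_le B.AK))
    refine S.caseI (fun a ha _ => mem_bot.1 ha) fun h => B.hidx I S ?_ h.2
    rw [relIndex_bot_left] at h
    exact inf_eq_right.1 (eq_of_le_of_card_ge inf_le_right h.1.ge)
  -- `P` is not abelian
  set N := ⁅K, K⁆
  have hNP : N ≤ P := hder.trans (commutator_le_self P)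
  have hxN : x ∉ N := B.x_not_derived I
  have hNeq : N = ⁅P, P⁆ := le_antisymm hder (commutator_mono D.PK D.PK)
  have hidxP : p ^ 2 ≤ N.relIndex P := by
    obtain ⟨j, hj⟩ := D.Pp.exists_card_eq
    obtain ⟨s, -, hs⟩ := (Nat.dvd_prime_pow B.prime).1 (hj ▸ relIndex_dvd_card N P)
    rw [hs]
    refine Nat.pow_le_pow_right B.prime.pos ?_
    by_contra hs2
    push Not at hs2
    -- `P = ⟨x⟩ P'`
    have hxn : zpowers x ≤ normalizer (N : Set G) :=
      (zpowers_le.2 (sigmaCore_le M B.xK)).trans (B.derived_normalised I)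
    have hle : N ⊔ zpowers x ≤ P := sup_le hNP (zpowers_le.2 (D.AP B.xA))
    have hdisj : N ⊓ zpowers x = ⊥ := (eq_bot_iff_forall _).2 fun a ha => by
      obtain ⟨n, rfl⟩ := mem_zpowers_iff.1 ha.2
      obtain ⟨t, rfl⟩ := B.x_zpow_mem hxN ha.1
      rw [zpow_mul, zpow_natCast, B.x_pow, one_zpow]
    have hP : N ⊔ zpowers x = P := by
      refine eq_of_le_of_card_ge hle ?_
      rw [Coprime.card_sup hxn hdisj, Nat.card_zpowers, orderOf_eq_prime B.x_pow B.x_ne]
      have h1 := relIndex_mul_relIndex ⊥ N P bot_le hNP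
      rw [relIndex_bot_left, relIndex_bot_left, hs] at h1
      rw [← h1]
      refine Nat.mul_le_mul_left _ ?_
      calc p ^ s ≤ p ^ 1 := Nat.pow_le_pow_right B.prime.pos (Nat.le_of_lt_succ hs2)
        _ = p := pow_one p
    have hnil : Group.IsNilpotent P := IsPGroup.isNilpotent D.Pp
    have htop : (zpowers x).subgroupOf P = ⊤ := by
      refine top_of_sup_derived ?_
      apply Subgroup.map_injective P.subtype_injective
      rw [Subgroup.map_sup, Subgroup.map_subtype_commutator, map_subgroupOf_eq_of_le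
        (zpowers_le.2 (D.AP B.xA)), ← hNeq, ← MonoidHom.range_eq_map, Subgroup.range_subtype,
        sup_comm]
      exact hP
    have hPx : P ≤ zpowers x := fun a ha => by
      have h1 : (⟨a, ha⟩ : P) ∈ (zpowers x).subgroupOf P := htop ▸ mem_top _
      exact h1
    exact hPc ⟨⟨fun a b => Subtype.ext (by
      obtain ⟨i, hi⟩ := mem_zpowers_iff.1 (hPx a.2)
      obtain ⟨k, hk⟩ := mem_zpowers_iff.1 (hPx b.2)
      show (a : G) * b = b * a
      rw [← hi, ← hk, ← zpow_add, ← zpow_add, add_comm])⟩⟩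
  have hidxK : p ^ 2 ≤ N.relIndex K := hidxP.trans (Nat.le_of_dvd
    (Nat.pos_of_ne_zero (N.subgroupOf K).index_ne_zero_of_finite)
    (Dvd.intro _ (relIndex_mul_relIndex N P K hNP D.PK)))
  have hn := B.derived_normalised I
  have S := B.setting I (N := N) hLK (commutator_le_self K) hn
    (fun a ha b hb => commutator_mem_commutator ha hb)
    (B.free I (commutator_le_self K) le_rfl hn) (B.e_ge I) hb1 hidxK
  -- a central element of order `p` in `P'`
  have hPnt : (⁅P, P⁆).subgroupOf P ≠ ⊥ := fun h => hPc ⟨⟨fun a b => by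
    have h1 : ⁅a, b⁆ ∈ (⁅P, P⁆).subgroupOf P := commutator_mem_commutator a.2 b.2
    rw [h, mem_bot] at h1
    exact commutatorElement_eq_one_iff_mul_comm.1 h1⟩⟩
  have hPn : ((⁅P, P⁆).subgroupOf P).Normal :=
    normal_subgroupOf_of_le_normalizer fun a ha => Coprime.mem_normalizer_of_map_conj (by
      rw [Subgroup.map_commutator, Coprime.map_conj_eq (le_normalizer ha)])
  obtain ⟨y, hy, hyc, hyo⟩ := PGroups.exists_mem_center_orderOf_eq D.Pp _ hPnt
  have hyo' : orderOf (y : G) = p := by rw [Subgroup.orderOf_coe]; exact hyo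
  have hy1 : (y : G) ≠ 1 := fun h => by
    rw [h, orderOf_one] at hyo'
    exact B.prime.one_lt.ne hyo'
  have hcardK : Nat.card K = Nat.card P * Nat.card W := by
    have hWn : W ≤ normalizer (P : Set G) := fun w hw => mem_normalizer_of_conj fun a ha => by
      rwa [← hcomm a ha w hw, mul_inv_cancel_right]
    rw [← Coprime.card_sup hWn hPW, le_antisymm (sup_le D.PK hWK) fun k hk => ?_]
    obtain ⟨a, ha, b, hb, rfl⟩ := hmul k hk
    exact mul_mem_sup ha hb
  have hlt : L ⊓ K < K := lt_of_le_of_ne inf_le_right fun h => hPc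
    ⟨⟨fun a b => Subtype.ext (hLK _ (h.symm ▸ D.PK a.2 : (a : G) ∈ L ⊓ K) _
      (h.symm ▸ D.PK b.2 : (b : G) ∈ L ⊓ K))⟩⟩
  refine S.caseII P hNP D.PK (fun a ha => ?_) ?_ (fun z hz _ => ?_) (fun z hz hz1 => ?_)
    (Set.Finite.card_lt_card (Set.toFinite _) hlt) fun he => ?_
  · obtain ⟨k, hk⟩ := D.Pp ⟨a, ha⟩
    exact ⟨k, congrArg Subtype.val hk⟩
  · have h1 := relIndex_mul_relIndex ⊥ N P bot_le hNP
    rw [relIndex_bot_left, relIndex_bot_left] at h1
    rw [← h1]
    refine Nat.mul_lt_mul_of_pos_left (lt_of_lt_of_le ?_ hidxP) Nat.card_pos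
    have := B.e_ge I
    nlinarith
  · refine ⟨y, B.P_le I D y.2, ?_, ?_, B.derived_centralizer I
      (hNeq.symm ▸ hy : (y : G) ∈ N) (hyo' ▸ pow_orderOf_eq_one (y : G)) hy1⟩
    · rw [← hyo', pow_orderOf_eq_one]
    · exact congrArg Subtype.val (Subgroup.mem_center_iff.1 hyc ⟨z, hz⟩).symm
  · obtain ⟨k, hk⟩ := D.Pp ⟨z, hNP hz⟩
    have ho : p ∣ orderOf z := by
      obtain ⟨i, -, hi⟩ := (Nat.dvd_prime_pow B.prime).1
        (orderOf_dvd_of_pow_eq_one (congrArg Subtype.val hk : z ^ p ^ k = 1))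
      rcases Nat.eq_zero_or_pos i with rfl | h0
      · exact absurd (orderOf_eq_one_iff.1 (by simpa using hi)) hz1
      · exact hi ▸ dvd_pow_self p h0.ne'
    set w := z ^ (orderOf z / p)
    have hw : orderOf w = p := orderOf_pow_orderOf_div (orderOf_pos z).ne' ho
    refine le_trans (fun c hc => mem_centralizer_singleton_iff.2 ?_) (B.derived_centralizer I
      (show w ∈ N from pow_mem hz _) (hw ▸ pow_orderOf_eq_one w)
      (fun h => B.prime.one_lt.ne (by rw [← hw, h, orderOf_one])))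
    exact ((show Commute c z from mem_centralizer_singleton_iff.1 hc).pow_right _).eq
  · obtain ⟨-, hc2, hML⟩ := hb2 he hPc
    refine ⟨relIndex_eq_one.2 (le_inf inf_le_right hML), (hNeq ▸ hc2.le), ?_⟩
    have h1 := relIndex_mul_relIndex ⊥ (L ⊓ K) K bot_le inf_le_right
    rw [relIndex_bot_left, relIndex_bot_left] at h1
    have h2 : (L ⊓ K).relIndex K ∣ W.relIndex K :=
      Dvd.intro_left _ (relIndex_mul_relIndex W (L ⊓ K) K (le_inf hWx hWK) inf_le_right)
    have h3 : W.relIndex K = Nat.card P := by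
      have h4 := relIndex_mul_relIndex ⊥ W K bot_le hWK
      rw [relIndex_bot_left, relIndex_bot_left, hcardK, mul_comm (Nat.card P)] at h4
      exact Nat.eq_of_mul_eq_mul_left Nat.card_pos h4
    obtain ⟨j, hj⟩ := D.Pp.exists_card_eq
    rw [h3, hj] at h2
    obtain ⟨s, -, hs⟩ := (Nat.dvd_prime_pow B.prime).1 h2
    rw [← h1, hs, mul_comm p]
    refine Nat.mul_le_mul_left _ (Nat.le_self_pow (fun h0 => ?_) p)
    rw [h0, pow_zero, relIndex_eq_one] at hs
    exact hlt.not_ge hs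

end Cfsg.Agent.OddOrder.PF12
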