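import Mathlib
import Cfsg.Agent.PGroups.Extraspecial

/-!
# Class two with a derived group of prime order: the centre has square index
-/

set_option autoImplicit false

namespace Cfsg.Agent.OddOrder.PF12

open Subgroup
open scoped commutatorElement

universe u

theorem center_index_sq_aux {p : ℕ} (hp : p.Prime) : ∀ (n : ℕ) (X : Type u) [Group X] [Finite X],
    Nat.card X ≤ n → commutator X ≤ center X → Nat.card (commutator X) ∣ p →
      ∃ k : ℕ, (center X).index = p ^ (2 * k) := by
  have : Fact p.Prime := ⟨hp⟩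
  intro n
  induction n with
  | zero => intro X _ _ hX; exact absurd hX (not_le.mpr Nat.card_pos)
  | succ n ih =>
    intro X _ _ hX hc hd
    by_cases hcomm : ∀ a b : X, ⁅a, b⁆ = 1
    · refine ⟨0, ?_⟩
      rw [mul_zero, pow_zero, index_eq_one, eq_top_iff]
      exact fun a _ => Subgroup.mem_center_iff.2 fun b =>
        (commutatorElement_eq_one_iff_mul_comm.1 (hcomm b a))
    push Not at hcomm
    obtain ⟨x, y, hxy⟩ := hcomm
    have hmem : ∀ a b : X, ⁅a, b⁆ ∈ commutator X := fun a b => by
      rw [commutator_def]; exact commutator_mem_commutator (mem_top a) (mem_top b)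
    have hcard : Nat.card (commutator X) = p := (hp.eq_one_or_self_of_dvd _ hd).resolve_left fun h => by
      rw [Subgroup.card_eq_one] at h
      exact hxy (mem_bot.1 (h ▸ hmem x y))
    have hgen := PGroups.zpowers_eq_of_card_eq hcard (hmem x y) hxy
    have hadd : ∀ a b c : X, ⁅a * b, c⁆ = ⁅a, c⁆ * ⁅b, c⁆ := fun a b c =>
      PGroups.commutatorElement_mul_left_of_mem_center (hc (hmem b c))
    have hpw : ∀ (a c : X) (i : ℤ), ⁅a ^ i, c⁆ = ⁅a, c⁆ ^ i := fun a c i => by
      rw [← PGroups.commutatorHom_apply hc c a, ← PGroups.commutatorHom_apply hc c (a ^ i), map_zpow,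
        Subgroup.coe_zpow]
    let f₁ : X →* commutator X := MonoidHom.mk' (fun g => ⟨⁅g, x⁆, hmem g x⟩)
      fun a b => Subtype.ext (hadd a b x)
    let f₂ : X →* commutator X := MonoidHom.mk' (fun g => ⟨⁅g, y⁆, hmem g y⟩)
      fun a b => Subtype.ext (hadd a b y)
    let f := f₁.prod f₂
    set C := f.ker with hC
    have hCmem : ∀ g, g ∈ C ↔ ⁅g, x⁆ = 1 ∧ ⁅g, y⁆ = 1 := fun g => by
      simp [hC, f, f₁, f₂, MonoidHom.mem_ker, Prod.ext_iff, Subtype.ext_iff]
    have hsurj : Function.Surjective f := by
      rintro ⟨⟨a, ha⟩, ⟨b, hb⟩⟩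
      rw [← hgen] at ha hb
      obtain ⟨k, rfl⟩ := Subgroup.mem_zpowers_iff.mp ha
      obtain ⟨m, rfl⟩ := Subgroup.mem_zpowers_iff.mp hb
      refine ⟨y ^ (-k) * x ^ m, Prod.ext (Subtype.ext ?_) (Subtype.ext ?_)⟩
      · change ⁅y ^ (-k) * x ^ m, x⁆ = _
        rw [hadd, hpw, hpw, commutatorElement_self, one_zpow, mul_one, ← commutatorElement_inv x y,
          inv_zpow, zpow_neg, inv_inv]
      · change ⁅y ^ (-k) * x ^ m, y⁆ = _
        rw [hadd, hpw, hpw, commutatorElement_self, one_zpow, one_mul]
    have hidx : C.index = p ^ 2 := by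
      rw [hC, Subgroup.index_ker, MonoidHom.range_eq_top.mpr hsurj, Subgroup.card_top, Nat.card_prod,
        hcard, sq]
    have hdec : ∀ g : X, ∃ i j : ℤ, x ^ i * y ^ j * g ∈ C := by
      intro g
      obtain ⟨m, hm⟩ := Subgroup.mem_zpowers_iff.mp (hgen.symm ▸ hmem g y : ⁅g, y⁆ ∈ zpowers ⁅x, y⁆)
      obtain ⟨k, hk⟩ := Subgroup.mem_zpowers_iff.mp (hgen.symm ▸ hmem g x : ⁅g, x⁆ ∈ zpowers ⁅x, y⁆)
      refine ⟨-m, k, (hCmem _).2 ⟨?_, ?_⟩⟩
      · rw [hadd, hadd, hpw, hpw, commutatorElement_self, one_zpow, one_mul,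
          ← commutatorElement_inv x y, ← hk, inv_zpow, inv_mul_cancel]
      · rw [hadd, hadd, hpw, hpw, commutatorElement_self, one_zpow, mul_one, ← hm, zpow_neg,
          inv_mul_cancel]
    have hZC : center X ≤ C := fun z hz => (hCmem z).2
      ⟨commutatorElement_eq_one_iff_mul_comm.2 (Subgroup.mem_center_iff.1 hz x).symm,
        commutatorElement_eq_one_iff_mul_comm.2 (Subgroup.mem_center_iff.1 hz y).symm⟩
    have hcen : center C = (center X).subgroupOf C := by
      ext z
      refine ⟨fun hz => ?_, fun hz => Subgroup.mem_center_iff.2 fun g => Subtype.ext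
        (Subgroup.mem_center_iff.1 hz (g : X))⟩
      refine mem_subgroupOf.2 (Subgroup.mem_center_iff.2 fun g => ?_)
      obtain ⟨i, j, hij⟩ := hdec g
      obtain ⟨hzx, hzy⟩ := (hCmem _).1 z.2
      have h1 : Commute (z : X) x := commutatorElement_eq_one_iff_commute.1 hzx
      have h2 : Commute (z : X) y := commutatorElement_eq_one_iff_commute.1 hzy
      have h3 : Commute (z : X) (x ^ i * y ^ j * g) :=
        (congrArg Subtype.val (Subgroup.mem_center_iff.1 hz ⟨_, hij⟩)).symm
      have h5 : Commute (z : X) g := by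
        rw [show g = (x ^ i * y ^ j)⁻¹ * (x ^ i * y ^ j * g) by group]
        exact (((h1.zpow_right i).mul_right (h2.zpow_right j)).inv_right).mul_right h3
      exact h5.symm.eq
    have hcC : commutator C ≤ center C := by
      rw [hcen]
      refine map_le_iff_le_comap.1 (le_trans ?_ hc)
      rw [commutator_def, Subgroup.map_commutator]
      rw [commutator_def X]
      exact commutator_mono le_top le_top
    have hdC : Nat.card (commutator C) ∣ p := by
      refine (Dvd.dvd.trans ?_ hd)
      rw [Nat.card_congr ((commutator C).equivMapOfInjective _ C.subtype_injective).toEquiv,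
        commutator_def, Subgroup.map_commutator, commutator_def X]
      exact card_dvd_of_le (commutator_mono le_top le_top)
    have hlt : Nat.card C ≤ n := by
      have h1 := C.card_mul_index
      rw [hidx] at h1
      have h2 : Nat.card C * 2 ≤ Nat.card X := h1 ▸ Nat.mul_le_mul_left _
        (hp.two_le.trans (Nat.le_self_pow two_ne_zero p))
      have := Nat.card_pos (α := C)
      omega
    obtain ⟨k, hk⟩ := ih C hlt hcC hdC
    refine ⟨k + 1, ?_⟩
    rw [← relIndex_mul_index hZC, Subgroup.relIndex, ← hcen, hk, hidx, ← pow_add]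
    ring_nf

/-- In class two with a derived group of order dividing `p` the centre has index `p` to an even
power. -/
theorem center_index_sq {p : ℕ} (hp : p.Prime) {X : Type u} [Group X] [Finite X]
    (hc : commutator X ≤ center X) (hd : Nat.card (commutator X) ∣ p) :
    ∃ k : ℕ, (center X).index = p ^ (2 * k) :=
  center_index_sq_aux hp _ X le_rfl hc hd

end Cfsg.Agent.OddOrder.PF12
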