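import Cfsg.Agent.OddOrder.PF12.CaseA
import Cfsg.Agent.OddOrder.PF12.ClassTwo
import Cfsg.Agent.Coprime.Abelian
import Cfsg.Agent.OddOrder.BG16.TypesP
import Cfsg.Agent.OddOrder.BG15.Instance
import Cfsg.Agent.OddOrder.BG15.Fcore
import Cfsg.Agent.S1421

/-!
# Peterfalvi (12.7): the case of a non-nilpotent `M_σ`
-/

set_option autoImplicit false
set_option linter.unusedSectionVars false

namespace Cfsg.Agent.OddOrder.PF12

open Subgroup
open Cfsg.Agent Cfsg.Agent.OddOrder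
open scoped commutatorElement

universe u

variable {G : Type u} [Group G] [Finite G]

/-- A `q`-element of a group lies in every normal subgroup of index prime to `q`. -/
theorem mem_of_coprime_index {q : ℕ} (hq : q.Prime) {Q M : Subgroup G} (hn : M ≤ normalizer (Q : Set G))
    (hidx : ¬ q ∣ Q.relIndex M) {a : G} (ha : a ∈ M) {k : ℕ} (hk : a ^ q ^ k = 1) : a ∈ Q := by
  have hN : (Q.subgroupOf M).Normal := normal_subgroupOf_of_le_normalizer hn
  have h1 : ((⟨a, ha⟩ : M) : M ⧸ Q.subgroupOf M) = 1 := by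
    rw [← orderOf_eq_one_iff]
    refine Nat.eq_one_of_dvd_coprimes (a := q ^ k) (b := Q.relIndex M)
      (Nat.Coprime.pow_left k ((Nat.Prime.coprime_iff_not_dvd hq).2 hidx)) ?_ ?_
    · refine orderOf_dvd_of_pow_eq_one ?_
      rw [← QuotientGroup.mk_pow, show (⟨a, ha⟩ : M) ^ q ^ k = 1 from Subtype.ext hk, QuotientGroup.mk_one]
    · rw [Subgroup.relIndex, Subgroup.index_eq_card]
      exact orderOf_dvd_natCard _
  exact mem_subgroupOf.1 ((QuotientGroup.eq_one_iff (⟨a, ha⟩ : M)).1 h1)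

variable {p : ℕ} {L M A E P : Subgroup G} {x : G} (I : Inputs G) (B : Base p L M A x)
include I B

/-- If `A` meets `M_σ'` trivially then `M ⊓ L ≤ M_σ`. -/
theorem Base.ML_le (hA : ∀ a ∈ A, a ∈ ⁅Cfsg.sigmaCore M, Cfsg.sigmaCore M⁆ → a = 1) :
    M ⊓ L ≤ Cfsg.sigmaCore M := by
  intro b hb
  by_contra hbK
  obtain ⟨r, hr, hro, hrσ⟩ : ∃ r : ℕ, r.Prime ∧ r ∣ orderOf b ∧ r ∉ Cfsg.sigma M := by
    by_contra hall
    push Not at hall
    exact hbK (BG15.mem_sigmaCore I.hG B.hM hb.1 hall)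
  have : Fact p.Prime := ⟨B.prime⟩
  have : Fact r.Prime := ⟨hr⟩
  set H := Cfsg.sigmaCore L
  obtain ⟨-, E₀, hE₀, hexp, hfree⟩ := Cfsg.Agent.S1421.result I.hG L B.hL (M ⊓ L) (B.support_L I).2
    (fun e he he1 hτ => by
      refine (eq_bot_iff_forall _).2 fun h hh => ?_
      by_contra hh1
      obtain ⟨h2, -⟩ := I.outside B.hL B.kappaL hh.1 hh1 he.2 he1
        (mem_centralizer_singleton_iff.1 hh.2) fun q hq hd =>
          B.not_sigma_ML I hq (hd.trans (orderOf_dvd_natCard _ he))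
      obtain ⟨q, hq, hd⟩ := Nat.exists_prime_and_dvd (mt orderOf_eq_one_iff.1 he1)
      rcases hτ q hq hd with h3 | h3
      · exact (h2 q hq hd).2.2.2 h3.2.2.2.2
      · exact (h2 q hq hd).2.2.2 h3.2.2.2)
  have hex : ∀ {q : ℕ} {c : G}, q.Prime → c ∈ M ⊓ L → q ∣ orderOf c → ∃ a ∈ E₀, orderOf a = q := by
    intro q c hq hc hd
    have : Fact q.Prime := ⟨hq⟩
    have h1 : q ∣ Monoid.exponent ↥(M ⊓ L) := by
      refine hd.trans ?_
      rw [← Subgroup.orderOf_mk c hc]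
      exact Monoid.order_dvd_exponent _
    rw [← hexp] at h1
    obtain ⟨a, ha⟩ := exists_prime_orderOf_dvd_card' q (h1.trans Group.exponent_dvd_nat_card)
    exact ⟨a, a.2, by rw [Subgroup.orderOf_coe, ha]⟩
  obtain ⟨a, ha, hao⟩ := hex B.prime (B.A_le_ML I B.xA) (by rw [orderOf_eq_prime B.x_pow B.x_ne])
  obtain ⟨b₀, hb₀, hb₀o⟩ := hex hr hb hro
  have ha1 : a ≠ 1 := fun h => B.prime.one_lt.ne (by rw [← hao, h, orderOf_one])
  have hb1 : b₀ ≠ 1 := fun h => hr.one_lt.ne (by rw [← hb₀o, h, orderOf_one])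
  have haA : a ∈ A := (B.ML_spec I).2 (zpowers a) (zpowers_le.2 (hE₀ ha))
    (by rw [Nat.card_zpowers, hao]) (mem_zpowers a)
  -- `E₀ ⊓ A = ⟨a⟩`
  have hxE : x ∉ E₀ := fun hxE => by
    obtain ⟨h, hh, hc, hh'⟩ := B.x_fix
    have h1 : h ∈ H ⊓ centralizer ({x} : Set G) := ⟨hh, mem_centralizer_singleton_iff.2 hc.eq⟩
    rw [hfree x hxE B.x_ne, mem_bot] at h1
    exact hh' (h1 ▸ one_mem _)
  have hEA : E₀ ⊓ A = zpowers a := by
    refine (eq_of_le_of_card_ge (zpowers_le.2 (show a ∈ E₀ ⊓ A from ⟨ha, haA⟩)) ?_).symm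
    rw [Nat.card_zpowers, hao]
    obtain ⟨s, hs2, hs⟩ := (Nat.dvd_prime_pow B.prime).1
      (B.cardA ▸ card_dvd_of_le (inf_le_right : E₀ ⊓ A ≤ A))
    rw [hs]
    calc p ^ s ≤ p ^ 1 := Nat.pow_le_pow_right B.prime.pos (by
          by_contra hs1
          push Not at hs1
          have h2 : E₀ ⊓ A = A := eq_of_le_of_card_ge inf_le_right (by
            rw [hs, B.cardA]
            exact Nat.pow_le_pow_right B.prime.pos (by omega))
          exact hxE (inf_eq_right.1 h2 B.xA))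
      _ = p := pow_one p
  have hn : b₀ ∈ normalizer (zpowers a : Set G) := mem_normalizer_of_conj fun c hc => by
    rw [← hEA] at hc ⊢
    exact ⟨E₀.mul_mem (E₀.mul_mem hb₀ hc.1) (E₀.inv_mem hb₀),
      Coprime.conj_mem ((B.ML_spec I).1 (hE₀ hb₀)) hc.2⟩
  have hb₀K : b₀ ∉ Cfsg.sigmaCore M := fun h => hrσ (PF8.prime_mem_sigma h hr (by rw [hb₀o]))
  -- `b₀` centralises `a`
  by_cases hba : Commute b₀ a
  · exact ha1 (hA a haA (B.fix_le I hr (hE₀ hb₀).1 (hb₀o ▸ pow_orderOf_eq_one b₀) hb₀K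
      ⟨B.AK haA, mem_centralizer_singleton_iff.2 hba.eq.symm⟩))
  have hH1 : H ≠ ⊥ := fun e => by
    obtain ⟨h, hh, -, hh'⟩ := B.x_fix
    have h0 : h ∈ H := hh
    rw [e, mem_bot] at h0
    exact hh' (h0 ▸ one_mem _)
  have hfixA : ∀ c ∈ E₀, c ≠ 1 → H ⊓ centralizer (zpowers c : Set G) = ⊥ := fun c hc hc1 => by
    rw [centralizer_zpowers]
    exact hfree c hc hc1
  have hcard := BG3.fw_formula (U := zpowers a) (E := zpowers b₀) (H := H) (zpowers_le.2 hn)
    (fun g hg hg1 c hc hgc => by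
      by_contra hc1
      apply hba
      have hz : zpowers g = zpowers b₀ := eq_of_le_of_card_ge (zpowers_le.2 hg) (by
        have h1 : orderOf g ∣ r := hb₀o ▸ orderOf_dvd_of_mem_zpowers hg
        rw [Nat.card_zpowers, Nat.card_zpowers, hb₀o,
          (hr.eq_one_or_self_of_dvd _ h1).resolve_left (mt orderOf_eq_one_iff.1 hg1)])
      have hz' : zpowers c = zpowers a := PGroups.zpowers_eq_of_card_eq
        (show Nat.card (zpowers a) = p by rw [Nat.card_zpowers, hao]) hc hc1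
      obtain ⟨i, rfl⟩ := mem_zpowers_iff.1 (show b₀ ∈ zpowers g from hz ▸ mem_zpowers b₀)
      obtain ⟨j, rfl⟩ := mem_zpowers_iff.1 (show a ∈ zpowers c from hz' ▸ mem_zpowers a)
      exact (show Commute g c from hgc).zpow_zpow i j)
    (fun e => ha1 (mem_bot.1 (e ▸ mem_zpowers a))) (fun e => hb1 (mem_bot.1 (e ▸ mem_zpowers b₀)))
    ((zpowers_le.2 (hE₀ ha).2).trans (le_normalizer_sigmaCore L))
    ((zpowers_le.2 (hE₀ hb₀).2).trans (le_normalizer_sigmaCore L))
    (Coprime.isSolvable_of_le (sigmaCore_le L) (BG15.solvable I.hG B.hL))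
    ((B.coprime I).coprime_dvd_right (card_dvd_of_le
      (sup_le (zpowers_le.2 (hE₀ ha)) (zpowers_le.2 (hE₀ hb₀)))))
    (hfixA a ha ha1)
  rw [hfixA b₀ hb₀ hb1, card_bot, one_pow] at hcard
  exact hH1 (card_eq_one.1 hcard)

variable (D : SylowData p M A E P)
include D

/-- An abelian narrow `P` has its elements of order `p` in `A`. -/
theorem Base.omega_eq (hc : IsMulCommutative P) : ∀ y ∈ P, y ^ p = 1 → y ∈ A := by
  have : Fact p.Prime := ⟨B.prime⟩
  have hcomm : ∀ a ∈ P, ∀ b ∈ P, a * b = b * a := fun a ha b hb =>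
    PGroups.comm_of_isMulCommutative hc ha hb
  have hr : Cfsg.PRankLE p 2 P := by
    rcases B.narrow I D with hr | ⟨R₀, R₁, hR₀, hR₁, hinf, hcom, hsup⟩
    · exact hr
    intro X hX hXp
    have htop : R₀ ⊔ R₁ = ⊤ := by
      rw [hsup, eq_top_iff]
      exact fun g _ => mem_centralizer_iff.2 fun h _ => Subtype.ext (hcomm _ h.2 _ g.2)
    have hidx : R₁.index = p := by
      have h1 := R₁.card_mul_index
      have h2 : Nat.card ↥(R₁ ⊔ R₀) = Nat.card R₁ * Nat.card R₀ :=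
        Coprime.card_sup (fun g hg => mem_normalizer_of_conj fun h hh => by
          rwa [hcom g hg h hh, mul_inv_cancel_right]) (by rw [inf_comm]; exact hinf)
      rw [sup_comm, htop, card_top, hR₀, ← h1] at h2
      exact Nat.eq_of_mul_eq_mul_left Nat.card_pos h2
    have h3 : R₁.relIndex X ≤ p := by
      calc R₁.relIndex X ≤ R₁.relIndex ⊤ := relIndex_le_of_le_right le_top (by
            rw [relIndex_top_right, hidx]; exact B.prime.ne_zero)
        _ = p := by rw [relIndex_top_right, hidx]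
    have hYc : IsCyclic ↥(R₁ ⊓ X) := by
      exact isCyclic_of_injective (Subgroup.inclusion (inf_le_left : R₁ ⊓ X ≤ R₁))
        (Subgroup.inclusion_injective _)
    have hY : Nat.card ↥(R₁ ⊓ X) ≤ p := by
      rw [← IsCyclic.exponent_eq_card]
      refine Nat.le_of_dvd B.prime.pos (Monoid.exponent_dvd_of_forall_pow_eq_one fun g =>
        Subtype.ext ?_)
      exact hXp g g.2.2
    have h4 := relIndex_mul_relIndex ⊥ (R₁ ⊓ X) X bot_le inf_le_right
    rw [relIndex_bot_left, relIndex_bot_left, inf_relIndex_right] at h4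
    rw [← h4, sq]
    exact Nat.mul_le_mul hY h3
  let Ω : Subgroup G :=
    { carrier := {y | y ∈ P ∧ y ^ p = 1}
      one_mem' := ⟨one_mem _, one_pow _⟩
      mul_mem' := by
        rintro a b ⟨ha, ha'⟩ ⟨hb, hb'⟩
        exact ⟨mul_mem ha hb, by
          rw [(show Commute a b from hcomm a ha b hb).mul_pow, ha', hb', one_mul]⟩
      inv_mem' := by
        rintro a ⟨ha, ha'⟩
        exact ⟨inv_mem ha, by rw [inv_pow, ha', inv_one]⟩ }
  have hΩP : Ω ≤ P := fun y hy => hy.1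
  have hAΩ : A ≤ Ω := fun a ha => ⟨D.AP ha, B.elem.2 a ha⟩
  have h1 := hr (Ω.subgroupOf P) ⟨⟨fun a b => Subtype.ext (Subtype.ext (hcomm _ a.1.2 _ b.1.2))⟩⟩
    fun a ha => Subtype.ext (show ((a : P) : G) ^ p = 1 from ha.2)
  rw [Nat.card_congr (subgroupOfEquivOfLe hΩP).toEquiv, ← B.cardA] at h1
  intro y hy hyp
  rw [eq_of_le_of_card_ge hAΩ h1]
  exact ⟨hy, hyp⟩

omit D in
/-- The case of a non-nilpotent `M_σ`. -/
theorem Base.false_nonnilpotent (hno4 : ¬ Cfsg.IsOfTypeIV M)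
    (hne : Cfsg.fittingHallOf M ≠ Cfsg.sigmaCore M) : False := by
  have : Fact p.Prime := ⟨B.prime⟩
  obtain ⟨Kκ, U, hd⟩ := BG16.decomposition_exists I.SF B.hM
  obtain ⟨hU, hTI, hKp⟩ := I.SF.s1357 M B.hM Kκ U hd hne
  have hKκ : Kκ ≠ ⊥ := fun h => hKp.ne_one (card_eq_one.2 h)
  obtain ⟨W₁, U', W₂, hTP, -, -, -, hU'ab, -⟩ :=
    (BG16.typeIII_IV_of I.hG I.SF B.hM hd hKκ hU hne).resolve_right hno4
  set K := Cfsg.sigmaCore M with hKdef
  have hder : ⁅M, M⁆ = K := by rw [(I.SF.s1365 M B.hM Kκ U hd hKκ).1, hU, bot_sup_eq]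
  obtain ⟨E, P, D⟩ := B.exists_sylowData I
  set F := Cfsg.fittingHallOf M
  have hFM : F ≤ M := BG15.fittingHallOf_le M
  -- `P` is abelian
  have hpF : ¬ p ∣ Nat.card F := fun hpF => by
    have h1 : ¬ p ∣ F.relIndex M := fun h => B.prime.ne_one
      (Nat.eq_one_of_dvd_coprimes (BG16.fittingHallOf_coprime M) hpF h)
    exact B.not_mem_fitting I hTI (BG15.fittingHallOf_le_fittingOf M
      (mem_of_coprime_index B.prime (BG15.le_normalizer_fittingHallOf M) h1 (sigmaCore_le M B.xK)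
        (k := 1) (by rw [pow_one]; exact B.x_pow)))
  have hPc : IsMulCommutative P := by
    have hcU := hTP.U_compl
    rw [hder] at hcU
    have hFU : Nat.card F * Nat.card U' = Nat.card K := by
      have hn : U' ≤ normalizer (F : Set G) :=
        (hcU.2.1.trans (sigmaCore_le M)).trans (BG15.le_normalizer_fittingHallOf M)
      rw [← Coprime.card_sup hn hcU.2.2.1, le_antisymm (sup_le hcU.1 hcU.2.1) fun k hk => ?_]
      obtain ⟨a, ha, b, hb, rfl⟩ := hcU.2.2.2 k hk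
      exact mul_mem_sup ha hb
    have hcop : (Nat.card F).Coprime (Nat.card U') := by
      refine (BG16.fittingHallOf_coprime M).coprime_dvd_right ?_
      rw [← relIndex_mul_relIndex F K M hcU.1 (sigmaCore_le M)]
      refine Dvd.dvd.mul_right ?_ _
      have h1 := relIndex_mul_relIndex ⊥ F K bot_le hcU.1
      rw [relIndex_bot_left, relIndex_bot_left, ← hFU] at h1
      exact (Nat.eq_of_mul_eq_mul_left Nat.card_pos h1).symm ▸ dvd_rfl
    have hidxU : U'.relIndex K = Nat.card F := by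
      have h1 := relIndex_mul_relIndex ⊥ U' K bot_le hcU.2.1
      rw [relIndex_bot_left, relIndex_bot_left, ← hFU, mul_comm (Nat.card F)] at h1
      exact Nat.eq_of_mul_eq_mul_left Nat.card_pos h1
    obtain ⟨m, -, hm⟩ := BG15.exists_conj_le_hallOf
      (π := {r | ¬ r ∣ Nat.card F}) (H := U') (X := P)
      (Coprime.isSolvable_of_le (sigmaCore_le M) (BG15.solvable I.hG B.hM))
      ⟨hcU.2.1, fun r hr h1 h2 => hr.ne_one (Nat.eq_one_of_dvd_coprimes hcop h2 h1),
        fun r hr hrπ h => hrπ (hidxU ▸ h)⟩ D.PK fun r hr hd' => by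
        obtain ⟨j, hj⟩ := D.Pp.exists_card_eq
        rw [hj] at hd'
        exact (Nat.prime_dvd_prime_iff_eq hr B.prime).1 (hr.dvd_of_dvd_pow hd') ▸ hpF
    refine ⟨⟨fun a b => Subtype.ext ?_⟩⟩
    have h := PGroups.comm_of_isMulCommutative hU'ab (hm ⟨a, a.2, rfl⟩) (hm ⟨b, b.2, rfl⟩)
    rw [← map_mul, ← map_mul] at h
    exact (MulAut.conj m).injective h
  -- the normal Sylow `q`-subgroup
  obtain ⟨Q, hQ⟩ := BG15.nonNilp_structure (BG15.facts I.hG) B.hM hd hne
  set q := Nat.card (BG15.kStar M Kκ)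
  have hq := hQ.q_prime
  have : Fact q.Prime := ⟨hq⟩
  have hqp : q ≠ p := fun h => B.not_beta I (h ▸ hQ.q_beta)
  have hQK : Q ≤ K := hQ.Q_le.trans (I.SF.s1355 M B.hM).2.1
  have hQn := hQ.Q_norm
  have hqσ : q ∈ Cfsg.sigma M := BG10.alpha_subset_sigma I.hG B.hM hQ.q_beta.1
  have hQM : ¬ q ∣ Q.relIndex M := by
    rw [← relIndex_mul_relIndex Q K M hQK (sigmaCore_le M)]
    exact fun h => (hq.dvd_mul.1 h).elim hQ.Q_hall ((BG15.hallσ I.hG B.hM).2.2 q hq hqσ)
  -- an invariant complement containing `P`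
  obtain ⟨D₁, hD₁, hED, hPD⟩ := Coprime.exists_invariant_hall_ge (π := {r | r ≠ q}) (A := E) (K := K)
    (D.compl.1.trans (le_normalizer_sigmaCore M)) (B.coprime_E I D)
    (Coprime.isSolvable_of_le (sigmaCore_le M) (BG15.solvable I.hG B.hM)) D.PK D.EP
    (fun r hr hd' => by
      obtain ⟨j, hj⟩ := D.Pp.exists_card_eq
      rw [hj] at hd'
      exact (Nat.prime_dvd_prime_iff_eq hr B.prime).1 (hr.dvd_of_dvd_pow hd') ▸ hqp.symm)
  have hD₁K : D₁ ≤ K := hD₁.1
  have hD₁n : D₁ ≤ normalizer (Q : Set G) := (hD₁K.trans (sigmaCore_le M)).trans hQn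
  have hQD : Q ⊓ D₁ = ⊥ := Coprime.inf_eq_bot (Nat.coprime_of_dvd fun r hr h1 h2 => by
    obtain ⟨j, hj⟩ := hQ.Q_p.exists_card_eq
    rw [hj] at h1
    exact hD₁.2.1 r hr h2 ((Nat.prime_dvd_prime_iff_eq hr hq).1 (hr.dvd_of_dvd_pow h1)))
  have hKsup : Q ⊔ D₁ = K := by
    refine le_antisymm (sup_le hQK hD₁K) (relIndex_eq_one.1 ?_)
    by_contra h1
    obtain ⟨r, hr, hrd⟩ := Nat.exists_prime_and_dvd h1
    by_cases hrq : r = q
    · rw [hrq] at hrd
      exact hQ.Q_hall (hrd.trans (Dvd.intro_left _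
        (relIndex_mul_relIndex Q (Q ⊔ D₁) K le_sup_left (sup_le hQK hD₁K))))
    · exact hD₁.2.2 r hr hrq (hrd.trans (Dvd.intro_left _
        (relIndex_mul_relIndex D₁ (Q ⊔ D₁) K le_sup_right (sup_le hQK hD₁K))))
  have hmul : ∀ k ∈ K, ∃ a ∈ Q, ∃ b ∈ D₁, k = a * b := fun k hk => by
    rw [← hKsup, sup_comm] at hk
    obtain ⟨b, hb, a, ha, rfl⟩ := BG15.exists_of_mem_sup hD₁n hk
    exact ⟨b * a * b⁻¹, Coprime.conj_mem (hD₁n hb) ha, b, hb, by group⟩
  have hcompl : Cfsg.IsComplIn Q D₁ K := ⟨hQK, hD₁K, hQD, hmul⟩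
  obtain ⟨hDnil, hQ₀n, -, hQcard, hQ₀, hchief⟩ := hQ.compl D₁ hcompl
  -- the complement is abelian and lies in `L`
  have hPc' : ∀ a ∈ P, ∀ b ∈ P, a * b = b * a := fun a ha b hb =>
    PGroups.comm_of_isMulCommutative hPc ha hb
  have hPLK : P ≤ L ⊓ K := le_inf (fun a ha =>
    B.x_uniq.1 (mem_centralizer_singleton_iff.2 (hPc' a ha x (D.AP B.xA)))) D.PK
  have hPidx : ¬ p ∣ P.relIndex D₁ := fun h => D.Pind (h.trans
    (Dvd.intro _ (relIndex_mul_relIndex P D₁ K hPD hD₁K)))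
  obtain ⟨-, W, -, hWD, -, hcomm, hmulD⟩ := nilpotent_split B.prime hDnil hPD D.Pp hPidx
  have hDLK : D₁ ≤ L ⊓ K := fun d hd' => by
    obtain ⟨a, ha, b, hb, rfl⟩ := hmulD d hd'
    exact mul_mem (hPLK ha) ⟨B.x_uniq.1 (mem_centralizer_singleton_iff.2
      (hcomm x (D.AP B.xA) b hb).symm), hD₁K (hWD hb)⟩
  have hDc := B.comm_of_le_LK I hDLK hDnil
  have hAD : A ≤ D₁ := D.AP.trans hPD
  -- `T = Q ⊓ L`
  set T := Q ⊓ L
  have hCA : centralizer (A : Set G) ≤ L := fun c hc =>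
    B.x_uniq.1 (mem_centralizer_singleton_iff.2 (mem_centralizer_iff.1 hc x B.xA).symm)
  have hAQn : A ≤ normalizer (Q : Set G) := hAD.trans hD₁n
  have hcopA : (Nat.card A).Coprime (Nat.card Q) := by
    obtain ⟨j, hj⟩ := hQ.Q_p.exists_card_eq
    rw [B.cardA, hj]
    exact Nat.Coprime.pow 2 j ((Nat.coprime_primes B.prime hq).2 hqp.symm)
  have hQA : Q ⊓ A = ⊥ := Coprime.inf_eq_bot hcopA.symm
  have hQMle : Q ≤ M := hQK.trans (sigmaCore_le M)
  have hTA : T = Q ⊓ centralizer (A : Set G) := by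
    refine le_antisymm (fun t ht => ⟨ht.1, mem_centralizer_iff.2 fun a ha => ?_⟩)
      (inf_le_inf_left Q hCA)
    have hML : t ∈ M ⊓ L := ⟨hQMle ht.1, ht.2⟩
    have h1 : t * a * t⁻¹ * a⁻¹ ∈ Q ⊓ A := by
      refine ⟨?_, mul_mem (Coprime.conj_mem ((B.ML_spec I).1 hML) ha) (A.inv_mem ha)⟩
      rw [show t * a * t⁻¹ * a⁻¹ = t * (a * t⁻¹ * a⁻¹) by group]
      exact mul_mem ht.1 (Coprime.conj_mem (hAQn ha) (Q.inv_mem ht.1))
    rw [hQA, mem_bot, mul_inv_eq_one, mul_inv_eq_iff_eq_mul] at h1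
    exact h1.symm
  have hEA : E ≤ normalizer (A : Set G) := fun e he => mem_normalizer_of_conj fun a ha =>
    B.omega_eq I D hPc _ (Coprime.conj_mem (D.EP he) (D.AP ha))
      (by rw [conj_pow, B.elem.2 a ha]; group)
  have hEQ : E ≤ normalizer (Q : Set G) := D.compl.1.trans hQn
  have hMsup : ∀ (X : Subgroup G), Q ≤ normalizer (X : Set G) → D₁ ≤ normalizer (X : Set G) →
      E ≤ normalizer (X : Set G) → M ≤ normalizer (X : Set G) := by
    intro X h1 h2 h3 m hm
    obtain ⟨e, he, k, hk, rfl⟩ := D.compl.2.2.2 m hm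
    obtain ⟨a, ha, b, hb, rfl⟩ := hmul k hk
    exact mul_mem (h3 he) (mul_mem (h1 ha) (h2 hb))
  have hQ₀T : Q ⊓ centralizer (D₁ : Set G) ≤ T := by
    rw [hTA]
    exact inf_le_inf_left Q (centralizer_le hAD)
  have hcTn : ∀ c ∈ normalizer (Q : Set G), c ∈ normalizer (A : Set G) → c ∈ normalizer (T : Set G) := by
    intro c hcQ hcA
    rw [hTA]
    refine mem_normalizer_of_conj fun t ht => ⟨Coprime.conj_mem hcQ ht.1,
      mem_centralizer_iff.2 fun a ha => ?_⟩
    have h1 : c⁻¹ * a * c ∈ A := by simpa using Coprime.conj_mem (inv_mem hcA) ha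
    calc a * (c * t * c⁻¹) = c * ((c⁻¹ * a * c) * t) * c⁻¹ := by group
      _ = c * (t * (c⁻¹ * a * c)) * c⁻¹ := by rw [mem_centralizer_iff.1 ht.2 _ h1]
      _ = c * t * c⁻¹ * a := by group
  have hD₁A : D₁ ≤ normalizer (A : Set G) := fun d hd' => mem_normalizer_of_conj fun a ha => by
    rwa [hDc d hd' a (hAD ha), mul_inv_cancel_right]
  have hTn : M ≤ normalizer (T : Set G) := hMsup T
    (fun u hu => mem_normalizer_of_conj fun t ht => by
      rw [show u * t * u⁻¹ = (u * t * u⁻¹ * t⁻¹) * t by group]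
      exact mul_mem (hQ₀T (hQ₀ u hu t ht.1).2) ht)
    (fun d hd' => hcTn d (hD₁n hd') (hD₁A hd'))
    (fun e he => hcTn e (hEQ he) (hEA he))
  have hqL : q ∉ Cfsg.sigma L := fun h => B.sigma_disj I h hqσ
  have hTne : T ≠ Q := fun hT => by
    have hQL : Q ≤ L := inf_eq_left.1 hT
    refine hqL (BG10.alpha_subset_sigma I.hG B.hL ⟨hq, fun hr => hQ.q_beta.1.2 ?_⟩)
    intro X hX hXp
    have hle : X.map M.subtype ≤ L := by
      rintro _ ⟨a, ha, rfl⟩
      exact hQL (mem_of_coprime_index hq hQn hQM a.2 (k := 1)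
        (by rw [pow_one]; exact congrArg Subtype.val (hXp a ha)))
    have h1 := BG11.card_le_of_pRankLE hr hle ⟨⟨⟨fun u v => Subtype.ext (by
      obtain ⟨a, ha, e1⟩ := u.2
      obtain ⟨b, hb, e2⟩ := v.2
      show (u : G) * v = v * u
      rw [← e1, ← e2, ← map_mul, ← map_mul, PGroups.comm_of_isMulCommutative hX ha hb])⟩⟩,
      fun a ha => by
        obtain ⟨b, hb, rfl⟩ := ha
        rw [← map_pow, hXp b hb, map_one]⟩
    rwa [Cores.card_map_eq _ M.subtype_injective] at h1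
  have hTQ₀ : Q ⊓ centralizer (D₁ : Set G) = T := by
    rcases eq_or_lt_of_le hQ₀T with h | h
    · exact h
    · exact absurd hTn (hchief T h (lt_of_le_of_ne inf_le_left hTne))
  have hTab : ∀ a ∈ T, ∀ b ∈ T, a * b = b * a := B.comm_of_le_LK I
    (le_inf inf_le_right (inf_le_left.trans hQK))
    ((hQ.Q_p.to_le inf_le_left).isNilpotent)
  have hLKd : ∀ l ∈ L ⊓ K, ∃ t ∈ T, ∃ b ∈ D₁, l = t * b := fun l hl => by
    obtain ⟨a, ha, b, hb, rfl⟩ := hmul l hl.2
    refine ⟨a, ⟨ha, ?_⟩, b, hb, rfl⟩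
    have := L.mul_mem hl.1 (L.inv_mem (hDLK hb).1)
    rwa [mul_inv_cancel_right] at this
  have hLK : ∀ a ∈ L ⊓ K, ∀ b ∈ L ⊓ K, a * b = b * a := by
    intro a ha b hb
    obtain ⟨t, ht, d, hd', rfl⟩ := hLKd a ha
    obtain ⟨t', ht', d', hd'', rfl⟩ := hLKd b hb
    have c1 : Commute t t' := hTab t ht t' ht'
    have c2 : ∀ {s c : G}, s ∈ T → c ∈ D₁ → Commute s c := fun hs hc =>
      (mem_centralizer_iff.1 ((hTQ₀.ge hs).2) _ hc).symm
    have c3 : Commute d d' := hDc d hd' d' hd''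
    exact ((c1.mul_right (c2 ht hd'')).mul_left ((c2 ht' hd').symm.mul_right c3)).eq
  -- `N = [Q, A]`
  set N := ⁅Q, A⁆
  have hNQ : N ≤ Q := Coprime.commutator_le_left_of_normalizer hAQn
  have hNK : N ≤ K := hNQ.trans hQK
  have hNn : M ≤ normalizer (N : Set G) := hMsup N (normalizer_commutator_ge_left Q A)
    (fun d hd' => Coprime.mem_normalizer_of_map_conj (by
      rw [Subgroup.map_commutator, Coprime.map_conj_eq (hD₁n hd'), Coprime.map_conj_eq (hD₁A hd')]))
    (fun e he => Coprime.mem_normalizer_of_map_conj (by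
      rw [Subgroup.map_commutator, Coprime.map_conj_eq (hEQ he), Coprime.map_conj_eq (hEA he)]))
  have hQsol : Group.IsSolvable Q := by
    have := hQ.Q_p.isNilpotent
    infer_instance
  have hQNT : N ⊔ T = Q := by
    rw [hTA]
    exact Coprime.commutator_sup_centralizer hAQn hcopA (Or.inr hQsol)
  have hKN : ∀ k ∈ K, ∃ n ∈ N, ∃ l ∈ L ⊓ K, k = n * l := fun k hk => by
    obtain ⟨a, ha, b, hb, rfl⟩ := hmul k hk
    rw [← hQNT, sup_comm] at ha
    obtain ⟨t, ht, n, hn, rfl⟩ := BG15.exists_of_mem_sup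
      ((inf_le_left.trans hQMle).trans hNn : T ≤ normalizer (N : Set G)) ha
    exact ⟨t * n * t⁻¹, Coprime.conj_mem (hNn (hQMle ht.1)) hn, t * b,
      ⟨mul_mem ht.2 (hDLK hb).1, mul_mem (hQK ht.1) (hD₁K hb)⟩, by group⟩
  have hNab : ∀ a ∈ K, ∀ b ∈ K, a * b * a⁻¹ * b⁻¹ ∈ N := by
    intro a ha b hb
    obtain ⟨n, hn, l, hl, rfl⟩ := hKN a ha
    obtain ⟨n', hn', l', hl', rfl⟩ := hKN b hb
    have e : l * l' * l⁻¹ * l'⁻¹ = 1 := by rw [hLK l hl l' hl']; group
    rw [show n * l * (n' * l') * (n * l)⁻¹ * (n' * l')⁻¹ =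
      n * (l * n' * l⁻¹) * (l * l' * l⁻¹ * l'⁻¹) * (l' * n⁻¹ * l'⁻¹) * n'⁻¹ by group, e, mul_one]
    exact mul_mem (mul_mem (mul_mem hn (Coprime.conj_mem (hNn (sigmaCore_le M hl.2)) hn'))
      (Coprime.conj_mem (hNn (sigmaCore_le M hl'.2)) (N.inv_mem hn))) (N.inv_mem hn')
  have hder' : ⁅K, K⁆ ≤ N := Subgroup.commutator_le.2 fun a ha b hb => hNab a ha b hb
  have hNA : ∀ a ∈ A, a ∈ N → a = 1 := fun a ha haN => by
    have h1 : a ∈ Q ⊓ A := ⟨hNQ haN, ha⟩
    rwa [hQA, mem_bot] at h1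
  -- `T` is central in `Q`
  have hTN : T ≤ centralizer (N : Set G) := by
    intro t ht
    refine le_centralizer_iff.1 (Subgroup.commutator_le.2 fun u hu a ha => ?_ :
      N ≤ centralizer (zpowers t : Set G)) (mem_zpowers t)
    rw [centralizer_zpowers]
    refine mem_centralizer_singleton_iff.2 ?_
    set c := u⁻¹ * t * u * t⁻¹ with hc
    have hcT : c ∈ T := by
      rw [hc]
      refine hQ₀T ?_
      simpa using (hQ₀ u⁻¹ (inv_mem hu) t ht.1).2
    have hca : Commute c a := (mem_centralizer_iff.1 ((hTA.le hcT).2) a ha).symm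
    have hta : Commute t a := (mem_centralizer_iff.1 ((hTA.le ht).2) a ha).symm
    have h1 : t * ⁅u, a⁆ * t⁻¹ = ⁅u, a⁆ := by
      have h2 : t * u * t⁻¹ = u * c := by rw [hc]; group
      have h3 : t * a * t⁻¹ = a := by rw [hta.eq, mul_inv_cancel_right]
      calc t * ⁅u, a⁆ * t⁻¹ = (t * u * t⁻¹) * (t * a * t⁻¹) * (t * u * t⁻¹)⁻¹ * (t * a * t⁻¹)⁻¹ := by
            rw [commutatorElement_def]; group
        _ = u * (c * a) * c⁻¹ * u⁻¹ * a⁻¹ := by rw [h2, h3]; group
        _ = _ := by rw [hca.eq, commutatorElement_def]; group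
    exact (mul_inv_eq_iff_eq_mul.1 h1).symm
  have hTQ : ∀ t ∈ T, ∀ u ∈ Q, t * u = u * t := by
    intro t ht u hu
    have hle : Q ≤ centralizer ({t} : Set G) := hQNT ▸ sup_le
      (fun n hn => mem_centralizer_singleton_iff.2 (mem_centralizer_iff.1 (hTN ht) n hn))
      (fun s hs => mem_centralizer_singleton_iff.2 (hTab s hs t ht))
    exact (mem_centralizer_singleton_iff.1 (hle hu)).symm
  -- `Q` is abelian
  have hQab : IsMulCommutative Q := by
    by_contra hna
    set Z := Q ⊓ centralizer (Q : Set G)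
    have hZn : M ≤ normalizer (Z : Set G) := fun m hm => mem_normalizer_of_conj fun z hz =>
      ⟨Coprime.conj_mem (hQn hm) hz.1, mem_centralizer_iff.2 fun u hu => by
        have h1 : m⁻¹ * u * m ∈ Q := by simpa using Coprime.conj_mem (inv_mem (hQn hm)) hu
        calc u * (m * z * m⁻¹) = m * ((m⁻¹ * u * m) * z) * m⁻¹ := by group
          _ = m * (z * (m⁻¹ * u * m)) * m⁻¹ := by rw [mem_centralizer_iff.1 hz.2 _ h1]
          _ = m * z * m⁻¹ * u := by group⟩
    have hTZ : T ≤ Z := fun t ht => ⟨ht.1, mem_centralizer_iff.2 fun u hu => (hTQ t ht u hu).symm⟩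
    have hZT : T = Z := by
      rcases eq_or_lt_of_le hTZ with h | h
      · exact h
      refine absurd hZn (hchief Z (hTQ₀.symm ▸ h) (lt_of_le_of_ne inf_le_left fun hZ => hna
        ⟨⟨fun a b => Subtype.ext ?_⟩⟩))
      exact (mem_centralizer_iff.1 ((inf_eq_left.1 hZ) a.2) b b.2).symm
    have hcen : center Q = T.subgroupOf Q := by
      ext z
      rw [mem_subgroupOf, hZT]
      exact ⟨fun hz => ⟨z.2, mem_centralizer_iff.2 fun u hu =>
          congrArg Subtype.val (Subgroup.mem_center_iff.1 hz ⟨u, hu⟩)⟩,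
        fun hz => Subgroup.mem_center_iff.2 fun u =>
          Subtype.ext (mem_centralizer_iff.1 hz.2 u u.2)⟩
    have hcc : commutator Q ≤ center Q := by
      rw [hcen, _root_.commutator_def, Subgroup.commutator_le]
      intro a _ b _
      exact mem_subgroupOf.2 (hQ₀T (hQ₀ a a.2 b b.2).2)
    have hr1 : Cfsg.PRankLE q 1 L := by
      by_contra hr
      exact (BG10.rank_two_of_not_sigma I.hG B.hL hqL hr).1 hQ.q_beta.2
    have hTcyc : IsCyclic T := BG15.isCyclic_of_pRankLE_one (ne_two_of_dvd I.hG (X := Q) (by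
        obtain ⟨j, hj⟩ := hQ.Q_p.exists_card_eq
        rcases Nat.eq_zero_or_pos j with rfl | hj0
        · exact absurd (eq_bot_of_card_eq Q (by rw [hj, pow_zero]))
            (fun e => hTne (le_antisymm inf_le_left (e ▸ bot_le)))
        · exact hj ▸ dvd_pow_self q hj0.ne'))
      (hQ.Q_p.to_le inf_le_left) inf_le_right hr1
    have hcard : Nat.card (commutator Q) ∣ q := by
      let S : Subgroup Q :=
        { carrier := {z | z ∈ center Q ∧ z ^ q = 1}
          one_mem' := ⟨one_mem _, one_pow _⟩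
          mul_mem' := by
            rintro a b ⟨ha, ha'⟩ ⟨hb, hb'⟩
            exact ⟨mul_mem ha hb, by
              rw [(show Commute a b from Subgroup.mem_center_iff.1 hb a).mul_pow, ha', hb', one_mul]⟩
          inv_mem' := by
            rintro a ⟨ha, ha'⟩
            exact ⟨inv_mem ha, by rw [inv_pow, ha', inv_one]⟩ }
      have hle : commutator Q ≤ S := by
        rw [_root_.commutator_def, Subgroup.commutator_le]
        intro a _ b _
        have hm : ∀ c d : Q, ⁅c, d⁆ ∈ center Q := fun c d => hcc (by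
          rw [_root_.commutator_def]; exact commutator_mem_commutator (mem_top c) (mem_top d))
        refine ⟨hm a b, ?_⟩
        rw [← PGroups.commutatorHom_apply hcc b a, ← SubmonoidClass.coe_pow, ← map_pow]
        have haq : a ^ q ∈ center Q := by
          rw [hcen, mem_subgroupOf, SubmonoidClass.coe_pow]
          exact hQ₀T (hQ₀ a a.2 a a.2).1
        show ⁅a ^ q, b⁆ = 1
        exact commutatorElement_eq_one_iff_mul_comm.2 (Subgroup.mem_center_iff.1 haq b).symm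
      refine (card_dvd_of_le hle).trans ?_
      have hScyc : IsCyclic S := by
        let f : S →* T := (Q.subtype.comp S.subtype).codRestrict T fun z => by
          have := z.2.1
          rw [hcen, mem_subgroupOf] at this
          exact this
        exact isCyclic_of_injective f fun a b e =>
          Subtype.ext (Subtype.ext (show ((a : Q) : G) = ((b : Q) : G) from congrArg (fun z : T => (z : G)) e))
      rw [← IsCyclic.exponent_eq_card]
      exact Monoid.exponent_dvd_of_forall_pow_eq_one fun z => Subtype.ext z.2.2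
    obtain ⟨k, hk⟩ := center_index_sq hq hcc hcard
    have hidxT : (center Q).index = q ^ Nat.card Kκ := by
      rw [hcen]
      have h1 := relIndex_mul_relIndex ⊥ T Q bot_le inf_le_left
      rw [relIndex_bot_left, relIndex_bot_left, hQcard, hTQ₀] at h1
      exact Nat.eq_of_mul_eq_mul_left Nat.card_pos h1
    rw [hidxT] at hk
    have h2 : Nat.card Kκ = 2 * k := Nat.pow_right_injective hq.two_le hk
    obtain ⟨t, ht⟩ : Odd (Nat.card Kκ) := I.hG.1.of_dvd_nat Kκ.card_subgroup_dvd_card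
    omega
  have hNT : ∀ a ∈ N, a ∈ T → a = 1 := fun a ha hat => by
    have h1 : a ∈ (Q ⊓ centralizer (A : Set G)) ⊓ ⁅Q, A⁆ := ⟨hTA ▸ hat, ha⟩
    rwa [(Coprime.abelian_decomposition hAQn hcopA).1, mem_bot] at h1
  -- conclusion
  have hidx : p ^ 2 ≤ N.relIndex K := by
    have h1 : Nat.card N * Nat.card A ∣ Nat.card K := by
      rw [← Coprime.card_sup (H := A) (N := N) ((B.AK.trans (sigmaCore_le M)).trans hNn)
        ((eq_bot_iff_forall _).2 fun a ha => hNA a ha.2 ha.1)]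
      exact card_dvd_of_le (sup_le hNK B.AK)
    have h2 := relIndex_mul_relIndex ⊥ N K bot_le hNK
    rw [relIndex_bot_left, relIndex_bot_left] at h2
    rw [← h2, B.cardA] at h1
    exact Nat.le_of_dvd (Nat.pos_of_ne_zero (N.subgroupOf K).index_ne_zero_of_finite)
      (Nat.dvd_of_mul_dvd_mul_left Nat.card_pos h1)
  have S := B.setting I hLK hNK hNn hNab (B.free I hNK hder' hNn) (B.e_ge I)
    (B.bound I D (Or.inr hPc)).1 hidx
  refine S.caseI (fun a ha hax => hNT a ha ⟨hNQ ha,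
    B.x_uniq.1 (mem_centralizer_singleton_iff.2 hax.eq)⟩) fun h => ?_
  have h1 : S.eL = 1 := relIndex_eq_one.2
    (le_inf inf_le_right (B.ML_le I fun a ha haK => hNA a ha (hder' haK)))
  have h2 := B.e_ge I
  rw [← h.2, h1] at h2
  omega

end Cfsg.Agent.OddOrder.PF12
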