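import Cfsg.Agent.OddOrder.PF12.Kernel

/-!
# Peterfalvi (12.7): the two numerical contradictions

First case: `C_N(x) = 1`.  Second case: `N` is a `p`-group with centralisers in `M`, inside a large
`p`-subgroup `P` of `K`.
-/

set_option autoImplicit false

open scoped ComplexConjugate

namespace Cfsg.Agent.OddOrder.PF12

open Subgroup
open Cfsg.Agent Cfsg.Agent.CharBasic

universe u

/-- An integer congruent to `e` modulo `p` is at least `min e (p - e)` in absolute value. -/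
theorem sq_min_le {p e : ℕ} (he : e ≤ p) {c : ℤ} (h : (p : ℤ) ∣ c - (e : ℤ)) :
    ((min e (p - e) : ℕ) : ℤ) ^ 2 ≤ c ^ 2 := by
  obtain ⟨t, ht⟩ := h
  have h1 : ((min e (p - e) : ℕ) : ℤ) ≤ |c| := by
    rw [Nat.cast_min, Nat.cast_sub he]
    rcases le_or_gt 0 t with h0 | h0
    · have : (0 : ℤ) ≤ p * t := mul_nonneg (Nat.cast_nonneg p) h0
      exact (min_le_left _ _).trans ((by omega : (e : ℤ) ≤ c).trans (le_abs_self c))
    · have : (p : ℤ) * t ≤ p * (-1) := mul_le_mul_of_nonneg_left (by omega) (Nat.cast_nonneg p)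
      exact (min_le_right _ _).trans ((by omega : (p : ℤ) - e ≤ -c).trans (neg_le_abs c))
  calc ((min e (p - e) : ℕ) : ℤ) ^ 2 ≤ |c| ^ 2 := pow_le_pow_left₀ (Int.natCast_nonneg _) h1 2
    _ = c ^ 2 := sq_abs c

variable {G : Type u} [Group G]
variable {p : ℕ} {L M H K N : Subgroup G} {AL : Set G} {RL RM : G → Subgroup G} {x : G}
variable (S : Setting p L M H K N AL RL RM x)
variable [Fintype G] [Fintype M] [(K.subgroupOf M).Normal] {n : ℕ} {χ : Fin n → M → ℂ}
  {ψ : Fin n → G → ℂ} (F : FamilyData S χ ψ) (i₀ : Fin n)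
include F

/-- The average minus the induced character is a rational integer on `K#`. -/
theorem FamilyData.exists_int_phi {a : M} (ha : (a : G) ∈ (K : Set G) \ {1}) :
    ∃ m : ℤ, PF7.invDade ((K : Set G) \ {1}) M RM (ψ i₀) a - χ i₀ a = m := by
  classical
  set A : Set G := (K : Set G) \ {1}
  set d := fun i => PF7.invDade A M RM (ψ i) a - χ i a with hd
  have hconst : ∀ i j, d i = d j := by
    intro i j
    have hα : Cfsg.IsClassFunction M (χ i - χ j) := CharInduce.IsGen.isClassFunction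
      (H43.gen_sub (H43.gen_of_irr (F.chi_irr S i)) (H43.gen_of_irr (F.chi_irr S j)))
    have h : PF7.invDade A M RM (ψ i - ψ j) a = (χ i - χ j) a :=
      PF7.invDade_eq_of_eq_on ha fun r hr => by
        rw [← F.fam.map_sub]
        exact H43.dade_apply S.dadeM hα ha hr (x := 1) (by group)
    rw [invDade_sub] at h
    simp only [Pi.sub_apply] at h
    simp only [hd]
    linear_combination h
  have hfix : ∀ σ : ℂ ≃+* ℂ, σ (d i₀) = d i₀ := by
    intro σ
    obtain ⟨j, hχj, hψj⟩ := DadeFamily.aut (by rw [Fintype.card_fin]; exact F.n_ge) F.inj F.closed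
      F.fam σ i₀
    conv_rhs => rw [hconst i₀ j]
    simp only [hd]
    rw [hψj, hχj, map_sub, PF7.invDade_apply ha, PF7.invDade_apply ha,
      finsum_mem_eq_finite_toFinset_sum _ (Set.toFinite _),
      finsum_mem_eq_finite_toFinset_sum _ (Set.toFinite _), map_mul, map_inv₀, map_natCast, map_sum]
  have hint : IsIntegral ℤ (d i₀) := by
    refine IsIntegral.sub ?_ (IsChar.isIntegral (IsIrr.isCharacter (F.chi_irr S i₀)) a)
    rw [PF7.invDade_apply ha]
    exact avg_isIntegral (F.gen S i₀) _ (a : G) (mem_normalizer_of_conj fun u hu =>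
      S.dadeM.conj_mem_H _ ha _ (Subgroup.mem_centralizer_singleton_iff.2 rfl) u hu)
  obtain ⟨q, hq⟩ := H43.rat_of_fixed hint.tower_top hfix
  exact H43.int_of_rat_integral hint hq

/-- An element of order `p` with centraliser in `M` forces the average to be congruent to the value. -/
theorem FamilyData.rhoM_congP [Fact p.Prime] {a : M} (ha : (a : G) ∈ (K : Set G) \ {1}) {y : G}
    (hyp : y ^ p = 1) (hya : Commute y (a : G)) (hyc : centralizer ({y} : Set G) ≤ M) :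
    CongP p (PF7.invDade ((K : Set G) \ {1}) M RM (ψ i₀) a) (ψ i₀ a) := by
  classical
  set A : Set G := (K : Set G) \ {1}
  set R := RM (a : G) with hR
  set ρ := PF7.invDade A M RM (ψ i₀) a with hρdef
  have hρ : IsIntegral ℤ ρ := by
    rw [hρdef, PF7.invDade_apply ha]
    exact avg_isIntegral (F.gen S i₀) _ (a : G) (mem_normalizer_of_conj fun u hu =>
      S.dadeM.conj_mem_H _ ha _ (Subgroup.mem_centralizer_singleton_iff.2 rfl) u hu)
  have hyn : ∀ u ∈ R, y * u * y⁻¹ ∈ R := fun u hu =>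
    S.dadeM.conj_mem_H _ ha _ (Subgroup.mem_centralizer_singleton_iff.2 hya.eq) u hu
  have hyinv : ∀ u ∈ R, y⁻¹ * u * y ∈ R := fun u hu => by
    simpa using S.dadeM.conj_mem_H _ ha y⁻¹
      (inv_mem (Subgroup.mem_centralizer_singleton_iff.2 hya.eq)) u hu
  let σ : Equiv.Perm R :=
    { toFun := fun u => ⟨y * u * y⁻¹, hyn u u.2⟩
      invFun := fun u => ⟨y⁻¹ * u * y, hyinv u u.2⟩
      left_inv := fun u => Subtype.ext (by simp [mul_assoc])
      right_inv := fun u => Subtype.ext (by simp [mul_assoc]) }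
  have hσk : ∀ k : ℕ, ∀ u, (((σ ^ k) u : R) : G) = y ^ k * u * (y ^ k)⁻¹ := by
    intro k
    induction k with
    | zero => intro u; simp
    | succ k ih =>
      intro u
      rw [pow_succ', Equiv.Perm.mul_apply]
      show y * (((σ ^ k) u : R) : G) * y⁻¹ = _
      rw [ih, pow_succ']
      group
  have hσ : σ ^ p ^ 1 = 1 := Equiv.ext fun u => Subtype.ext (by
    rw [hσk, pow_one, hyp]; simp)
  have hfix : ∀ u, σ u = u ↔ u = 1 := by
    intro u
    refine ⟨fun h => Subtype.ext ?_, fun h => by subst h; exact Subtype.ext (by simp [σ])⟩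
    have h' : y * (u : G) * y⁻¹ = u := congrArg Subtype.val h
    have hc : (u : G) ∈ centralizer ({y} : Set G) :=
      Subgroup.mem_centralizer_singleton_iff.2 (mul_inv_eq_iff_eq_mul.1 h').symm
    have h2 : (u : G) ∈ R ⊓ (M ⊓ centralizer ({(a : G)} : Set G)) :=
      ⟨u.2, hyc hc, S.dadeM.le_centralizer _ ha u.2⟩
    have h3 := S.dadeM.inf_eq_bot _ ha
    rw [← hR] at h3
    rw [h3, mem_bot] at h2
    exact h2
  let f : R → AlgInt := fun u => ⟨ψ i₀ ((a : G) * u), gen_isIntegral (F.gen S i₀) _⟩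
  have hf : ∀ u ∈ (Finset.univ : Finset R), f (σ u) = f u := by
    intro u _
    refine Subtype.ext ?_
    show ψ i₀ ((a : G) * (y * u * y⁻¹)) = ψ i₀ ((a : G) * u)
    rw [show (a : G) * (y * u * y⁻¹) = y * ((a : G) * u) * y⁻¹ by
      rw [← mul_assoc y, hya.eq]; group]
    exact F.cls S i₀ _ _
  obtain ⟨w, hw⟩ := exists_sum_eq_fixed σ hσ Finset.univ (fun i _ => Finset.mem_univ _) f hf
  obtain ⟨w', hw'⟩ := exists_sum_eq_fixed σ hσ Finset.univ (fun i _ => Finset.mem_univ _)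
    (fun _ => (1 : AlgInt)) (fun _ _ => rfl)
  have hfil : (Finset.univ.filter fun u : R => σ u = u) = {1} := by
    ext u
    simp [hfix]
  rw [hfil, Finset.sum_singleton, nsmul_eq_mul] at hw hw'
  rw [Finset.sum_const, Finset.card_univ, nsmul_one, ← Nat.card_eq_fintype_card] at hw'
  have h1 := congrArg (fun z : AlgInt => (z : ℂ)) hw
  have h2 := congrArg (fun z : AlgInt => (z : ℂ)) hw'
  push_cast at h1 h2
  have h3 : ∑ u, (f u : ℂ) = (Nat.card R : ℂ) * ρ := by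
    rw [hρdef, PF7.invDade_apply ha, ← finsum_set_coe_eq_finsum_mem, finsum_eq_sum_of_fintype,
      mul_inv_cancel_left₀ (Nat.cast_ne_zero.2 Nat.card_pos.ne')]
    rfl
  have hf1 : (f 1 : ℂ) = ψ i₀ a := by simp [f]
  rw [h3, hf1] at h1
  have h4 : ρ - ψ i₀ a = (p : ℂ) * ((w : ℂ) - ρ * (w' : ℂ)) := by
    linear_combination h1 - ρ * h2
  refine CongP.trans ?_ (CongP.refl p _)
  have h5 := (CongP.nat_mul (p := p) (w := (w : ℂ) - ρ * (w' : ℂ))
    (w.2.sub (hρ.mul w'.2))).add (CongP.refl p (ψ i₀ a))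
  rwa [← h4, sub_add_cancel, zero_add] at h5

theorem FamilyData.psi_one_int : ∃ m : ℤ, ψ i₀ 1 = m := by
  rcases F.fam.signed i₀ with h | h
  · obtain ⟨m, -, hm⟩ := IsIrr.exists_degree h
    exact ⟨m, by rw [hm, Int.cast_natCast]⟩
  · obtain ⟨m, -, hm⟩ := IsIrr.exists_degree h
    exact ⟨-(m : ℤ), by push_cast; rw [← hm]; simp⟩

open Classical in
/-- The budget combined with the lower bound. -/
theorem FamilyData.main_ineq [Fintype L] [Fintype ↥(K.subgroupOf M)] [Fintype ↥(inner M K N)] (e₀ : ℕ)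
    (he₀ : ∀ c : ℤ, (p : ℤ) ∣ c - (K.relIndex M : ℤ) → (e₀ : ℤ) ^ 2 ≤ c ^ 2)
    (hcg : ∀ r ∈ H, Commute r x → r ≠ 1 → CongP p (ψ i₀ r) (K.relIndex M : ℂ)) :
    11 * (∑ k ∈ Finset.univ.filter (fun k => k ∈ inner M K N),
        ‖PF7.invDade ((K : Set G) \ {1}) M RM (ψ i₀) k‖ ^ 2) *
        ((Nat.card ↥(L ⊓ K) : ℝ) * (S.eL : ℝ)) +
      10 * (e₀ : ℝ) ^ 2 * ((K.relIndex M : ℝ) * Nat.card K) ≤
      11 * ((Nat.card N : ℝ) * (K.relIndex M : ℝ) ^ 2) *
        ((Nat.card ↥(L ⊓ K) : ℝ) * (S.eL : ℝ)) := by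
  classical
  have hb := (F.budget S i₀).2
  have hk := F.kernel_bound S i₀ e₀ he₀ hcg
  have hL : Nat.card L = Nat.card H * (Nat.card ↥(L ⊓ K) * S.eL) := by
    rw [S.card_ML]
    have h2 : L = H ⊔ (M ⊓ L) := le_antisymm (fun g hg => by
      obtain ⟨h, hh, u, hu, rfl⟩ := S.compl_mul g hg
      exact mul_mem_sup hh hu) (sup_le S.HL inf_le_right)
    conv_lhs => rw [h2]
    exact Coprime.card_sup (inf_le_right.trans S.Hn) S.compl_inf
  have hLR : (Nat.card L : ℝ) = (Nat.card H : ℝ) * ((Nat.card ↥(L ⊓ K) : ℝ) * S.eL) := by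
    exact_mod_cast hL
  have hL0 : (0 : ℝ) < Nat.card L := Nat.cast_pos.2 Nat.card_pos
  have hH0 : (0 : ℝ) < Nat.card H := Nat.cast_pos.2 Nat.card_pos
  set X := ∑ k ∈ Finset.univ.filter (fun k => k ∈ inner M K N),
    ‖PF7.invDade ((K : Set G) \ {1}) M RM (ψ i₀) k‖ ^ 2
  set T := ∑ a : L, ‖PF7.invDade ((H : Set G) \ {1}) L RL (ψ i₀) a‖ ^ 2
  have hY : (0 : ℝ) ≤ ∑ k ∈ Finset.univ.filter (fun k => k ∉ inner M K N),
      ‖phiFun K M RM (χ i₀) (ψ i₀) k‖ ^ 2 := Finset.sum_nonneg fun _ _ => by positivity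
  set C := (K.relIndex M : ℝ) * (Nat.card K : ℝ) with hC
  have hC0 : 0 ≤ C := mul_nonneg (Nat.cast_nonneg _) (Nat.cast_nonneg _)
  have h1 : X + C * ((Nat.card L : ℝ)⁻¹ * T) ≤ (Nat.card N : ℝ) * (K.relIndex M : ℝ) ^ 2 := by
    refine le_trans ?_ hb
    linarith
  have h2 := mul_le_mul_of_nonneg_left h1 hL0.le
  rw [mul_add, mul_left_comm (Nat.card L : ℝ) C, ← mul_assoc (Nat.card L : ℝ) _ T,
    mul_inv_cancel₀ hL0.ne', one_mul] at h2
  refine le_of_mul_le_mul_left ?_ hH0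
  have h3 := mul_le_mul_of_nonneg_left hk hC0
  rw [hLR] at h2
  nlinarith

open Classical in
/-- The part of the budget off `N`. -/
theorem FamilyData.out_le [Fintype L] [Fintype ↥(K.subgroupOf M)] [Fintype ↥(inner M K N)] :
    ∑ k ∈ Finset.univ.filter (fun k => k ∉ inner M K N),
        ‖phiFun K M RM (χ i₀) (ψ i₀) k‖ ^ 2 ≤ (Nat.card N : ℝ) * (K.relIndex M : ℝ) ^ 2 := by
  classical
  have h1 := (F.budget S i₀).2
  have h2 : (0 : ℝ) ≤ ∑ k ∈ Finset.univ.filter (fun k => k ∈ inner M K N),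
      ‖PF7.invDade ((K : Set G) \ {1}) M RM (ψ i₀) k‖ ^ 2 := Finset.sum_nonneg fun _ _ => by positivity
  have h3 : (0 : ℝ) ≤ (K.relIndex M : ℝ) * (Nat.card K : ℝ) * ((Nat.card L : ℝ)⁻¹ *
        ∑ a : L, ‖PF7.invDade ((H : Set G) \ {1}) L RL (ψ i₀) a‖ ^ 2) := by positivity
  refine le_trans ?_ h1
  linarith

omit F

theorem Setting.eL_dvd : S.eL ∣ K.relIndex M := by
  have h1 : S.eL = K.relIndex (M ⊓ L) := by
    rw [Setting.eL, ← inf_relIndex_right (H := K)]
    congr 1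
    exact le_antisymm (le_inf inf_le_right (le_inf (inf_le_right.trans S.KM) inf_le_left))
      (le_inf (inf_le_right.trans inf_le_right) inf_le_left)
  rw [h1, Subgroup.relIndex, Subgroup.relIndex]
  have h2 : (K.subgroupOf (M ⊓ L)).index =
      ((K.subgroupOf M).subgroupOf ((M ⊓ L).subgroupOf M)).index := by
    rw [← index_comap_of_surjective (K.subgroupOf (M ⊓ L))
      (f := (subgroupOfEquivOfLe (inf_le_left : M ⊓ L ≤ M)).toMonoidHom)
      (subgroupOfEquivOfLe (inf_le_left : M ⊓ L ≤ M)).surjective]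
    rfl
  rw [h2]
  exact Subgroup.relIndex_dvd_index_of_normal _ _

end Cfsg.Agent.OddOrder.PF12

namespace Cfsg.Agent.OddOrder.PF12

open Subgroup
open Cfsg.Agent Cfsg.Agent.CharBasic

universe v

variable {G : Type v} [Group G] [Finite G]
variable {p : ℕ} {L M H K N : Subgroup G} {AL : Set G} {RL RM : G → Subgroup G} {x : G}
variable (S : Setting p L M H K N AL RL RM x)
include S

/-- The first case. -/
theorem Setting.caseI (hNx : ∀ a ∈ N, Commute a x → a = 1)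
    (hidx : ¬ (Nat.card ↥(L ⊓ K) = N.relIndex K ∧ S.eL = K.relIndex M)) : False := by
  classical
  let := Fintype.ofFinite G
  let := Fintype.ofFinite M
  let := Fintype.ofFinite L
  let := S.K_normal
  let := Fintype.ofFinite ↥(K.subgroupOf M)
  let := Fintype.ofFinite ↥(inner M K N)
  have hpf : Fact p.Prime := ⟨S.prime⟩
  obtain ⟨n, χ, ψ, F⟩ := S.exists_family
  let i₀ : Fin n := ⟨0, by have := F.n_ge; omega⟩
  have hxK : x ∈ K := S.x_mem.2
  let xk : ↥(K.subgroupOf M) := ⟨⟨x, S.KM hxK⟩, hxK⟩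
  have hxk1 : xk ≠ 1 := fun h => S.x_ne (congrArg (fun k : ↥(K.subgroupOf M) => ((k : M) : G)) h)
  have hxN : xk ∉ inner M K N := fun h => S.x_ne (hNx x h (Commute.refl x))
  -- the coset of `x` is one class
  have hphi : phiFun K M RM (χ i₀) (ψ i₀) xk = 0 := by
    have h1 := (F.budget S i₀).1 xk hxN
    let g : ↥(inner M K N) → ↥(inner M K N) := fun a =>
      ⟨xk⁻¹ * (a : ↥(K.subgroupOf M)) * xk * (a : ↥(K.subgroupOf M))⁻¹, by
        show x⁻¹ * ((((a : ↥(K.subgroupOf M))) : M) : G) * x *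
          ((((a : ↥(K.subgroupOf M))) : M) : G)⁻¹ ∈ N
        simpa using S.Nab x⁻¹ (inv_mem hxK) _ (S.NK a.2)⟩
    have hg : Function.Injective g := by
      intro a b hab
      have h0 : x⁻¹ * (((a : ↥(K.subgroupOf M)) : M) : G) * x *
          (((a : ↥(K.subgroupOf M)) : M) : G)⁻¹ =
          x⁻¹ * (((b : ↥(K.subgroupOf M)) : M) : G) * x *
          (((b : ↥(K.subgroupOf M)) : M) : G)⁻¹ :=
        congrArg (fun z : ↥(inner M K N) => (((z : ↥(K.subgroupOf M)) : M) : G)) hab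
      set a' := (((a : ↥(K.subgroupOf M)) : M) : G)
      set b' := (((b : ↥(K.subgroupOf M)) : M) : G)
      have hc : Commute (b'⁻¹ * a') x := by
        show b'⁻¹ * a' * x = x * (b'⁻¹ * a')
        calc b'⁻¹ * a' * x = b'⁻¹ * x * (x⁻¹ * a' * x * a'⁻¹) * a' := by group
          _ = b'⁻¹ * x * (x⁻¹ * b' * x * b'⁻¹) * a' := by rw [h0]
          _ = x * (b'⁻¹ * a') := by group
      have h2 := hNx (b'⁻¹ * a') (mul_mem (inv_mem b.2) a.2) hc
      exact Subtype.ext (Subtype.ext (Subtype.ext (inv_mul_eq_one.1 h2).symm))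
    rw [← (Finite.injective_iff_bijective.1 hg).sum_comp
      (fun a : ↥(inner M K N) => phiFun K M RM (χ i₀) (ψ i₀) (xk * a))] at h1
    have hterm : ∀ a : ↥(inner M K N), phiFun K M RM (χ i₀) (ψ i₀) (xk * (g a : ↥(K.subgroupOf M))) =
        phiFun K M RM (χ i₀) (ψ i₀) xk := by
      intro a
      rw [← F.phi_inv S i₀ ((a : ↥(K.subgroupOf M)) : M) xk]
      congr 1
      refine Subtype.ext ?_
      rw [MulAut.conjNormal_apply]
      simp only [g, Subgroup.coe_mul, Subgroup.coe_inv]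
      group
    rw [Finset.sum_congr rfl fun a _ => hterm a, Finset.sum_const, nsmul_eq_mul] at h1
    exact (mul_eq_zero.1 h1).resolve_left
      (Nat.cast_ne_zero.2 (Finset.card_ne_zero_of_mem (Finset.mem_univ (1 : ↥(inner M K N)))))
  have hxA : x ∈ (K : Set G) \ {1} := ⟨hxK, S.x_ne⟩
  have hrho : PF7.invDade ((K : Set G) \ {1}) M RM (ψ i₀) (xk : M) = ψ i₀ x :=
    PF7.invDade_eq_of_eq_on hxA fun u hu => F.psi_const S i₀ S.x_mem S.x_ne (S.RM_x hu)
  rw [F.phi_apply S i₀ hxk1, hrho, sub_eq_zero] at hphi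
  have hchi : CongP p (χ i₀ (xk : M)) (χ i₀ 1) := congP_of_pow (H43.gen_of_irr (F.chi_irr S i₀))
    (k := 1) (Subtype.ext (by rw [pow_one]; exact S.x_pow))
  rw [← hphi, linInd_one (F.mem i₀)] at hchi
  have hcg : ∀ r ∈ H, Commute r x → r ≠ 1 → CongP p (ψ i₀ r) (K.relIndex M : ℂ) := by
    intro r hr hc _
    refine ((congP_mul (F.gen S i₀) (k := 1) (y := r) (by rw [pow_one]; exact S.x_pow)
      hc.eq.symm).symm).trans ?_
    rw [F.psi_const S i₀ S.x_mem S.x_ne hr]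
    exact hchi
  -- arithmetic
  set e := K.relIndex M with he
  have hep : e ≤ p := by have := S.e_le; have := S.e_ge; omega
  have hineq := F.main_ineq S i₀ (min e (p - e)) (fun c hc => sq_min_le hep hc) hcg
  have hX : (0 : ℝ) ≤ ∑ k ∈ Finset.univ.filter (fun k => k ∈ inner M K N),
      ‖PF7.invDade ((K : Set G) \ {1}) M RM (ψ i₀) k‖ ^ 2 := Finset.sum_nonneg fun _ _ => by positivity
  have hbot : (L ⊓ K) ⊓ N = ⊥ := (Subgroup.eq_bot_iff_forall _).2 fun a ha =>
    hNx a ha.2 (S.UK_comm a ha.1 x S.x_mem)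
  have hdisj : N ⊓ (L ⊓ K) = ⊥ := by rw [inf_comm]; exact hbot
  have hcard : Nat.card ↥(N ⊔ (L ⊓ K)) = Nat.card N * Nat.card ↥(L ⊓ K) :=
    Coprime.card_sup ((inf_le_right.trans S.KM).trans S.Nn) hdisj
  obtain ⟨j, hj⟩ : Nat.card N * Nat.card ↥(L ⊓ K) ∣ Nat.card K := by
    rw [← hcard]
    exact Subgroup.card_dvd_of_le (sup_le S.NK inf_le_right)
  have hjK : N.relIndex K = Nat.card ↥(L ⊓ K) * j := by
    have h1 := relIndex_mul_relIndex ⊥ N K bot_le S.NK
    rw [relIndex_bot_left, relIndex_bot_left, hj, mul_assoc] at h1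
    exact Nat.eq_of_mul_eq_mul_left Nat.card_pos h1
  obtain ⟨i, hi⟩ := S.eL_dvd
  have hiodd : Odd i := (S.odd.of_dvd_nat
    ((Dvd.intro_left _ hi.symm).trans ((Dvd.intro_left _ S.e_mul).trans
      (Subgroup.card_subgroup_dvd_card M))))
  have hjodd : Odd j := S.odd.of_dvd_nat
    ((Dvd.intro_left _ hj.symm).trans (Subgroup.card_subgroup_dvd_card K))
  have hij : 3 ≤ i * j := by
    obtain ⟨a, ha⟩ := hiodd
    obtain ⟨b, hb⟩ := hjodd
    by_contra hlt
    have ha0 : a = 0 := by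
      subst ha hb
      by_contra h0
      have h1 : (2 * a + 1) * 1 ≤ (2 * a + 1) * (2 * b + 1) := Nat.mul_le_mul_left _ (by omega)
      omega
    have hb0 : b = 0 := by
      subst ha hb ha0
      omega
    refine hidx ⟨?_, ?_⟩
    · rw [hjK, hb, hb0]; ring
    · show S.eL = e
      rw [he, hi, ha, ha0]; ring
  have hU0 : (0 : ℝ) < Nat.card ↥(L ⊓ K) := Nat.cast_pos.2 Nat.card_pos
  have hN0 : (0 : ℝ) < Nat.card N := Nat.cast_pos.2 Nat.card_pos
  have hjR : (Nat.card K : ℝ) = (Nat.card N : ℝ) * (Nat.card ↥(L ⊓ K) : ℝ) * j := by exact_mod_cast hj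
  have hiR : (e : ℝ) = (S.eL : ℝ) * i := by exact_mod_cast hi
  have he3 : (3 : ℝ) ≤ e := by exact_mod_cast S.e_ge
  have he0 : (e : ℝ) - 1 ≤ ((min e (p - e) : ℕ) : ℝ) := by
    have h1 : e - 1 ≤ min e (p - e) := by
      have := S.e_le
      have := S.e_ge
      omega
    have h2 : ((e - 1 : ℕ) : ℝ) ≤ ((min e (p - e) : ℕ) : ℝ) := Nat.cast_le.2 h1
    rwa [Nat.cast_sub (by have := S.e_ge; omega), Nat.cast_one] at h2
  set m := ((min e (p - e) : ℕ) : ℝ)
  have heL0 : (0 : ℝ) ≤ S.eL := Nat.cast_nonneg _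
  rw [hjR] at hineq
  have h5 : 10 * m ^ 2 * (e * j) ≤ 11 * ((e : ℝ) ^ 2 * S.eL) := by
    refine le_of_mul_le_mul_left ?_ (mul_pos hN0 hU0)
    nlinarith [mul_nonneg hX (mul_nonneg hU0.le heL0)]
  have hijR : (3 : ℝ) ≤ (i : ℝ) * j := by exact_mod_cast hij
  have h6 : 10 * m ^ 2 * ((i : ℝ) * j) ≤ 11 * (e : ℝ) ^ 2 := by
    refine le_of_mul_le_mul_left ?_ (lt_of_lt_of_le three_pos he3)
    have h7 := mul_le_mul_of_nonneg_right h5 (Nat.cast_nonneg i : (0 : ℝ) ≤ (i : ℝ))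
    have h8 : (e : ℝ) ^ 2 * S.eL * i = (e : ℝ) ^ 3 := by rw [mul_assoc, ← hiR]; ring
    nlinarith
  nlinarith [mul_le_mul_of_nonneg_left hijR (sq_nonneg m),
    pow_le_pow_left₀ (by linarith : (0 : ℝ) ≤ (e : ℝ) - 1) he0 2]

/-- The second case. -/
theorem Setting.caseII (P : Subgroup G) (hNP : N ≤ P) (hPK : P ≤ K)
    (hP : ∀ a ∈ P, ∃ k : ℕ, a ^ p ^ k = 1)
    (hbig : Nat.card N * (K.relIndex M ^ 2 + 1) < Nat.card P)
    (hy : ∀ z ∈ P, z ∉ N → ∃ y ∈ M, y ^ p = 1 ∧ Commute y z ∧ centralizer ({y} : Set G) ≤ M)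
    (hNc : ∀ z ∈ N, z ≠ 1 → centralizer ({z} : Set G) ≤ M)
    (hlt : Nat.card ↥(L ⊓ K) < Nat.card K)
    (hedge : 2 * K.relIndex M = p + 1 →
      S.eL = 1 ∧ Nat.card N ≤ p ∧ p * Nat.card ↥(L ⊓ K) ≤ Nat.card K) : False := by
  classical
  let := Fintype.ofFinite G
  let := Fintype.ofFinite M
  let := Fintype.ofFinite L
  let := S.K_normal
  let := Fintype.ofFinite ↥(K.subgroupOf M)
  let := Fintype.ofFinite ↥(inner M K N)
  have hpf : Fact p.Prime := ⟨S.prime⟩
  obtain ⟨n, χ, ψ, F⟩ := S.exists_family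
  let i₀ : Fin n := ⟨0, by have := F.n_ge; omega⟩
  set e := K.relIndex M with he
  obtain ⟨d, hd⟩ := F.psi_one_int S i₀
  have hchiP : ∀ a : M, (a : G) ∈ P → CongP p (χ i₀ a) (e : ℂ) := by
    intro a ha
    obtain ⟨k, hk⟩ := hP _ ha
    have h1 := congP_of_pow (p := p) (H43.gen_of_irr (F.chi_irr S i₀)) (x := a) (k := k)
      (Subtype.ext hk)
    rwa [linInd_one (F.mem i₀)] at h1
  have hpsiP : ∀ a ∈ P, CongP p (ψ i₀ a) (d : ℂ) := by
    intro a ha
    obtain ⟨k, hk⟩ := hP _ ha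
    rw [← hd]
    exact congP_of_pow (p := p) (F.gen S i₀) (x := a) (k := k) hk
  -- `ψ(1) ≡ e`
  have hde : (p : ℤ) ∣ d - (e : ℤ) := by
    by_contra hnd
    let T : Finset ↥(K.subgroupOf M) :=
      Finset.univ.filter (fun k => ((k : M) : G) ∈ P ∧ k ∉ inner M K N)
    have hone : ∀ k ∈ T, (1 : ℝ) ≤ ‖phiFun K M RM (χ i₀) (ψ i₀) k‖ ^ 2 := by
      intro k hk
      simp only [T, Finset.mem_filter, Finset.mem_univ, true_and] at hk
      obtain ⟨hkP, hkN⟩ := hk
      have hk1 : k ≠ 1 := fun h => hkN (h ▸ one_mem _)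
      have hkA : ((k : M) : G) ∈ (K : Set G) \ {1} := ⟨k.2, fun h => hk1 (Subtype.ext (Subtype.ext h))⟩
      obtain ⟨m, hm⟩ := F.exists_int_phi S i₀ hkA
      obtain ⟨y, -, hy1, hy2, hy3⟩ := hy _ hkP hkN
      have h1 : CongP p (m : ℂ) ((d - (e : ℤ) : ℤ) : ℂ) := by
        rw [← hm, Int.cast_sub, Int.cast_natCast]
        exact ((F.rhoM_congP S i₀ hkA hy1 hy2 hy3).trans (hpsiP _ hkP)).sub (hchiP _ hkP)
      have hm0 : m ≠ 0 := fun h0 => hnd (by
        have h2 := CongP.int_dvd h1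
        rw [h0, zero_sub, dvd_neg] at h2
        exact h2)
      rw [F.phi_apply S i₀ hk1, hm, Complex.norm_intCast, sq_abs]
      exact_mod_cast (sq_pos_of_ne_zero hm0 : (0 : ℤ) < m ^ 2)
    have hT : (Nat.card P : ℝ) - Nat.card N ≤ T.card := by
      let ιP : ↥(K.subgroupOf M) → G := fun k => ((k : M) : G)
      have hi : Function.Injective ιP := Subtype.val_injective.comp Subtype.val_injective
      have h1 : (T.image ιP).card = T.card := Finset.card_image_of_injective _ hi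
      have h2 : T.image ιP = (Finset.univ.filter (· ∈ P)) \ (Finset.univ.filter (· ∈ N)) := by
        ext g
        simp only [Finset.mem_image, Finset.mem_sdiff, Finset.mem_filter, Finset.mem_univ, true_and,
          T, ιP]
        constructor
        · rintro ⟨k, ⟨hk, hk'⟩, rfl⟩
          exact ⟨hk, hk'⟩
        · rintro ⟨hg, hg'⟩
          exact ⟨⟨⟨g, S.KM (hPK hg)⟩, hPK hg⟩, ⟨hg, hg'⟩, rfl⟩
      rw [← h1, h2, sub_le_iff_le_add]
      have h3 := Finset.card_le_card_sdiff_add_card (s := Finset.univ.filter (· ∈ P))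
        (t := (Finset.univ.filter (· ∈ N) : Finset G))
      rw [Nat.card_eq_fintype_card, Nat.card_eq_fintype_card, Fintype.card_of_subtype
        (Finset.univ.filter (· ∈ P)) (by simp), Fintype.card_of_subtype
        (Finset.univ.filter (· ∈ N)) (by simp)]
      exact_mod_cast h3
    have hle : (T.card : ℝ) ≤ ∑ k ∈ Finset.univ.filter (fun k => k ∉ inner M K N),
        ‖phiFun K M RM (χ i₀) (ψ i₀) k‖ ^ 2 := by
      have h1 := Finset.sum_le_sum hone
      rw [Finset.sum_const, nsmul_one] at h1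
      refine h1.trans (Finset.sum_le_sum_of_subset_of_nonneg (fun k hk => ?_)
        fun _ _ _ => by positivity)
      simp only [T, Finset.mem_filter, Finset.mem_univ, true_and] at hk ⊢
      exact hk.2
    have h4 : (Nat.card N : ℝ) * ((e : ℝ) ^ 2 + 1) < Nat.card P := by exact_mod_cast hbig
    have h5 := F.out_le S i₀
    nlinarith
  have hde' : CongP p (d : ℂ) (e : ℂ) := by
    obtain ⟨t, ht⟩ := hde
    have h1 := (CongP.nat_mul (p := p) (w := (t : ℂ)) (isIntegral_algebraMap (R := ℤ) (A := ℂ) (x := t))).add (CongP.refl p (e : ℂ))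
    rw [zero_add] at h1
    rwa [show (p : ℂ) * t + e = d from by
      have := congrArg (fun z : ℤ => (z : ℂ)) ht
      push_cast at this
      linear_combination -this] at h1
  have hep : e ≤ p := by have := S.e_le; have := S.e_ge; omega
  set m₀ := min e (p - e)
  -- the values on `N#`
  have hN : ∀ k : ↥(K.subgroupOf M), k ∈ inner M K N → k ≠ 1 →
      (m₀ : ℝ) ^ 2 ≤ ‖PF7.invDade ((K : Set G) \ {1}) M RM (ψ i₀) k‖ ^ 2 := by
    intro k hk hk1
    have hkA : ((k : M) : G) ∈ (K : Set G) \ {1} := ⟨k.2, fun h => hk1 (Subtype.ext (Subtype.ext h))⟩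
    have hR : RM ((k : M) : G) = ⊥ := (Subgroup.eq_bot_iff_forall _).2 fun u hu => by
      have h1 : u ∈ RM ((k : M) : G) ⊓ (M ⊓ centralizer ({((k : M) : G)} : Set G)) :=
        ⟨hu, hNc _ hk hkA.2 (S.dadeM.le_centralizer _ hkA hu), S.dadeM.le_centralizer _ hkA hu⟩
      rwa [S.dadeM.inf_eq_bot _ hkA, mem_bot] at h1
    have hρ : PF7.invDade ((K : Set G) \ {1}) M RM (ψ i₀) k = ψ i₀ ((k : M) : G) :=
      PF7.invDade_eq_of_eq_on hkA fun u hu => by rw [hR, mem_bot] at hu; rw [hu, mul_one]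
    obtain ⟨m, hm⟩ := F.exists_int_phi S i₀ hkA
    rw [hρ, linInd_apply_mem S.freeSection (F.mem i₀) hk,
      show ((K.subgroupOf M).index : ℂ) = (e : ℂ) from rfl] at hm
    have hm' : ψ i₀ ((k : M) : G) = ((m + (e : ℤ) : ℤ) : ℂ) := by
      push_cast
      linear_combination hm
    have h1 : CongP p (ψ i₀ ((k : M) : G)) (e : ℂ) := (hpsiP _ (hNP hk)).trans hde'
    rw [hm'] at h1
    have h2 := sq_min_le hep (CongP.int_dvd (m := m + (e : ℤ)) (n := (e : ℤ)) (by simpa using h1))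
    rw [hρ, hm', Complex.norm_intCast, sq_abs]
    exact_mod_cast h2
  have hcg : ∀ r ∈ H, Commute r x → r ≠ 1 → CongP p (ψ i₀ r) (e : ℂ) := by
    intro r hr hc _
    refine ((congP_mul (F.gen S i₀) (k := 1) (y := r) (by rw [pow_one]; exact S.x_pow)
      hc.eq.symm).symm).trans ?_
    rw [F.psi_const S i₀ S.x_mem S.x_ne hr]
    have h1 := congP_of_pow (p := p) (F.gen S i₀) (x := x) (k := 1) (by rw [pow_one]; exact S.x_pow)
    rw [hd] at h1
    exact h1.trans hde'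
  have hineq := F.main_ineq S i₀ m₀ (fun c hc => sq_min_le hep hc) hcg
  set X := ∑ k ∈ Finset.univ.filter (fun k => k ∈ inner M K N),
      ‖PF7.invDade ((K : Set G) \ {1}) M RM (ψ i₀) k‖ ^ 2
  have hX : ((Nat.card N : ℝ) - 1) * (m₀ : ℝ) ^ 2 ≤ X := by
    have h1 : ∑ k ∈ (Finset.univ.filter (fun k => k ∈ inner M K N)).erase 1, (m₀ : ℝ) ^ 2 ≤ X :=
      (Finset.sum_le_sum fun k hk => hN k (Finset.mem_filter.1 (Finset.mem_of_mem_erase hk)).2
        (Finset.ne_of_mem_erase hk)).trans (Finset.sum_le_sum_of_subset_of_nonneg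
          (Finset.erase_subset _ _) fun _ _ _ => by positivity)
    rw [Finset.sum_const, nsmul_eq_mul, Finset.card_erase_of_mem (by simp),
      ← Fintype.card_subtype, ← Nat.card_eq_fintype_card] at h1
    have hNcard : Nat.card {k // k ∈ inner M K N} = Nat.card N := Nat.card_congr
      { toFun := fun a => ⟨((a : ↥(K.subgroupOf M)) : M), a.2⟩
        invFun := fun a => ⟨⟨⟨a, S.KM (S.NK a.2)⟩, S.NK a.2⟩, a.2⟩
        left_inv := fun a => rfl
        right_inv := fun a => rfl }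
    rw [hNcard, Nat.cast_sub Nat.card_pos, Nat.cast_one] at h1
    exact h1
  obtain ⟨r, hr⟩ : Nat.card ↥(L ⊓ K) ∣ Nat.card K := Subgroup.card_dvd_of_le inf_le_right
  have hrodd : Odd r := S.odd.of_dvd_nat
    ((Dvd.intro_left _ hr.symm).trans (Subgroup.card_subgroup_dvd_card K))
  have hr3 : 3 ≤ r := by
    obtain ⟨t, ht⟩ := hrodd
    by_contra hlt3
    have : r = 1 := by omega
    rw [this, mul_one] at hr
    omega
  have hU0 : (0 : ℝ) < Nat.card ↥(L ⊓ K) := Nat.cast_pos.2 Nat.card_pos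
  have hN1 : (1 : ℝ) ≤ Nat.card N := Nat.one_le_cast.2 Nat.card_pos
  have hrR : (Nat.card K : ℝ) = (Nat.card ↥(L ⊓ K) : ℝ) * r := by exact_mod_cast hr
  have he3 : (3 : ℝ) ≤ e := by exact_mod_cast S.e_ge
  have heL : (S.eL : ℝ) ≤ e := by exact_mod_cast S.eL_le
  have heL0 : (0 : ℝ) ≤ S.eL := Nat.cast_nonneg _
  rw [hrR] at hineq
  have h7 : 11 * ((Nat.card N : ℝ) - 1) * (m₀ : ℝ) ^ 2 * S.eL + 10 * (m₀ : ℝ) ^ 2 * e * r ≤
      11 * (Nat.card N : ℝ) * (e : ℝ) ^ 2 * S.eL := by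
    refine le_of_mul_le_mul_left ?_ hU0
    nlinarith [mul_le_mul_of_nonneg_right hX (mul_nonneg hU0.le heL0)]
  rcases Nat.lt_or_ge p (2 * e) with h2 | h2
  · obtain ⟨heL1, hNp, hpr⟩ := hedge (by have := S.e_le; omega)
    have hm : (m₀ : ℝ) = (e : ℝ) - 1 := by
      rw [show m₀ = e - 1 by have := S.e_le; omega, Nat.cast_sub (by have := S.e_ge; omega),
        Nat.cast_one]
    have hpr' : p ≤ r := by
      rw [hr, mul_comm] at hpr
      exact Nat.le_of_mul_le_mul_left hpr Nat.card_pos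
    have hprR : (p : ℝ) ≤ r := by exact_mod_cast hpr'
    have hNpR : (Nat.card N : ℝ) ≤ p := by exact_mod_cast hNp
    rw [hm, heL1, Nat.cast_one, mul_one, mul_one] at h7
    have h8 : 10 * ((e : ℝ) - 1) ^ 2 * e * p ≤ 11 * (p : ℝ) * (e : ℝ) ^ 2 := by
      have a1 : 10 * ((e : ℝ) - 1) ^ 2 * e * p ≤ 10 * ((e : ℝ) - 1) ^ 2 * e * r :=
        mul_le_mul_of_nonneg_left hprR (by positivity)
      have a2 : 0 ≤ 11 * ((Nat.card N : ℝ) - 1) * ((e : ℝ) - 1) ^ 2 :=
        mul_nonneg (by linarith) (sq_nonneg _)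
      have a3 : 11 * (Nat.card N : ℝ) * (e : ℝ) ^ 2 ≤ 11 * (p : ℝ) * (e : ℝ) ^ 2 :=
        mul_le_mul_of_nonneg_right (by linarith) (sq_nonneg _)
      linarith
    have hp0 : (0 : ℝ) < p := Nat.cast_pos.2 S.prime.pos
    have h9 : 10 * ((e : ℝ) - 1) ^ 2 ≤ 11 * e := by
      refine le_of_mul_le_mul_left ?_ (mul_pos hp0 (lt_of_lt_of_le three_pos he3))
      linarith
    nlinarith
  · have hm : (m₀ : ℝ) = (e : ℝ) := by rw [show m₀ = e by omega]
    rw [hm] at h7
    have hrR3 : (3 : ℝ) ≤ r := by exact_mod_cast hr3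
    have h8 : 10 * (e : ℝ) ^ 3 * 3 ≤ 11 * (e : ℝ) ^ 3 := by
      have a1 : 10 * (e : ℝ) ^ 3 * 3 ≤ 10 * (e : ℝ) ^ 3 * r :=
        mul_le_mul_of_nonneg_left hrR3 (by positivity)
      have a2 : 11 * (e : ℝ) ^ 2 * S.eL ≤ 11 * (e : ℝ) ^ 2 * e :=
        mul_le_mul_of_nonneg_left heL (by positivity)
      nlinarith
    nlinarith [pow_pos (lt_of_lt_of_le three_pos he3) 3]

end Cfsg.Agent.OddOrder.PF12
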