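import Cfsg.Agent.OddOrder.PF7.InvDade
import Cfsg.Agent.CharInduce.Isometry
import Cfsg.Agent.H43.Galois
import Cfsg.Agent.H43.Isometry

/-!
# Equal degree families under the Dade map
-/

set_option autoImplicit false

open scoped ComplexConjugate

namespace Cfsg.Agent.OddOrder.PF12

open Cfsg.Agent Cfsg.Agent.CharBasic

universe u

variable {G : Type u} [Group G] {A : Set G} {L : Subgroup G} {H : G → Subgroup G}

theorem dade_map_sub (A : Set G) (L : Subgroup G) (H : G → Subgroup G) (α β : L → ℂ) :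
    Cfsg.dadeIsometry A L H (α - β) = Cfsg.dadeIsometry A L H α - Cfsg.dadeIsometry A L H β := by
  funext g
  simp only [Cfsg.dadeIsometry, Pi.sub_apply]
  split_ifs <;> simp

theorem dade_map_comp (σ : ℂ →+* ℂ) (A : Set G) (L : Subgroup G) (H : G → Subgroup G) (α : L → ℂ) :
    (fun g => σ (Cfsg.dadeIsometry A L H α g)) = Cfsg.dadeIsometry A L H (fun a => σ (α a)) := by
  funext g
  simp only [Cfsg.dadeIsometry]
  split_ifs <;> simp

theorem one_not_mem_dadeSupp (hD : Cfsg.DadeHypothesis A L H) : (1 : G) ∉ H43.dadeSupp A H := by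
  rintro ⟨a, ha, u, hu, x, hx⟩
  rw [mul_one, mul_inv_cancel] at hx
  refine hD.one_not_mem ?_
  have hau : a ∈ H a := by
    have h := inv_mem hu
    rwa [← eq_inv_of_mul_eq_one_left hx.symm] at h
  have h1 : a ∈ H a ⊓ (L ⊓ Subgroup.centralizer ({a} : Set G)) :=
    ⟨hau, hD.subset ha, Subgroup.mem_centralizer_singleton_iff.2 rfl⟩
  rw [hD.inf_eq_bot a ha, Subgroup.mem_bot] at h1
  exact h1 ▸ ha

/-- A family of signed irreducible characters realising the Dade images of the differences of an
equal degree family. -/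
structure DadeFamily [Fintype G] (A : Set G) (L : Subgroup G) (H : G → Subgroup G)
    {ι : Type*} (χ : ι → L → ℂ) (ψ : ι → G → ℂ) : Prop where
  signed : ∀ i, H43.Signed (ψ i)
  orth : ∀ i j, i ≠ j → Cfsg.classInner (ψ i) (ψ j) = 0
  map_sub : ∀ i j, Cfsg.dadeIsometry A L H (χ i - χ j) = ψ i - ψ j

variable [Fintype G] {ι : Type*} [Fintype ι] {χ : ι → L → ℂ}

omit [Fintype ι] in
theorem DadeFamily.inner_sub {ψ : ι → G → ℂ} (F : DadeFamily A L H χ ψ) [DecidableEq ι] (i j k : ι) :
    Cfsg.classInner (ψ k) (ψ i - ψ j) =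
      (if k = i then 1 else 0) - (if k = j then 1 else 0) := by
  have h : ∀ a b, Cfsg.classInner (ψ a) (ψ b) = if a = b then 1 else 0 := fun a b => by
    split_ifs with e
    · subst e; exact (F.signed a).inner_self
    · exact F.orth a b e
  rw [classInner_sub_right, h, h]

theorem exists_dadeFamily [Fintype L] [Nonempty ι] (hD : Cfsg.DadeHypothesis A L H)
    (hirr : ∀ i, Cfsg.IsIrrCharacter L (χ i)) (hinj : Function.Injective χ)
    (hvan : ∀ i j (x : L), (x : G) ∉ A → χ i x = χ j x) :
    ∃ ψ : ι → G → ℂ, DadeFamily A L H χ ψ := by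
  classical
  let e := Fintype.equivFin ι
  obtain ⟨i₀⟩ := ‹Nonempty ι›
  have hgen : ∀ i j, Cfsg.IsGeneralizedCharacter L (χ i - χ j) := fun i j =>
    H43.gen_sub (H43.gen_of_irr (hirr i)) (H43.gen_of_irr (hirr j))
  have hz : ∀ i j (x : L), (x : G) ∉ A → (χ i - χ j) x = 0 := fun i j x hx => by
    simp [hvan i j x hx]
  have hcf : ∀ i j, Cfsg.IsClassFunction L (χ i - χ j) := fun i j =>
    CharInduce.IsGen.isClassFunction (hgen i j)
  have horth : ∀ a b, Cfsg.classInner (χ a) (χ b) = if a = b then 1 else 0 := by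
    intro a b
    split_ifs with h
    · subst h; exact classInner_irr_self (hirr a)
    · exact classInner_irr_of_ne (hirr a) (hirr b) fun h' => h (hinj h')
  obtain ⟨ε, hε, μ, hμ, hμinj, hμτ⟩ := CharInduce.Isometry.exists_signed_family (G := G) (Fintype.card ι)
    (e i₀) (fun k => Cfsg.dadeIsometry A L H (χ (e.symm k) - χ i₀))
    (by
      funext g
      simp only [Equiv.symm_apply_apply, sub_self, Cfsg.dadeIsometry]
      split_ifs <;> simp)
    (fun k => H43.dade_virtual hD (hgen _ _) (hz _ _))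
    (fun k => PF7.dade_eq_zero_of_not_mem (one_not_mem_dadeSupp hD))
    (by
      intro k l hk hl
      rw [(Cfsg.Agent.S1500.result A L H hD _ (hcf _ _) (hz _ _)).1 _ (hcf _ _) (hz _ _)]
      have hk' : e.symm k ≠ i₀ := fun h => hk (by rw [← h]; simp)
      have hl' : e.symm l ≠ i₀ := fun h => hl (by rw [← h]; simp)
      simp only [classInner_sub_left, classInner_sub_right, horth, if_neg hk', if_neg (Ne.symm hl'),
        if_true, e.symm.injective.eq_iff]
      split_ifs <;> norm_num)
  have hsig : ∀ i, H43.Signed (ε • μ (e i)) := by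
    intro i
    rcases hε with rfl | rfl
    · rw [one_smul]; exact Or.inl (hμ _)
    · exact Or.inr (by simpa using hμ (e i))
  refine ⟨fun i => ε • μ (e i), hsig, fun i j hij => ?_, fun i j => ?_⟩
  · rw [classInner_smul_left, classInner_smul_right,
      classInner_irr_of_ne (hμ _) (hμ _) (fun h => hij (e.injective (hμinj h))), mul_zero, mul_zero]
  · have hi := hμτ (e i)
    have hj := hμτ (e j)
    simp only [Equiv.symm_apply_apply] at hi hj
    rw [show χ i - χ j = (χ i - χ i₀) - (χ j - χ i₀) by simp, dade_map_sub, hi, hj, smul_sub, smul_sub]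
    abel

theorem DadeFamily.unique (h3 : 3 ≤ Fintype.card ι) {ψ ψ' : ι → G → ℂ}
    (F : DadeFamily A L H χ ψ) (F' : DadeFamily A L H χ ψ') : ψ' = ψ := by
  classical
  funext i
  have hsame : ∀ a b, ψ' a - ψ' b = ψ a - ψ b := fun a b => by rw [← F.map_sub, ← F'.map_sub]
  have hkey : ∀ j, j ≠ i →
      Cfsg.classInner (ψ' i) (ψ i) - Cfsg.classInner (ψ' i) (ψ j) = 1 := by
    intro j hj
    rw [← classInner_sub_right, ← hsame, F'.inner_sub i j i, if_pos rfl, if_neg (Ne.symm hj), sub_zero]
  obtain ⟨j, hj⟩ : ∃ j, j ≠ i := Fintype.exists_ne_of_one_lt_card (by omega) i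
  obtain ⟨k, hk, hkj⟩ : ∃ k, k ≠ i ∧ k ≠ j := by
    obtain ⟨k, -, hk⟩ : ∃ k ∈ (Finset.univ : Finset ι), k ∉ ({i, j} : Finset ι) :=
      Finset.exists_mem_notMem_of_card_lt_card (by
        rw [Finset.card_univ]
        exact lt_of_le_of_lt Finset.card_le_two (by omega))
    exact ⟨k, fun h => hk (by simp [h]), fun h => hk (by simp [h])⟩
  rcases H43.Signed.inner_eq (F'.signed i) (F.signed i) with h0 | ⟨s, hs, he, hsv, -⟩
  · exfalso
    have e1 := hkey j hj
    have e2 := hkey k hk
    rw [h0] at e1 e2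
    rcases H43.Signed.inner_eq (F'.signed i) (F.signed j) with hj0 | ⟨s, hs, hes, hsv, -⟩
    · rw [hj0] at e1; norm_num at e1
    rcases H43.Signed.inner_eq (F'.signed i) (F.signed k) with hk0 | ⟨t, ht, het, htv, -⟩
    · rw [hk0] at e2; norm_num at e2
    rw [hes, classInner_smul_left, F.orth j k hkj.symm, mul_zero] at e2
    norm_num at e2
  · rcases H43.Signed.inner_eq (F'.signed i) (F.signed j) with hj0 | ⟨t, ht, het, htv, -⟩
    · have e1 := hkey j hj
      rw [hsv, hj0, sub_zero] at e1
      rw [he, e1, one_smul]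
    · exfalso
      have h1 : Cfsg.classInner (ψ' i) (ψ i) = 0 := by
        rw [het, classInner_smul_left, F.orth j i hj, mul_zero]
      rw [hsv] at h1
      rw [h1] at hs
      norm_num at hs

/-- The automorphisms of `ℂ` permute the family as they permute the `χ`'s. -/
theorem DadeFamily.aut [Fintype L] (h3 : 3 ≤ Fintype.card ι) (hinj : Function.Injective χ)
    (hclosed : ∀ (σ : ℂ ≃+* ℂ) (i : ι), ∃ j, χ j = fun x => σ (χ i x))
    {ψ : ι → G → ℂ} (F : DadeFamily A L H χ ψ) (σ : ℂ ≃+* ℂ) (i : ι) :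
    ∃ j, χ j = (fun x => σ (χ i x)) ∧ ψ j = fun g => σ (ψ i g) := by
  classical
  choose π hπ using hclosed σ
  have hπb : Function.Bijective π := by
    refine (Fintype.bijective_iff_injective_and_card π).2 ⟨fun a b e => hinj (funext fun x => ?_), rfl⟩
    exact σ.injective (congrFun ((hπ a).symm.trans ((congrArg χ e).trans (hπ b))) x)
  let P := Equiv.ofBijective π hπb
  have hP : ∀ a, χ a = fun x => σ (χ (P.symm a) x) := fun a => by
    have h := hπ (P.symm a)
    rwa [show π (P.symm a) = a from P.apply_symm_apply a] at h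
  have F' : DadeFamily A L H χ (fun a g => σ (ψ (P.symm a) g)) := by
    refine ⟨fun a => H43.aut_signed σ (F.signed _), fun a b hab => ?_, fun a b => ?_⟩
    · rcases H43.Signed.inner_eq (H43.aut_signed σ (F.signed (P.symm a)))
        (H43.aut_signed σ (F.signed (P.symm b))) with h0 | ⟨s, hs, he, -, -⟩
      · exact h0
      exfalso
      have hs0 : s ≠ 0 := fun h0 => by simp [h0] at hs
      have h' : ψ (P.symm a) = σ.symm s • ψ (P.symm b) := funext fun y => σ.injective (by
        simpa using congrFun he y)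
      have h1 := F.orth _ _ fun h => hab (P.symm.injective h)
      rw [h', classInner_smul_left, (F.signed _).inner_self, mul_one] at h1
      exact hs0 (by simpa using congrArg σ h1)
    · rw [hP a, hP b, show ((fun x : L => σ (χ (P.symm a) x)) - fun x => σ (χ (P.symm b) x)) =
          fun x => σ.toRingHom ((χ (P.symm a) - χ (P.symm b)) x) from funext fun x => by simp,
        ← dade_map_comp, F.map_sub]
      funext y
      simp
  refine ⟨π i, hπ i, ?_⟩
  have h := congrFun (F.unique h3 F') (π i)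
  simp only [show P.symm (π i) = i from P.symm_apply_apply i] at h
  exact h.symm

/-- A value of the family fixed by the automorphisms of `ℂ` is a rational integer. -/
theorem DadeFamily.int_of_eq [Fintype L] (h3 : 3 ≤ Fintype.card ι) (hinj : Function.Injective χ)
    (hclosed : ∀ (σ : ℂ ≃+* ℂ) (i : ι), ∃ j, χ j = fun x => σ (χ i x))
    {ψ : ι → G → ℂ} (F : DadeFamily A L H χ ψ) {g : G} (hg : ∀ i j, ψ i g = ψ j g) (i : ι) :
    ∃ m : ℤ, ψ i g = m := by
  have hint : IsIntegral ℤ (ψ i g) := by
    obtain ⟨a, b, ha, hb, e⟩ := (F.signed i).gen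
    rw [e]
    exact (IsChar.isIntegral ha g).sub (IsChar.isIntegral hb g)
  have hfix : ∀ σ : ℂ ≃+* ℂ, σ (ψ i g) = ψ i g := fun σ => by
    obtain ⟨j, -, hj⟩ := F.aut h3 hinj hclosed σ i
    rw [← congrFun hj g, hg j i]
  obtain ⟨q, hq⟩ := H43.rat_of_fixed hint.tower_top hfix
  exact H43.int_of_rat_integral hint hq

end Cfsg.Agent.OddOrder.PF12
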