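import Mathlib
import Cfsg.Agent.H43.Linear
import Cfsg.Agent.PGroups.Basic

/-!
# Fourier inversion on an abelian quotient
-/

set_option autoImplicit false

open scoped ComplexConjugate

namespace Cfsg.Agent.OddOrder.PF12

open Cfsg.Agent

variable {K : Type*} [Group K] [Fintype K] (N : Subgroup K) [N.Normal]

omit [Fintype K] in
theorem quot_comm (hab : ∀ a b : K, a * b * a⁻¹ * b⁻¹ ∈ N) (x y : K ⧸ N) : x * y = y * x := by
  induction x using QuotientGroup.induction_on with | _ a =>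
  induction y using QuotientGroup.induction_on with | _ b =>
  have h : ((a * b * a⁻¹ * b⁻¹ : K) : K ⧸ N) = 1 := (QuotientGroup.eq_one_iff _).2 (hab a b)
  simp only [QuotientGroup.mk_mul, QuotientGroup.mk_inv] at h
  rwa [mul_inv_eq_one, mul_inv_eq_iff_eq_mul] at h

open Classical in
theorem sum_homs {Q : Type*} [CommGroup Q] [Finite Q] [Fintype (Q →* ℂˣ)] (a : Q) :
    ∑ χ : Q →* ℂˣ, (χ a : ℂ) = if a = 1 then (Nat.card Q : ℂ) else 0 := by
  have : NeZero (Monoid.exponent Q : ℂ) := ⟨Nat.cast_ne_zero.mpr Monoid.exponent_ne_zero_of_finite⟩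
  split_ifs with ha
  · subst ha
    simp only [map_one, Units.val_one, Finset.sum_const, Finset.card_univ, nsmul_one]
    rw [← Nat.card_eq_fintype_card, CommGroup.card_monoidHom_of_hasEnoughRootsOfUnity]
  · obtain ⟨χ₀, hχ₀⟩ := CommGroup.exists_apply_ne_one_of_hasEnoughRootsOfUnity Q ℂ ha
    have h : (χ₀ a : ℂ) * ∑ χ : Q →* ℂˣ, (χ a : ℂ) = ∑ χ : Q →* ℂˣ, (χ a : ℂ) := by
      rw [Finset.mul_sum]
      exact Fintype.sum_equiv (Equiv.mulLeft χ₀) _ _ fun χ => by simp
    by_contra h0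
    exact hχ₀ (Units.ext (mul_right_cancel₀ h0 (h.trans (one_mul _).symm)))

/-- If all non-trivial Fourier coefficients of `f` along the abelian quotient `K/N` are equal to
`C`, the sums over the non-trivial cosets are all equal. -/
theorem coset_sum_eq [Fintype N] (hab : ∀ a b : K, a * b * a⁻¹ * b⁻¹ ∈ N) (f : K → ℂ) (C : ℂ)
    (hC : ∀ l : K →* ℂˣ, (∀ x ∈ N, l x = 1) → l ≠ 1 → ∑ g, f g * conj (l g : ℂ) = C)
    {g : K} (hg : g ∉ N) : (N.index : ℂ) * ∑ x : N, f (g * x) = (∑ k, f k) - C := by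
  classical
  let : CommGroup (K ⧸ N) := { (inferInstance : Group (K ⧸ N)) with mul_comm := quot_comm N hab }
  have : NeZero (Monoid.exponent (K ⧸ N) : ℂ) :=
    ⟨Nat.cast_ne_zero.mpr Monoid.exponent_ne_zero_of_finite⟩
  have : Finite ((K ⧸ N) →* ℂˣ) := Nat.finite_of_card_ne_zero (by
    rw [CommGroup.card_monoidHom_of_hasEnoughRootsOfUnity]; exact Nat.card_pos.ne')
  cases nonempty_fintype ((K ⧸ N) →* ℂˣ)
  have hcoef : ∀ χ : (K ⧸ N) →* ℂˣ,
      ∑ k, f k * conj (χ k : ℂ) = if χ = 1 then ∑ k, f k else C := by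
    intro χ
    split_ifs with h
    · subst h; simp
    · refine hC (χ.comp (QuotientGroup.mk' N)) (fun x hx => ?_) (fun e => h ?_)
      · simp [(QuotientGroup.eq_one_iff x).2 hx]
      · refine MonoidHom.ext fun y => ?_
        induction y using QuotientGroup.induction_on with | _ a =>
        exact DFunLike.congr_fun e a
  have hgq : (g : K ⧸ N) ≠ 1 := fun e => hg ((QuotientGroup.eq_one_iff g).1 e)
  have h1 : ∑ χ : (K ⧸ N) →* ℂˣ, (χ g : ℂ) * ∑ k, f k * conj (χ k : ℂ) = (∑ k, f k) - C := by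
    simp only [hcoef]
    have h0 : ∀ χ : (K ⧸ N) →* ℂˣ, (χ g : ℂ) * (if χ = 1 then ∑ k, f k else C) =
        (χ g : ℂ) * C + (if χ = 1 then ((∑ k, f k) - C) else 0) := by
      intro χ
      split_ifs with h
      · subst h
        simp only [MonoidHom.one_apply, Units.val_one]
        ring
      · ring
    rw [Finset.sum_congr rfl fun χ _ => h0 χ, Finset.sum_add_distrib, ← Finset.sum_mul, sum_homs,
      if_neg hgq, Finset.sum_ite_eq' Finset.univ (1 : (K ⧸ N) →* ℂˣ)]
    simp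
  rw [← h1]
  simp only [Finset.mul_sum]
  rw [Finset.sum_comm (s := (Finset.univ : Finset ((K ⧸ N) →* ℂˣ)))]
  have h2 : ∀ k : K, ∑ χ : (K ⧸ N) →* ℂˣ, (χ g : ℂ) * (f k * conj (χ k : ℂ)) =
      if g⁻¹ * k ∈ N then (N.index : ℂ) * f k else 0 := by
    intro k
    have h3 : ∀ χ : (K ⧸ N) →* ℂˣ, (χ g : ℂ) * (f k * conj (χ k : ℂ)) =
        f k * (χ ((g : K ⧸ N) * (k : K ⧸ N)⁻¹) : ℂ) := by
      intro χ
      rw [H43.linear_conj χ (k : K ⧸ N), map_mul, Units.val_mul]
      ring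
    rw [Finset.sum_congr rfl fun χ _ => h3 χ, ← Finset.mul_sum, sum_homs]
    have hiff : (g : K ⧸ N) * (k : K ⧸ N)⁻¹ = 1 ↔ g⁻¹ * k ∈ N := by
      rw [mul_inv_eq_one, QuotientGroup.eq]
    simp only [hiff, ← Subgroup.index_eq_card]
    split_ifs <;> ring
  rw [Finset.sum_congr rfl fun k _ => h2 k, ← Finset.sum_filter]
  refine Finset.sum_bij (fun (x : N) _ => g * (x : K)) (fun x _ => by simp) (fun x _ y _ e =>
    Subtype.ext (mul_left_cancel e)) (fun k hk => ?_) fun x _ => rfl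
  exact ⟨⟨g⁻¹ * k, (Finset.mem_filter.1 hk).2⟩, Finset.mem_univ _, by simp⟩

/-- There are `[K:N]` linear characters trivial on `N`. -/
theorem card_homs_trivial (hab : ∀ a b : K, a * b * a⁻¹ * b⁻¹ ∈ N) :
    Nat.card {l : K →* ℂˣ // ∀ x ∈ N, l x = 1} = N.index := by
  let : CommGroup (K ⧸ N) := { (inferInstance : Group (K ⧸ N)) with mul_comm := quot_comm N hab }
  have : NeZero (Monoid.exponent (K ⧸ N) : ℂ) :=
    ⟨Nat.cast_ne_zero.mpr Monoid.exponent_ne_zero_of_finite⟩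
  rw [Subgroup.index_eq_card, ← CommGroup.card_monoidHom_of_hasEnoughRootsOfUnity (K ⧸ N) ℂ]
  exact Nat.card_congr
    { toFun := fun l => QuotientGroup.lift N l.1 fun x hx => l.2 x hx
      invFun := fun χ => ⟨χ.comp (QuotientGroup.mk' N), fun x hx => by
        simp [(QuotientGroup.eq_one_iff x).2 hx]⟩
      left_inv := fun l => Subtype.ext (MonoidHom.ext fun x => rfl)
      right_inv := fun χ => MonoidHom.ext fun y => QuotientGroup.induction_on y fun a => rfl }

end Cfsg.Agent.OddOrder.PF12
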