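import Cfsg.Agent.OddOrder.PF12.Sums
import Cfsg.Agent.OddOrder.PF12.Fourier
import Cfsg.Agent.OddOrder.PF1.Clifford
import Cfsg.Agent.OddOrder.PF6.Induced
import Cfsg.Agent.H43.Galois

/-!
# The characters induced from the linear characters of an abelian section with free action
-/

set_option autoImplicit false

open scoped ComplexConjugate

namespace Cfsg.Agent.OddOrder.PF12

open Cfsg.Agent Cfsg.Agent.CharBasic

universe u

variable {Γ : Type u} [Group Γ] [Fintype Γ] (K : Subgroup Γ) [hKn : K.Normal] [Fintype K]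
  (N : Subgroup K)

/-- `K/N` is abelian, `N` is invariant, and `C_{K/N}(b) = 1` for `b ∉ K`. -/
structure FreeSection : Prop where
  ab : ∀ a b : K, a * b * a⁻¹ * b⁻¹ ∈ N
  inv : ∀ (g : Γ) (n : K), n ∈ N → MulAut.conjNormal g n ∈ N
  free : ∀ b : Γ, b ∉ K → ∀ k : K, MulAut.conjNormal b k * k⁻¹ ∈ N → k ∈ N

/-- The induced non-principal linear characters of `K/N`. -/
def linInd : Set (Γ → ℂ) :=
  {χ | ∃ l : K →* ℂˣ, (∀ x ∈ N, l x = 1) ∧ l ≠ 1 ∧ χ = indFun K (fun k => (l k : ℂ))}

variable {K N} (S : FreeSection K N)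
include S

omit [Fintype Γ] [Fintype K] in
theorem normal_of_free : N.Normal := ⟨fun n hn g => by
  rw [show g * n * g⁻¹ = (g * n * g⁻¹ * n⁻¹) * n by group]
  exact mul_mem (S.ab g n) hn⟩

omit [Fintype K] in
theorem inertia_eq {l : K →* ℂˣ} (hl : ∀ x ∈ N, l x = 1) (hl1 : l ≠ 1) :
    CharInduce.inertia K (fun k => (l k : ℂ)) = K := by
  cases nonempty_fintype K
  refine le_antisymm (fun b hb => ?_)
    (CharInduce.le_inertia K (IsIrr.isClassFunction (CharInduce.isIrrCharacter_hom l)))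
  by_contra hbK
  have := normal_of_free S
  refine hl1 (MonoidHom.ext fun h => ?_)
  let Q := K ⧸ N
  have hcommQ : ∀ a b : Q, a * b = b * a := quot_comm _ S.ab
  let φ : Q →* Q := QuotientGroup.map N N (MulAut.conjNormal b : K ≃* K).toMonoidHom
    (fun n hn => S.inv b n hn)
  let δ : Q →* Q := MonoidHom.mk' (fun q => φ q * q⁻¹) fun a c => by
    rw [map_mul, mul_inv_rev, mul_assoc, ← mul_assoc (φ c), hcommQ (φ c * c⁻¹) a⁻¹, ← mul_assoc]
  have hδ : Function.Injective δ := by
    refine (injective_iff_map_eq_one δ).2 fun q hq => ?_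
    induction q using QuotientGroup.induction_on with | _ a =>
    exact (QuotientGroup.eq_one_iff a).2 (S.free b hbK a ((QuotientGroup.eq_one_iff _).1 hq))
  obtain ⟨q, hq⟩ := (Finite.injective_iff_surjective.1 hδ) (h : Q)
  induction q using QuotientGroup.induction_on with | _ a =>
  have h6 := hl _ (QuotientGroup.eq.1 (hq : (((MulAut.conjNormal b) a * a⁻¹ : K) : Q) = (h : Q)))
  have h7 : l ((MulAut.conjNormal b) a) = l a := by
    refine Units.ext ?_
    exact congrFun ((CharInduce.mem_inertia K).1 hb) a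
  rw [map_mul, map_inv, map_mul, map_inv] at h6
  change (l ((MulAut.conjNormal b) a) * (l a)⁻¹)⁻¹ * l h = 1 at h6
  rw [h7, mul_inv_cancel, inv_one, one_mul] at h6
  simpa using h6

theorem linInd_irr {χ : Γ → ℂ} (hχ : χ ∈ linInd K N) : Cfsg.IsIrrCharacter Γ χ := by
  obtain ⟨l, hl, hl1, rfl⟩ := hχ
  refine CharInduce.isIrr_of_norm_one (CharInduce.IsChar.ind K (CharInduce.isCharacter_hom l)) ?_
  rw [PF1.classInner_indFun_self K (CharInduce.isIrrCharacter_hom l), inertia_eq S hl hl1,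
    inv_mul_cancel₀ (Nat.cast_ne_zero.2 Nat.card_pos.ne')]

omit S hKn [Fintype K] in
theorem linInd_one {χ : Γ → ℂ} (hχ : χ ∈ linInd K N) : χ 1 = (K.index : ℂ) := by
  obtain ⟨l, -, -, rfl⟩ := hχ
  simp [CharInduce.indFun_one]

omit S [Fintype K] in
theorem linInd_eq_zero {χ : Γ → ℂ} (hχ : χ ∈ linInd K N) {g : Γ} (hg : g ∉ K) : χ g = 0 := by
  obtain ⟨l, -, -, rfl⟩ := hχ
  exact CharInduce.indFun_eq_zero_of_normal K _ hg

omit [Fintype K] in
theorem linInd_mul_mem {χ : Γ → ℂ} (hχ : χ ∈ linInd K N) (g : K) {n : K} (hn : n ∈ N) :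
    χ (((g * n : K) : Γ)) = χ (g : Γ) := by
  obtain ⟨l, hl, -, rfl⟩ := hχ
  rw [CharInduce.indFun_normal_coe, CharInduce.indFun_normal_coe]
  refine congrArg _ (Finset.sum_congr rfl fun x _ => ?_)
  have h1 : ∀ y : K, CharInduce.conjFun K (fun k => (l k : ℂ)) x y =
      (l (MulAut.conjNormal x y) : ℂ) := fun y => by
    simp only [CharInduce.conjFun]
    congr 2
  rw [h1, h1, map_mul, map_mul, hl _ (S.inv x n hn), mul_one]

omit [Fintype K] in
theorem linInd_apply_mem {χ : Γ → ℂ} (hχ : χ ∈ linInd K N) {n : K} (hn : n ∈ N) :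
    χ (n : Γ) = (K.index : ℂ) := by
  have h := linInd_mul_mem S hχ 1 hn
  rw [one_mul, OneMemClass.coe_one, linInd_one hχ] at h
  exact h

omit S in
/-- Pairing an invariant function on `K` with an induced character. -/
theorem sum_mul_conj_ind {F : K → ℂ} (hF : ∀ (g : Γ) (k : K), F (MulAut.conjNormal g k) = F k)
    (l : K →* ℂˣ) :
    ∑ k : K, F k * conj (indFun K (fun a => (l a : ℂ)) (k : Γ)) =
      (K.index : ℂ) * ∑ k : K, F k * conj (l k : ℂ) := by
  simp only [CharInduce.indFun_normal_coe, map_mul, map_inv₀, map_natCast, map_sum, Finset.mul_sum]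
  rw [Finset.sum_comm]
  have : ∀ x : Γ, ∑ k : K, F k * ((Nat.card K : ℂ)⁻¹ *
      conj (CharInduce.conjFun K (fun a => (l a : ℂ)) x k)) =
      (Nat.card K : ℂ)⁻¹ * ∑ k : K, F k * conj (l k : ℂ) := by
    intro x
    rw [Finset.mul_sum]
    refine Fintype.sum_equiv (MulAut.conjNormal x).toEquiv _ _ fun k => ?_
    simp only [MulEquiv.toEquiv_eq_coe, EquivLike.coe_coe, hF]
    rw [CharInduce.conjFun_eq_comp]
    simp only [MulEquiv.toMonoidHom_eq_coe, MonoidHom.coe_coe]
    ring
  rw [Finset.sum_congr rfl fun x _ => this x, Finset.sum_const, Finset.card_univ, nsmul_eq_mul,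
    ← Nat.card_eq_fintype_card, ← K.card_mul_index, Nat.cast_mul, ← Finset.mul_sum]
  have := CharInduce.card_ne_zero_complex K
  field_simp

omit S in
theorem linInd_sum {χ : Γ → ℂ} (hχ : χ ∈ linInd K N) : ∑ k : K, χ (k : Γ) = 0 := by
  obtain ⟨l, -, hl1, rfl⟩ := hχ
  have h := sum_mul_conj_ind (F := fun _ : K => (1 : ℂ)) (fun _ _ => rfl) l
  simp only [one_mul, ← map_sum] at h
  have h0 : ∑ k : K, (l k : ℂ) = 0 := by
    obtain ⟨a, ha⟩ := DFunLike.ne_iff.1 hl1
    have : (l a : ℂ) * ∑ k : K, (l k : ℂ) = ∑ k : K, (l k : ℂ) := by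
      rw [Finset.mul_sum]
      exact Fintype.sum_equiv (Equiv.mulLeft a) _ _ fun k => by simp
    by_contra h0
    exact ha (Units.ext (mul_right_cancel₀ h0 (this.trans (one_mul _).symm)))
  rw [h0, map_zero, mul_zero] at h
  simpa [map_sum] using congrArg conj h

theorem linInd_norm {χ : Γ → ℂ} (hχ : χ ∈ linInd K N) :
    ∑ k : K, ‖χ (k : Γ)‖ ^ 2 = (Nat.card Γ : ℝ) := by
  classical
  have h := classInner_irr_self (linInd_irr S hχ)
  rw [classInner_self_eq, Complex.ofReal_eq_one,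
    inv_mul_eq_one₀ (Nat.cast_ne_zero.2 Nat.card_pos.ne')] at h
  rw [h]
  refine (Finset.sum_bij_ne_zero (f := fun g : Γ => ‖χ g‖ ^ 2)
    (g := fun k : K => ‖χ (k : Γ)‖ ^ 2) (fun g _ hg => (⟨g, by_contra fun hgK => hg (by
      rw [linInd_eq_zero hχ hgK, norm_zero, zero_pow two_ne_zero])⟩ : K)) (fun _ _ _ => Finset.mem_univ _)
    (fun a _ _ b _ _ e => congrArg Subtype.val e) (fun k _ hk => ⟨(k : Γ), Finset.mem_univ _, hk, rfl⟩)
    fun _ _ _ => rfl).symm

omit [Fintype K] in
theorem linInd_finite : (linInd K N).Finite := by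
  cases nonempty_fintype K
  exact (Set.finite_range (fun χ : Cfsg.IrrCharacter Γ => (χ : Γ → ℂ))
    (ι := Cfsg.IrrCharacter Γ)).subset fun χ hχ => ⟨⟨χ, linInd_irr S hχ⟩, rfl⟩

omit S hKn [Fintype K] in
theorem linInd_closed (σ : ℂ ≃+* ℂ) {χ : Γ → ℂ} (hχ : χ ∈ linInd K N) :
    (fun g => σ (χ g)) ∈ linInd K N := by
  obtain ⟨l, hl, hl1, rfl⟩ := hχ
  refine ⟨(Units.map σ.toRingHom.toMonoidHom).comp l, fun x hx => by simp [hl x hx], fun e => hl1 ?_,
    ?_⟩
  · refine MonoidHom.ext fun k => Units.ext (σ.injective ?_)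
    have h := congrArg (fun u : ℂˣ => (u : ℂ)) (DFunLike.congr_fun e k)
    simpa using h
  · funext g
    simp only [CharInduce.indFun_apply, map_mul, map_inv₀, map_natCast, map_sum]
    refine congrArg _ (Finset.sum_congr rfl fun x _ => ?_)
    by_cases hx : x⁻¹ * g * x ∈ K
    · rw [CharInduce.extendByZero_of_mem _ hx, CharInduce.extendByZero_of_mem _ hx]
      rfl
    · rw [CharInduce.extendByZero_of_not_mem _ hx, CharInduce.extendByZero_of_not_mem _ hx, map_zero]

omit [Fintype K] in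
/-- There are at least `([K:N] - 1)/[Γ:K]` of them. -/
theorem index_le_card_linInd : N.index ≤ Nat.card (linInd K N) * K.index + 1 := by
  classical
  cases nonempty_fintype K
  have := normal_of_free S
  have : Finite (linInd K N) := (linInd_finite S).to_subtype
  cases nonempty_fintype (linInd K N)
  have : Finite {l : K →* ℂˣ // ∀ x ∈ N, l x = 1} := Nat.finite_of_card_ne_zero (by
    rw [card_homs_trivial N S.ab]; exact Subgroup.index_ne_zero_of_finite)
  cases nonempty_fintype {l : K →* ℂˣ // ∀ x ∈ N, l x = 1}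
  rw [← card_homs_trivial N S.ab, Nat.card_eq_fintype_card, Nat.card_eq_fintype_card]
  let one : {l : K →* ℂˣ // ∀ x ∈ N, l x = 1} := ⟨1, fun _ _ => rfl⟩
  rw [← Finset.card_univ, ← Finset.card_erase_add_one (Finset.mem_univ one)]
  refine Nat.add_le_add_right ?_ 1
  let f : {l : K →* ℂˣ // ∀ x ∈ N, l x = 1} → Γ → ℂ := fun l => indFun K (fun k => (l.1 k : ℂ))
  have h1 := Finset.card_le_mul_card_image_of_maps_to (s := Finset.univ.erase one) (f := f)
    (t := (linInd_finite S).toFinset) (fun l hl => by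
      rw [Set.Finite.mem_toFinset]
      exact ⟨l.1, l.2, fun e => Finset.ne_of_mem_erase hl (Subtype.ext e), rfl⟩) K.index (by
      intro χ _
      by_cases hne : ((Finset.univ.erase one).filter fun l => f l = χ).Nonempty
      · obtain ⟨l₀, hl₀⟩ := hne
        obtain ⟨hl₀e, hl₀χ⟩ := Finset.mem_filter.1 hl₀
        let c : Γ ⧸ K → (K → ℂ) := fun q =>
          CharInduce.conjFun K (fun k => (l₀.1 k : ℂ)) q.out⁻¹
        refine le_trans (Finset.card_le_card_of_injOn (t := Finset.univ.image c)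
          (fun l k => (l.1 k : ℂ)) ?_ fun a _ b _ e => Subtype.ext (MonoidHom.ext fun k =>
            Units.ext (congrFun e k))) (Finset.card_image_le.trans (le_of_eq ?_))
        · intro l hl
          obtain ⟨-, hlχ⟩ := Finset.mem_filter.1 hl
          obtain ⟨x, hx⟩ := PF6.exists_conj_of_indFun_eq K (CharInduce.isIrrCharacter_hom l₀.1)
            (CharInduce.isIrrCharacter_hom l.1) (hl₀χ.trans hlχ.symm)
          refine Finset.mem_image.2 ⟨((x⁻¹ : Γ) : Γ ⧸ K), Finset.mem_univ _, ?_⟩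
          show c _ = fun k => (l.1 k : ℂ)
          rw [hx]
          refine (CharInduce.conjFun_eq_iff K _ _ _).2 (CharInduce.le_inertia K
            (IsIrr.isClassFunction (CharInduce.isIrrCharacter_hom l₀.1)) ?_)
          have h := QuotientGroup.mk_out_eq_mul K x⁻¹
          obtain ⟨k, hk⟩ := h
          rw [hk, mul_inv_rev, inv_inv]
          have := hKn.conj_mem _ (inv_mem k.2) 1
          simp
        · rw [Finset.card_univ, ← Nat.card_eq_fintype_card]
          rfl
      · rw [Finset.not_nonempty_iff_eq_empty.1 hne]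
        simp)
  rw [mul_comm] at h1
  refine h1.trans (le_of_eq ?_)
  rw [Set.Finite.card_toFinset]

end Cfsg.Agent.OddOrder.PF12
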