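import Cfsg.Agent.Coprime.Basic
import Cfsg.Agent.OddOrder.PF12.Family
import Cfsg.Agent.OddOrder.PF12.LinInd

/-!
# Peterfalvi (12.7): the configuration and the inducing family on the side of `M`

`L` is of Type I with kernel `H`, `x ∈ L` of prime order `p` outside `H` centralises a non-identity
element of `H`, and `x` lies in the core `K` of the maximal subgroup `M`, which does not contain its
centraliser.  `N` is normal in `M` with `K/N` abelian and acted on freely by `M/K`.
-/

set_option autoImplicit false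

open scoped ComplexConjugate

namespace Cfsg.Agent.OddOrder.PF12

open Subgroup
open Cfsg.Agent Cfsg.Agent.CharBasic

universe u

variable {G : Type u} [Group G]

/-- The facts about `L`, `M`, `K` and `N` used in the character argument. -/
structure Setting (p : ℕ) (L M H K N : Subgroup G) (AL : Set G) (RL RM : G → Subgroup G) (x : G) :
    Prop where
  prime : p.Prime
  odd : Odd (Nat.card G)
  dadeM : Cfsg.DadeHypothesis ((K : Set G) \ {1}) M RM
  dadeL : Cfsg.DadeHypothesis AL L RL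
  H_sub : ∀ h ∈ H, h ≠ 1 → h ∈ AL
  memAL : ∀ g ∈ L, g ∉ H → ∀ h ∈ H, h ≠ 1 → Commute h g → g ∈ AL
  RL_bot : ∀ g ∈ AL, g ∉ H → RL g = ⊥
  RM_mem : ∀ y ∈ L ⊓ K, y ≠ 1 → ∀ r ∈ H, Commute r y → r ∈ RM y
  RM_x : RM x ≤ H
  disj : Disjoint (H43.dadeSupp ((K : Set G) \ {1}) RM) (H43.dadeSupp ((H : Set G) \ {1}) RL)
  KM : K ≤ M
  Kn : M ≤ normalizer (K : Set G)
  HL : H ≤ L
  Hn : L ≤ normalizer (H : Set G)
  compl_inf : H ⊓ (M ⊓ L) = ⊥
  compl_mul : ∀ g ∈ L, ∃ h ∈ H, ∃ u ∈ M ⊓ L, g = h * u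
  cop : (Nat.card H).Coprime (Nat.card ↥(M ⊓ L))
  UK_comm : ∀ a ∈ L ⊓ K, ∀ b ∈ L ⊓ K, a * b = b * a
  x_mem : x ∈ L ⊓ K
  x_pow : x ^ p = 1
  x_ne : x ≠ 1
  x_cent : centralizer ({x} : Set G) ≤ L
  x_fix : ∃ h ∈ H, Commute h x ∧ h ∉ ⁅H, H⁆
  no_fix : ∀ H₁ : Subgroup G, H₁ ≤ H → H₁ ≠ H → H ≤ normalizer (H₁ : Set G) →
    L ⊓ K ≤ normalizer (H₁ : Set G) →
      ∃ a ∈ L ⊓ K, a ^ p = 1 ∧ ∃ h ∈ H, a * h * a⁻¹ * h⁻¹ ∉ H₁
  NK : N ≤ K
  Nn : M ≤ normalizer (N : Set G)
  Nab : ∀ a ∈ K, ∀ b ∈ K, a * b * a⁻¹ * b⁻¹ ∈ N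
  free : ∀ b ∈ M, b ∉ K → ∀ k ∈ K, b * k * b⁻¹ * k⁻¹ ∈ N → k ∈ N
  e_ge : 3 ≤ K.relIndex M
  e_le : 2 * K.relIndex M ≤ p + 1
  idx : p ^ 2 ≤ N.relIndex K

variable {p : ℕ} {L M H K N : Subgroup G} {AL : Set G} {RL RM : G → Subgroup G} {x : G}

/-- `N` as a subgroup of `K` seen inside `M`. -/
abbrev inner (M K N : Subgroup G) : Subgroup ↥(K.subgroupOf M) :=
  N.comap (M.subtype.comp (K.subgroupOf M).subtype)

theorem mem_inner {M K N : Subgroup G} {k : ↥(K.subgroupOf M)} :
    k ∈ inner M K N ↔ ((k : M) : G) ∈ N := Iff.rfl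

variable (S : Setting p L M H K N AL RL RM x)
include S

theorem Setting.p_ge : 5 ≤ p := by
  have := S.e_ge
  have := S.e_le
  omega

theorem Setting.K_normal : (K.subgroupOf M).Normal :=
  (normal_subgroupOf_iff_le_normalizer S.KM).2 S.Kn

theorem Setting.freeSection :
    letI := S.K_normal
    FreeSection (K.subgroupOf M) (inner M K N) := by
  let := S.K_normal
  refine ⟨fun a b => ?_, fun g n hn => ?_, fun b hb k hk => ?_⟩
  · exact S.Nab _ a.2 _ b.2
  · exact Coprime.conj_mem (S.Nn g.2) hn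
  · exact S.free b b.2 hb _ k.2 hk

theorem Setting.index_inner : (inner M K N).index = N.relIndex K := by
  let e := Subgroup.subgroupOfEquivOfLe S.KM
  rw [Subgroup.relIndex, ← index_comap_of_surjective (N.subgroupOf K) (f := e.toMonoidHom) e.surjective]
  rfl

variable [Finite G]

omit [Finite G] in
theorem Setting.e_mul : Nat.card K * K.relIndex M = Nat.card M := by
  have h := relIndex_mul_relIndex ⊥ K M bot_le S.KM
  rwa [relIndex_bot_left, relIndex_bot_left] at h

/-- The index of `H(L ∩ K)` in `L`. -/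
noncomputable def Setting.eL (_S : Setting p L M H K N AL RL RM x) : ℕ := (L ⊓ K).relIndex (M ⊓ L)

omit [Finite G] in
theorem Setting.eL_le : S.eL ≤ K.relIndex M := by
  have hle : L ⊓ K ≤ M ⊓ L := le_inf (inf_le_right.trans S.KM) inf_le_left
  have h1 : (L ⊓ K).relIndex (M ⊓ L) = K.relIndex (M ⊓ L) := by
    rw [← inf_relIndex_right (H := K)]
    congr 1
    exact le_antisymm (le_inf inf_le_right hle) (le_inf (inf_le_right.trans inf_le_right) inf_le_left)
  rw [Setting.eL, h1]
  exact relIndex_le_of_le_right inf_le_left (fun h0 => by have := S.e_ge; omega)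

/-- The induced family on the side of `M` with its signed irreducible images. -/
structure FamilyData [Fintype G] [Fintype M] [(K.subgroupOf M).Normal] {n : ℕ}
    (_S : Setting p L M H K N AL RL RM x) (χ : Fin n → M → ℂ) (ψ : Fin n → G → ℂ) : Prop where
  fam : DadeFamily ((K : Set G) \ {1}) M RM χ ψ
  inj : Function.Injective χ
  mem : ∀ i, χ i ∈ linInd (K.subgroupOf M) (inner M K N)
  surj : ∀ f ∈ linInd (K.subgroupOf M) (inner M K N), ∃ i, χ i = f
  closed : ∀ (σ : ℂ ≃+* ℂ) i, ∃ j, χ j = fun a => σ (χ i a)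
  n_gt : 2 * _S.eL < n
  n_ge : 3 ≤ n

/-- The induced family on the side of `M` with its signed irreducible images. -/
theorem Setting.exists_family [Fintype G] [Fintype M] :
    letI := S.K_normal
    ∃ (n : ℕ) (χ : Fin n → M → ℂ) (ψ : Fin n → G → ℂ), FamilyData S χ ψ := by
  classical
  let := S.K_normal
  have hfin := linInd_finite S.freeSection
  have : Finite (linInd (K.subgroupOf M) (inner M K N)) := hfin.to_subtype
  let n := Nat.card (linInd (K.subgroupOf M) (inner M K N))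
  let e := Finite.equivFin (linInd (K.subgroupOf M) (inner M K N))
  have hn : 2 * K.relIndex M < n := by
    have h := index_le_card_linInd S.freeSection
    rw [S.index_inner, show (K.subgroupOf M).index = K.relIndex M from rfl] at h
    have h2 := S.idx
    have h3 := S.e_le
    have h4 := S.p_ge
    show _ < Nat.card _
    by_contra hlt
    push Not at hlt
    have h5 := Nat.mul_le_mul_right (K.relIndex M) hlt
    nlinarith
  let χ : Fin n → M → ℂ := fun i => (e.symm i : M → ℂ)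
  have hinj : Function.Injective χ := fun a b h => e.symm.injective (Subtype.ext h)
  have hne : Nonempty (Fin n) := ⟨⟨0, by omega⟩⟩
  obtain ⟨ψ, hψ⟩ := exists_dadeFamily S.dadeM (χ := χ)
    (fun i => linInd_irr S.freeSection (e.symm i).2) hinj (fun i j a ha => by
      simp only [Set.mem_sdiff, Set.mem_singleton_iff, not_and, not_not, SetLike.mem_coe] at ha
      by_cases h1 : (a : G) ∈ K
      · have : a = 1 := Subtype.ext (ha h1)
        rw [this]
        exact (linInd_one (e.symm i).2).trans (linInd_one (e.symm j).2).symm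
      · exact (linInd_eq_zero (e.symm i).2 (fun h => h1 h)).trans
          (linInd_eq_zero (e.symm j).2 (fun h => h1 h)).symm)
  refine ⟨n, χ, ψ, hψ, hinj, fun i => (e.symm i).2,
    fun f hf => ⟨e ⟨f, hf⟩, congrArg Subtype.val (e.symm_apply_apply _)⟩, fun σ i => ?_, ?_, ?_⟩
  · exact ⟨e ⟨_, linInd_closed σ (e.symm i).2⟩, congrArg Subtype.val (e.symm_apply_apply _)⟩
  · have := S.eL_le
    omega
  · have := S.e_ge
    omega

omit [Finite G] in
theorem Setting.card_ML : Nat.card ↥(L ⊓ K) * S.eL = Nat.card ↥(M ⊓ L) := by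
  have h := relIndex_mul_relIndex ⊥ (L ⊓ K) (M ⊓ L) bot_le
    (le_inf (inf_le_right.trans S.KM) inf_le_left)
  rwa [relIndex_bot_left, relIndex_bot_left] at h

end Cfsg.Agent.OddOrder.PF12
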