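import Mathlib
import Cfsg.Agent.CharBasic.Kernel
import Cfsg.Agent.CharInduce.Ops
import Cfsg.Agent.H43.CoprimeAverage
import Cfsg.Agent.H43.Galois

/-!
# Congruences modulo `p` between character values

`CongP p a b`: `a - b` is an algebraic integer of which some power is a multiple of `p`.
-/

set_option autoImplicit false

open scoped ComplexConjugate

namespace Cfsg.Agent.OddOrder.PF12

open Cfsg.Agent

/-- The ring of algebraic integers. -/
abbrev AlgInt : Type := integralClosure ℤ ℂ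

/-- The radical of `(p)` in the algebraic integers. -/
noncomputable def pRad (p : ℕ) : Ideal AlgInt := (Ideal.span {(p : AlgInt)}).radical

/-- `a ≡ b` modulo the radical of `p`. -/
def CongP (p : ℕ) (a b : ℂ) : Prop := ∃ d ∈ pRad p, ((d : AlgInt) : ℂ) = a - b

namespace CongP

variable {p : ℕ} {a b c d : ℂ}

theorem refl (p : ℕ) (a : ℂ) : CongP p a a := ⟨0, Ideal.zero_mem _, by simp⟩

theorem symm (h : CongP p a b) : CongP p b a := by
  obtain ⟨e, he, h⟩ := h
  exact ⟨-e, neg_mem he, by push_cast; rw [h]; ring⟩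

theorem trans (h : CongP p a b) (h' : CongP p b c) : CongP p a c := by
  obtain ⟨e, he, h⟩ := h
  obtain ⟨f, hf, h'⟩ := h'
  exact ⟨e + f, add_mem he hf, by push_cast; rw [h, h']; ring⟩

theorem add (h : CongP p a b) (h' : CongP p c d) : CongP p (a + c) (b + d) := by
  obtain ⟨e, he, h⟩ := h
  obtain ⟨f, hf, h'⟩ := h'
  exact ⟨e + f, add_mem he hf, by push_cast; rw [h, h']; ring⟩

theorem sub (h : CongP p a b) (h' : CongP p c d) : CongP p (a - c) (b - d) := by
  obtain ⟨e, he, h⟩ := h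
  obtain ⟨f, hf, h'⟩ := h'
  exact ⟨e - f, sub_mem he hf, by push_cast; rw [h, h']; ring⟩

theorem sum {ι : Type*} (s : Finset ι) (f g : ι → ℂ) (h : ∀ i ∈ s, CongP p (f i) (g i)) :
    CongP p (∑ i ∈ s, f i) (∑ i ∈ s, g i) := by
  classical
  induction s using Finset.induction_on with
  | empty => simpa using refl p 0
  | insert i s hi ih =>
    rw [Finset.sum_insert hi, Finset.sum_insert hi]
    exact (h i (Finset.mem_insert_self i s)).add (ih fun j hj => h j (Finset.mem_insert_of_mem hj))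

theorem mul_left (hc : IsIntegral ℤ c) (h : CongP p a b) : CongP p (c * a) (c * b) := by
  obtain ⟨e, he, h⟩ := h
  exact ⟨⟨c, hc⟩ * e, Ideal.mul_mem_left _ _ he, by push_cast; rw [h]; ring⟩

theorem nat_mul {w : ℂ} (hw : IsIntegral ℤ w) : CongP p (p * w) 0 := by
  refine ⟨(p : AlgInt) * ⟨w, hw⟩, Ideal.le_radical (Ideal.mul_mem_right _ _
    (Ideal.mem_span_singleton_self _)), ?_⟩
  push_cast
  ring

/-- Congruent integers are congruent modulo `p`. -/
theorem int_dvd [hp : Fact p.Prime] {m n : ℤ} (h : CongP p m n) : (p : ℤ) ∣ m - n := by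
  obtain ⟨e, he, h⟩ := h
  obtain ⟨k, hk⟩ := he
  obtain ⟨w, hw⟩ := Ideal.mem_span_singleton.1 hk
  have hw' : (((m - n) ^ k : ℤ) : ℂ) = (p : ℂ) * (w : ℂ) := by
    have := congrArg (fun z : AlgInt => (z : ℂ)) hw
    push_cast at this
    rw [h] at this
    push_cast
    exact this
  have hp0 : (p : ℂ) ≠ 0 := Nat.cast_ne_zero.mpr hp.out.ne_zero
  obtain ⟨l, hl⟩ := H43.int_of_rat_integral w.2 (q := (((m - n) ^ k : ℤ) : ℚ) / p) (by
    rw [Rat.cast_div, Rat.cast_intCast, Rat.cast_natCast, hw']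
    field_simp)
  have h2 : ((m - n) ^ k : ℤ) = p * l := by
    rw [hl] at hw'
    exact_mod_cast hw'
  exact (Nat.prime_iff_prime_int.mp hp.out).dvd_of_dvd_pow ⟨l, h2⟩

theorem not_zero_one [hp : Fact p.Prime] : ¬ CongP p (0 : ℂ) 1 := fun h => by
  have h1 := int_dvd (p := p) (m := 0) (n := 1) (by simpa using h)
  have h2 : (p : ℤ) ∣ 1 := by simpa using h1
  exact hp.out.one_lt.ne' (Nat.dvd_one.1 (by exact_mod_cast h2))

end CongP

/-! ### Values of characters -/

variable {G : Type*} [Group G] [Finite G] {p : ℕ} [hp : Fact p.Prime]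

omit [Finite G] in
theorem root_congP {z : ℂ} {k : ℕ} (hz : z ^ p ^ k = 1) : CongP p z 1 := by
  have hzi : IsIntegral ℤ z := IsIntegral.of_pow (pow_pos hp.out.pos k) (hz ▸ isIntegral_one)
  refine ⟨⟨z, hzi⟩ - 1, ⟨p ^ k, ?_⟩, by push_cast; ring⟩
  obtain ⟨r, hr⟩ := exists_add_pow_prime_pow_eq hp.out (⟨z, hzi⟩ - 1 : AlgInt) 1 k
  rw [sub_add_cancel, one_pow, show (⟨z, hzi⟩ : AlgInt) ^ p ^ k = 1 from
    Subtype.ext (by simpa using hz)] at hr
  refine Ideal.mem_span_singleton.2 ⟨-((⟨z, hzi⟩ - 1) * 1 * r), ?_⟩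
  linear_combination -hr

/-- A virtual character takes congruent values at `x * y` and `y`, for a `p`-element `x`
commuting with `y`. -/
theorem congP_mul {χ : G → ℂ} (hχ : Cfsg.IsGeneralizedCharacter G χ) {x y : G} {k : ℕ}
    (hx : x ^ p ^ k = 1) (hxy : x * y = y * x) : CongP p (χ (x * y)) (χ y) := by
  classical
  let A : Subgroup G := Subgroup.closure {x, y}
  have hA : IsMulCommutative A := by
    refine Subgroup.isMulCommutative_closure ?_
    rintro a (rfl | rfl) b (rfl | rfl)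
    · rfl
    · exact hxy
    · exact hxy.symm
    · rfl
  let X : A := ⟨x, Subgroup.subset_closure (Or.inl rfl)⟩
  let Y : A := ⟨y, Subgroup.subset_closure (Or.inr rfl)⟩
  have hXp : X ^ p ^ k = 1 := Subtype.ext hx
  have hAc : ∀ a b : A, a * b = b * a := fun a b => mul_comm' a b
  have key : ∀ φ : A → ℂ, Cfsg.IsCharacter A φ → CongP p (φ (X * Y)) (φ Y) := by
    intro φ hφ
    refine CharBasic.IsChar.induction_on (p := fun φ : A → ℂ => CongP p (φ (X * Y)) (φ Y)) hφ
      (CongP.refl p _) ?_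
    intro φ ψ hφ _ hψ
    obtain ⟨l, hl⟩ := CharInduce.IsChar.exists_hom_of_degree_one
      (CharBasic.IsIrr.isCharacter hφ)
      (CharBasic.commutative_iff_forall_linear.mp hAc ⟨φ, hφ⟩)
    refine CongP.add ?_ hψ
    rw [hl, hl, map_mul, Units.val_mul, mul_comm]
    simpa using (root_congP (p := p) (z := (l X : ℂ)) (k := k) (by
      rw [← Units.val_pow_eq_pow_val, ← map_pow, hXp, map_one, Units.val_one])).mul_left
      (c := (l Y : ℂ)) (by
        have := CharBasic.IsChar.isIntegral (CharBasic.IsIrr.isCharacter hφ) Y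
        rwa [hl] at this)
  obtain ⟨a, b, ha, hb, rfl⟩ := hχ
  exact (key _ (CharInduce.IsChar.res ha A)).sub (key _ (CharInduce.IsChar.res hb A))

theorem congP_of_pow {χ : G → ℂ} (hχ : Cfsg.IsGeneralizedCharacter G χ) {x : G} {k : ℕ}
    (hx : x ^ p ^ k = 1) : CongP p (χ x) (χ 1) := by
  simpa using congP_mul hχ (y := 1) hx (by simp)

omit hp in
theorem gen_isIntegral {χ : G → ℂ} (hχ : Cfsg.IsGeneralizedCharacter G χ) (g : G) :
    IsIntegral ℤ (χ g) := by
  obtain ⟨a, b, ha, hb, rfl⟩ := hχ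
  exact (CharBasic.IsChar.isIntegral ha g).sub (CharBasic.IsChar.isIntegral hb g)

omit hp in
/-- The average of a virtual character over a coset of a normalised subgroup is an algebraic
integer. -/
theorem avg_isIntegral {χ : G → ℂ} (hχ : Cfsg.IsGeneralizedCharacter G χ) (R : Subgroup G) (g : G)
    (hg : g ∈ Subgroup.normalizer (R : Set G)) :
    IsIntegral ℤ ((Nat.card R : ℂ)⁻¹ * ∑ᶠ u ∈ (R : Set G), χ (g * u)) := by
  classical
  cases nonempty_fintype G
  have key : ∀ θ : G → ℂ, Cfsg.IsCharacter G θ →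
      IsIntegral ℤ ((Nat.card R : ℂ)⁻¹ * ∑ k : R, θ ((k : G) * g)) := fun θ hθ =>
    CharBasic.IsChar.isIntegral (H43.isCharacter_avg hθ R (Subgroup.zpowers g) fun l hl k hk =>
      (Subgroup.mem_normalizer_iff.1 ((Subgroup.zpowers_le.2 hg) hl) k).1 hk)
      ⟨g, Subgroup.mem_zpowers g⟩
  obtain ⟨a, b, ha, hb, rfl⟩ := hχ
  suffices e : (Nat.card R : ℂ)⁻¹ * ∑ᶠ u ∈ (R : Set G), (a - b) (g * u) =
      (Nat.card R : ℂ)⁻¹ * ∑ k : R, a ((k : G) * g) - (Nat.card R : ℂ)⁻¹ * ∑ k : R, b ((k : G) * g) by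
    rw [e]
    exact (key a ha).sub (key b hb)
  rw [← mul_sub, ← Finset.sum_sub_distrib]
  congr 1
  rw [← finsum_set_coe_eq_finsum_mem, finsum_eq_sum_of_fintype]
  refine Fintype.sum_equiv
    ⟨fun u : R => (⟨g * u * g⁻¹, (Subgroup.mem_normalizer_iff.1 hg u).1 u.2⟩ : R),
     fun u : R => ⟨g⁻¹ * u * g, by
      simpa using (Subgroup.mem_normalizer_iff.1 (inv_mem hg) u).1 u.2⟩,
     fun u => by ext; simp [mul_assoc], fun u => by ext; simp [mul_assoc]⟩ _ _ fun u => ?_
  simp [Pi.sub_apply, mul_assoc]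

/-! ### Sums invariant under a permutation of `p`-power order -/

omit [Finite G] in
/-- An invariant sum differs from the sum over the fixed points by a multiple of `p`. -/
theorem exists_sum_eq_fixed {β M : Type*} [AddCommGroup M] [DecidableEq β] (σ : Equiv.Perm β)
    {k : ℕ} (hσ : σ ^ p ^ k = 1) (s : Finset β) (hs : ∀ i ∈ s, σ i ∈ s) (f : β → M)
    (hf : ∀ i ∈ s, f (σ i) = f i) :
    ∃ y : M, ∑ i ∈ s, f i = (∑ i ∈ s.filter (fun i => σ i = i), f i) + p • y := by
  classical
  let Γ := Subgroup.zpowers σ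
  induction s using Finset.strongInduction with
  | _ s ih =>
  by_cases hfix : ∀ i ∈ s, σ i = i
  · exact ⟨0, by rw [Finset.filter_true_of_mem hfix, smul_zero, add_zero]⟩
  push Not at hfix
  obtain ⟨i, hi, hne⟩ := hfix
  have hper : Function.IsPeriodicPt σ (p ^ k) i := by
    show σ^[p ^ k] i = i
    rw [← Equiv.Perm.coe_pow, hσ]
    rfl
  obtain ⟨j, -, hj⟩ := (Nat.dvd_prime_pow hp.out).1 hper.minimalPeriod_dvd
  let m := Function.minimalPeriod σ i
  let o : Finset β := (Finset.range m).image fun t => σ^[t] i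
  have hiter : ∀ t, σ^[t] i ∈ s ∧ f (σ^[t] i) = f i := by
    intro t
    induction t with
    | zero => exact ⟨hi, rfl⟩
    | succ t iht =>
      rw [Function.iterate_succ_apply']
      exact ⟨hs _ iht.1, (hf _ iht.1).trans iht.2⟩
  have ho : o ⊆ s := by
    intro b hb
    obtain ⟨t, -, rfl⟩ := Finset.mem_image.1 hb
    exact (hiter t).1
  have hmem : ∀ t, σ^[t] i ∈ o := fun t => Finset.mem_image.2
    ⟨t % m, Finset.mem_range.2 (Nat.mod_lt _ (hper.minimalPeriod_pos (pow_pos hp.out.pos k))),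
      Function.iterate_mod_minimalPeriod_eq⟩
  have hcard : o.card = m := by
    rw [Finset.card_image_of_injOn, Finset.card_range]
    rw [Finset.coe_range]
    exact Function.iterate_injOn_Iio_minimalPeriod
  have hm : p ∣ m := by
    rcases Nat.eq_zero_or_pos j with rfl | hj0
    · refine absurd ?_ hne
      exact Function.minimalPeriod_eq_one_iff_isFixedPt.1 (by simpa using hj)
    · show p ∣ Function.minimalPeriod σ i
      rw [hj]
      exact dvd_pow_self p hj0.ne'
  obtain ⟨q, hq⟩ := hm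
  have hs' : ∀ b ∈ s \ o, σ b ∈ s \ o := by
    intro b hb
    rw [Finset.mem_sdiff] at hb ⊢
    refine ⟨hs b hb.1, fun hbo => hb.2 ?_⟩
    obtain ⟨t, -, ht⟩ := Finset.mem_image.1 hbo
    have h1 : σ^[t + (p ^ k - 1)] i = b := by
      have hb' : σ^[p ^ k] b = b := by
        rw [← Equiv.Perm.coe_pow, hσ]; rfl
      rw [add_comm, Function.iterate_add_apply, ht, ← Function.iterate_succ_apply,
        show (p ^ k - 1).succ = p ^ k by have := pow_pos hp.out.pos k; omega, hb']
    exact h1 ▸ hmem _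
  obtain ⟨y, hy⟩ := ih (s \ o) (Finset.sdiff_ssubset ho ⟨i, by simpa using hmem 0⟩) hs'
    (fun b hb => hf b (Finset.mem_sdiff.1 hb).1)
  refine ⟨y + q • f i, ?_⟩
  rw [← Finset.sum_sdiff ho, hy, smul_add, smul_smul, ← hq, ← hcard]
  have hfil : (s \ o).filter (fun b => σ b = b) = s.filter (fun b => σ b = b) := by
    ext b
    simp only [Finset.mem_filter, Finset.mem_sdiff]
    refine ⟨fun h => ⟨h.1.1, h.2⟩, fun h => ⟨⟨h.1, fun hbo => ?_⟩, h.2⟩⟩
    obtain ⟨t, -, ht⟩ := Finset.mem_image.1 hbo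
    refine hne ?_
    have h2 : σ^[t] (σ i) = σ^[t] i := by
      rw [← Function.iterate_succ_apply, Function.iterate_succ_apply', ht, h.2]
    exact σ.injective.iterate t h2
  rw [hfil, add_assoc]
  congr 1
  rw [Finset.sum_congr rfl fun b hb => show f b = f i from ?_, Finset.sum_const]
  obtain ⟨t, -, rfl⟩ := Finset.mem_image.1 hb
  exact (hiter t).2

end Cfsg.Agent.OddOrder.PF12
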