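import Cfsg.Agent.OddOrder.PF12.Fourier
import Cfsg.Agent.OddOrder.PF1.Clifford
import Cfsg.Agent.H43.CoprimeAverage
import Cfsg.Agent.H43.Virtual
import Cfsg.Agent.CharBasic.Kernel
import Cfsg.Agent.S1496

/-!
# Class functions orthogonal to small virtual characters of `D = H ⋊ U`, `U` abelian
-/

set_option autoImplicit false

open scoped ComplexConjugate

namespace Cfsg.Agent.OddOrder.PF12

open Cfsg.Agent Cfsg.Agent.CharBasic

universe u

variable {D : Type u} [Group D] [Fintype D] (H : Subgroup D) [hHn : H.Normal] [Fintype H]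

/-- The test functions: small virtual characters living off the fixed-point-free elements, with
all coset sums zero. -/
structure IsTestFun (f : D → ℂ) : Prop where
  gen : Cfsg.IsGeneralizedCharacter D f
  norm_le : (Cfsg.classInner f f).re ≤ 2
  one : f 1 = 0
  vanish : ∀ g, g ∉ H → (∀ h ∈ H, Commute h g → h = 1) → f g = 0
  sums : ∀ g, ∑ h : H, f (g * h) = 0

omit [Fintype H] in
/-- Every element of a coset `yH` with `y` of order prime to `|H|` is conjugate under `H` to some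
`y * r` with `r ∈ C_H(y)`. -/
theorem exists_conj_coset {y g : D} (hcop : (orderOf y).Coprime (Nat.card H))
    (hg : y⁻¹ * g ∈ H) :
    ∃ h ∈ H, ∃ r ∈ H, Commute r y ∧ h * g * h⁻¹ = y * r := by
  have hk : y * (y⁻¹ * g) * y⁻¹ ∈ H := hHn.conj_mem _ hg y
  obtain ⟨h, hh, r, hr, hry, e⟩ :=
    Cfsg.Agent.S1496.result H y (by rw [Subgroup.normalizer_eq_top]; trivial) hcop _ hk
  rw [show y * (y⁻¹ * g) * y⁻¹ * y = g by group] at e
  exact ⟨h, hh, r, hr, hry, e.trans hry⟩

theorem sum_subgroup_eq_zero {χ : D → ℂ} (hχ : Cfsg.IsIrrCharacter D χ)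
    (hker : ∃ h ∈ H, χ h ≠ χ 1) : ∑ h : H, χ h = 0 := by
  classical
  by_contra hne
  obtain ⟨h, hh, hχh⟩ := hker
  have h1 : Cfsg.classInner (fun n : H => χ n) (fun _ => (1 : ℂ)) ≠ 0 := by
    rw [classInner_def]
    simp only [map_one, mul_one]
    exact mul_ne_zero (inv_ne_zero (Nat.cast_ne_zero.2 Nat.card_pos.ne')) hne
  have hcl := CharInduce.clifford H hχ isIrrCharacter_one h1
  have hone : ∀ ψ ∈ Finset.univ.image (CharInduce.conjFun H (fun _ => (1 : ℂ))),
      ψ = fun _ => (1 : ℂ) := by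
    intro ψ hψ
    obtain ⟨x, -, rfl⟩ := Finset.mem_image.1 hψ
    rfl
  have e1 := congrFun hcl ⟨h, hh⟩
  have e2 := congrFun hcl 1
  simp only [Pi.smul_apply, Finset.sum_apply] at e1 e2
  rw [Finset.sum_congr rfl fun ψ hψ => congrFun (hone ψ hψ) ⟨h, hh⟩] at e1
  rw [Finset.sum_congr rfl fun ψ hψ => congrFun (hone ψ hψ) 1] at e2
  exact hχh (e1.trans e2.symm)

theorem coset_sum_eq_zero {χ : D → ℂ} (hχ : Cfsg.IsIrrCharacter D χ)
    (hker : ∃ h ∈ H, χ h ≠ χ 1) (g : D) : ∑ h : H, χ (g * h) = 0 := by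
  classical
  have hav := H43.isCharacter_avg (IsIrr.isCharacter hχ) H ⊤
    (fun l _ k hk => hHn.conj_mem k hk l)
  have hz := CharInduce.IsChar.eq_zero_of_one_eq_zero hav (by
    simp only [OneMemClass.coe_one, mul_one]
    refine mul_eq_zero_of_right _ ?_
    convert sum_subgroup_eq_zero H hχ hker)
  have h := congrFun hz ⟨g, trivial⟩
  simp only [Pi.zero_apply, mul_eq_zero, inv_eq_zero, Nat.cast_eq_zero, Nat.card_pos.ne',
    false_or] at h
  convert h using 1
  refine Finset.sum_bij (fun k _ => MulAut.conjNormal g k) (fun k _ => by simp)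
    (fun k _ k' _ e => (MulAut.conjNormal g).injective e)
    (fun k _ => ⟨(MulAut.conjNormal g).symm k, by simp, by simp⟩) fun k _ => ?_
  simp [mul_assoc]

/-- An irreducible character not trivial on `H` vanishes where `C_H(g) = 1`. -/
theorem eq_zero_of_fixed_free {χ : D → ℂ} (hχ : Cfsg.IsIrrCharacter D χ)
    (hker : ∃ h ∈ H, χ h ≠ χ 1) {g : D} (hg : ∀ h ∈ H, Commute h g → h = 1) : χ g = 0 := by
  let f : H → H := fun h => ⟨g⁻¹ * h * g * (h : D)⁻¹,
    mul_mem (by simpa [mul_assoc] using hHn.conj_mem h h.2 g⁻¹) (inv_mem h.2)⟩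
  have hinj : Function.Injective f := by
    intro a b e
    have e' : g⁻¹ * a * g * (a : D)⁻¹ = g⁻¹ * b * g * (b : D)⁻¹ := congrArg Subtype.val e
    refine Subtype.ext ?_
    have h1 := hg ((b : D)⁻¹ * a) (mul_mem (inv_mem b.2) a.2) (by
      show (b : D)⁻¹ * a * g = g * ((b : D)⁻¹ * a)
      calc (b : D)⁻¹ * a * g = (b : D)⁻¹ * g * (g⁻¹ * a * g * (a : D)⁻¹) * a := by group
        _ = (b : D)⁻¹ * g * (g⁻¹ * b * g * (b : D)⁻¹) * a := by rw [e']
        _ = g * ((b : D)⁻¹ * a) := by group)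
    exact (inv_mul_eq_one.1 h1).symm
  have hconst : ∀ h : H, χ (g * (f h : D)) = χ g := by
    intro h
    rw [show g * (f h : D) = (h : D) * g * (h : D)⁻¹ by simp [f]; group]
    exact IsIrr.isClassFunction hχ g h
  have hs : ∑ h : H, χ (g * h) = ∑ h : H, χ g := by
    rw [← (Finite.injective_iff_bijective.1 hinj).sum_comp (fun h : H => χ (g * h))]
    exact Finset.sum_congr rfl fun h _ => hconst h
  rw [coset_sum_eq_zero H hχ hker g, Finset.sum_const, nsmul_eq_mul] at hs
  rcases mul_eq_zero.1 hs.symm with h | h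
  · simp at h
  · exact h

theorem classInner_sub_le_two {φ ψ : D → ℂ} (hφ : Cfsg.IsIrrCharacter D φ)
    (hψ : Cfsg.IsIrrCharacter D ψ) : (Cfsg.classInner (φ - ψ) (φ - ψ)).re ≤ 2 := by
  rcases eq_or_ne φ ψ with rfl | hne
  · simp
  · simp only [classInner_sub_left, classInner_sub_right, classInner_irr_self hφ,
      classInner_irr_self hψ, classInner_irr_of_ne hφ hψ hne, classInner_irr_of_ne hψ hφ hne.symm]
    norm_num

/-- A class function orthogonal to the test functions is constant on each non-trivial coset. -/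
theorem const_on_cosets (hab : ∀ a b : D, a * b * a⁻¹ * b⁻¹ ∈ H) {Ψ : D → ℂ}
    (hΨ : Cfsg.IsClassFunction D Ψ)
    (hperp : ∀ f, IsTestFun H f → Cfsg.classInner Ψ f = 0) {y : D} (hy : y ∉ H) {h : D}
    (hh : h ∈ H) : Ψ (y * h) = Ψ y := by
  classical
  have hmu : ∀ μ : D → ℂ, Cfsg.IsIrrCharacter D μ → (∃ h ∈ H, μ h ≠ μ 1) →
      ∑ x : H, Ψ (y * x) * conj (μ (y * x)) = 0 := by
    intro μ hμ hker
    have hC : ∀ l : D →* ℂˣ, (∀ x ∈ H, l x = 1) → l ≠ 1 →
        ∑ g, (Ψ g * conj (μ g)) * conj (l g : ℂ) = ∑ g, Ψ g * conj (μ g) := by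
      intro l hl _
      have hirr : Cfsg.IsIrrCharacter D (fun g => (l g : ℂ) * μ g) := by
        refine CharInduce.isIrr_of_norm_one
          (CharInduce.IsChar.mul (CharInduce.isCharacter_hom l) (IsIrr.isCharacter hμ)) ?_
        rw [← classInner_irr_self hμ, classInner_def, classInner_def]
        refine congrArg _ (Finset.sum_congr rfl fun g _ => ?_)
        rw [map_mul, H43.linear_conj, map_inv, Units.val_inv_eq_inv_val]
        field_simp
      have hf : IsTestFun H ((fun g => (l g : ℂ) * μ g) - μ) := by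
        refine ⟨H43.gen_sub (H43.gen_of_irr hirr) (H43.gen_of_irr hμ),
          classInner_sub_le_two hirr hμ, by simp, fun g _ hg => ?_, fun g => ?_⟩
        · simp [eq_zero_of_fixed_free H hμ hker hg]
        · simp only [Pi.sub_apply, map_mul, Units.val_mul]
          rw [Finset.sum_sub_distrib, coset_sum_eq_zero H hμ hker g, sub_zero,
            Finset.sum_congr rfl fun x _ => by rw [hl _ x.2, Units.val_one, mul_one],
            ← Finset.mul_sum, coset_sum_eq_zero H hμ hker g, mul_zero]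
      have h0 := hperp _ hf
      rw [classInner_def] at h0
      simp only [Pi.sub_apply, map_sub, mul_sub, map_mul, Finset.sum_sub_distrib, sub_eq_zero] at h0
      rw [← mul_left_cancel₀ (inv_ne_zero (Nat.cast_ne_zero.2 Nat.card_pos.ne')) h0]
      exact Finset.sum_congr rfl fun g _ => by ring
    have h := coset_sum_eq H hab (fun g => Ψ g * conj (μ g)) _ hC hy
    rw [sub_self, mul_eq_zero] at h
    exact h.resolve_left (Nat.cast_ne_zero.2 Subgroup.index_ne_zero_of_finite)
  let F : D → ℂ := fun g => if y⁻¹ * g ∈ H then Ψ g else 0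
  have hF : Cfsg.IsClassFunction D F := by
    intro g d
    have : y⁻¹ * (d * g * d⁻¹) ∈ H ↔ y⁻¹ * g ∈ H := by
      rw [show y⁻¹ * (d * g * d⁻¹) = y⁻¹ * g * (g⁻¹ * d * g * d⁻¹) by group]
      exact Subgroup.mul_mem_cancel_right _ (by simpa [mul_assoc] using hab g⁻¹ d)
    simp only [F, this, hΨ g d]
  have hexp := classFunction_expansion hF
  have hinv : ∀ g, F (g * h) = F g := by
    intro g
    rw [hexp]
    simp only [Finset.sum_apply, Pi.smul_apply]
    refine Finset.sum_congr rfl fun χ _ => ?_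
    by_cases hker : ∃ h' ∈ H, (χ : D → ℂ) h' ≠ (χ : D → ℂ) 1
    · have : Cfsg.classInner F (χ : D → ℂ) = 0 := by
        rw [classInner_def]
        refine mul_eq_zero_of_right _ ?_
        rw [← hmu χ χ.2 hker]
        simp only [F, ite_mul, zero_mul]
        rw [← Finset.sum_filter]
        refine (Finset.sum_bij (fun (x : H) _ => y * (x : D)) (fun x _ => by simp)
          (fun x _ z _ e => Subtype.ext (mul_left_cancel e)) (fun g hg => ?_) fun x _ => rfl).symm
        exact ⟨⟨y⁻¹ * g, (Finset.mem_filter.1 hg).2⟩, Finset.mem_univ _, by simp⟩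
      simp [this]
    · push Not at hker
      obtain ⟨N, -, hN, hmul⟩ := IsChar.exists_kernel (IsIrr.isCharacter χ.2)
      rw [hmul g h ((hN h).2 (hker h hh))]
  have h1 := hinv y
  simpa [F, hh] using h1

section Linear

variable (U : Subgroup D) (hHU : ∀ g, ∃ h ∈ H, ∃ u ∈ U, g = h * u) (hd : H ⊓ U = ⊥)
include hHU hd

omit [Fintype D] [Fintype H] in
/-- A linear character of `H` invariant under `C ⊇ H` extends to `C`. -/
theorem exists_extension {C : Subgroup D} (hHC : H ≤ C) (l : H →* ℂˣ)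
    (hl : ∀ c ∈ C, ∀ h : H, l ⟨c * h * c⁻¹, hHn.conj_mem h h.2 c⟩ = l h) :
    ∃ m : C →* ℂˣ, ∀ h : H, m ⟨h, hHC h.2⟩ = l h := by
  choose a ha b hb hab using hHU
  have huniq : ∀ {a₁ a₂ b₁ b₂ : D}, a₁ ∈ H → a₂ ∈ H → b₁ ∈ U → b₂ ∈ U → a₁ * b₁ = a₂ * b₂ →
      a₁ = a₂ := by
    intro a₁ a₂ b₁ b₂ h1 h2 h3 h4 e
    have : a₂⁻¹ * a₁ ∈ H ⊓ U := Subgroup.mem_inf.2 ⟨mul_mem (inv_mem h2) h1, by
      rw [show a₂⁻¹ * a₁ = a₂⁻¹ * (a₁ * b₁) * b₁⁻¹ by group, e, inv_mul_cancel_left]
      exact mul_mem h4 (inv_mem h3)⟩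
    rw [hd, Subgroup.mem_bot, inv_mul_eq_one] at this
    exact this.symm
  have hbC : ∀ c : C, b (c : D) ∈ C := fun c => by
    rw [show b (c : D) = (a (c : D))⁻¹ * c by rw [eq_inv_mul_iff_mul_eq]; exact (hab c).symm]
    exact C.mul_mem (C.inv_mem (hHC (ha c))) c.2
  refine ⟨MonoidHom.mk' (fun c => l ⟨a (c : D), ha c⟩) fun c c' => ?_, fun h => ?_⟩
  · show l ⟨a (c * c' : D), ha _⟩ = _
    have e := huniq (ha ((c : D) * c')) (mul_mem (ha c) (hHn.conj_mem _ (ha c') (b c)))
      (hb ((c : D) * c')) (mul_mem (hb c) (hb c')) (by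
        rw [← hab]
        conv_lhs => rw [hab (c : D), hab (c' : D)]
        group)
    rw [← hl (b c) (hbC c) ⟨a (c' : D), ha c'⟩, ← map_mul]
    exact congrArg l (Subtype.ext e)
  · refine congrArg l (Subtype.ext ?_)
    exact huniq (ha h) h.2 (hb h) U.one_mem (by rw [← hab, mul_one])

/-- A class function constant on the non-trivial cosets and orthogonal to the test functions has
equal Fourier coefficients along `H/H₁` when `D` acts on `H/H₁` semiregularly modulo a kernel. -/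
theorem fourier_eq (hab : ∀ a b : D, a * b * a⁻¹ * b⁻¹ ∈ H) {Ψ : D → ℂ}
    (hΨ : Cfsg.IsClassFunction D Ψ) (hperp : ∀ f, IsTestFun H f → Cfsg.classInner Ψ f = 0)
    (H₁ : Subgroup D) [H₁.Normal] (hab1 : ∀ a ∈ H, ∀ b ∈ H, a * b * a⁻¹ * b⁻¹ ∈ H₁)
    (hfree : ∀ d : D, ¬ (∀ h ∈ H, d * h * d⁻¹ * h⁻¹ ∈ H₁) →
      ∀ h ∈ H, d * h * d⁻¹ * h⁻¹ ∈ H₁ → h ∈ H₁)
    {l l' : H →* ℂˣ} (hl : ∀ h : H, (h : D) ∈ H₁ → l h = 1) (hl' : ∀ h : H, (h : D) ∈ H₁ → l' h = 1)
    (hl1 : l ≠ 1) (hl1' : l' ≠ 1) :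
    ∑ h : H, Ψ h * conj (l h : ℂ) = ∑ h : H, Ψ h * conj (l' h : ℂ) := by
  classical
  let C : Subgroup D :=
    { carrier := {d | ∀ h ∈ H, d * h * d⁻¹ * h⁻¹ ∈ H₁}
      one_mem' := fun h _ => by simp
      mul_mem' := fun {x y} hx hy h hh => by
        rw [show x * y * h * (x * y)⁻¹ * h⁻¹ =
          (x * (y * h * y⁻¹ * h⁻¹) * x⁻¹) * (x * h * x⁻¹ * h⁻¹) by group]
        exact mul_mem (Subgroup.Normal.conj_mem inferInstance _ (hy h hh) x) (hx h hh)
      inv_mem' := fun {x} hx h hh => by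
        have := hx _ (hHn.conj_mem h hh x⁻¹)
        have h2 := inv_mem this
        simpa [mul_assoc] using h2 }
  have hHC : H ≤ C := fun d hd h hh => hab1 d hd h hh
  have : C.Normal := ⟨fun c hc d => by
    rw [show d * c * d⁻¹ = d * c * d⁻¹ * c⁻¹ * c by group]
    exact mul_mem (hHC (hab d c)) hc⟩
  have hinvl : ∀ (k : H →* ℂˣ), (∀ h : H, (h : D) ∈ H₁ → k h = 1) → ∀ c ∈ C, ∀ h : H,
      k ⟨c * h * c⁻¹, hHn.conj_mem h h.2 c⟩ = k h := by
    intro k hk c hc h
    have h2 : (⟨c * h * c⁻¹, hHn.conj_mem h h.2 c⟩ : H) =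
        ⟨c * h * c⁻¹ * (h : D)⁻¹, mul_mem (hHn.conj_mem h h.2 c) (inv_mem h.2)⟩ * h :=
      Subtype.ext (by simp)
    rw [h2, map_mul, hk _ (hc h h.2), one_mul]
  have key : ∀ (k : H →* ℂˣ), (∀ h : H, (h : D) ∈ H₁ → k h = 1) → k ≠ 1 →
      ∃ μ : D → ℂ, Cfsg.IsIrrCharacter D μ ∧ (∃ h ∈ H, μ h ≠ μ 1) ∧ μ 1 = (C.index : ℂ) ∧
        ∑ h : H, Ψ h * conj (μ h) = (C.index : ℂ) * ∑ h : H, Ψ h * conj (k h : ℂ) := by
    intro k hk hk1
    obtain ⟨m, hm⟩ := exists_extension H U hHU hd hHC k (hinvl k hk)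
    let θ : C → ℂ := fun c => (m c : ℂ)
    have hθ : Cfsg.IsIrrCharacter C θ := CharInduce.isIrrCharacter_hom m
    have hinert : CharInduce.inertia C θ = C := by
      refine le_antisymm (fun d hd' => ?_) (CharInduce.le_inertia C (IsIrr.isClassFunction hθ))
      by_contra hdC
      refine hk1 (MonoidHom.ext fun h => ?_)
      have : (H₁.subgroupOf H).Normal := inferInstance
      let Q := (H : Subgroup D) ⧸ H₁.subgroupOf H
      have hcommQ : ∀ a b : Q, a * b = b * a := quot_comm _ fun a b => hab1 a a.2 b b.2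
      let conjH : H →* H := (MulAut.conjNormal d).toMonoidHom
      have hmap : H₁.subgroupOf H ≤ (H₁.subgroupOf H).comap conjH := by
        intro x hx
        exact Subgroup.Normal.conj_mem inferInstance _ (Subgroup.mem_subgroupOf.1 hx) d
      let φ : Q →* Q := QuotientGroup.map _ _ conjH hmap
      let δ : Q →* Q := MonoidHom.mk' (fun q => φ q * q⁻¹) fun a b => by
        rw [map_mul, mul_inv_rev, mul_assoc, ← mul_assoc (φ b), hcommQ (φ b * b⁻¹) a⁻¹, ← mul_assoc]
      have hδ : Function.Injective δ := by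
        refine (injective_iff_map_eq_one δ).2 fun q hq => ?_
        induction q using QuotientGroup.induction_on with | _ a =>
        refine (QuotientGroup.eq_one_iff a).2 (hfree d hdC a a.2 ?_)
        have h3 : ((conjH a * a⁻¹ : H) : Q) = 1 := hq
        exact Subgroup.mem_subgroupOf.1 ((QuotientGroup.eq_one_iff _).1 h3)
      obtain ⟨q, hq⟩ := (Finite.injective_iff_surjective.1 hδ) (h : Q)
      induction q using QuotientGroup.induction_on with | _ a =>
      have h4 : ((conjH a * a⁻¹ : H) : Q) = (h : Q) := hq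
      have h5 := (QuotientGroup.eq.1 h4)
      have h6 := hk _ (Subgroup.mem_subgroupOf.1 h5)
      rw [map_mul, map_inv, map_mul, map_inv] at h6
      have h7 : k (conjH a) = k a := by
        have h8 := congrFun ((CharInduce.mem_inertia C).1 hd') ⟨a, hHC a.2⟩
        have h9 : m ⟨(conjH a : D), hHC (conjH a).2⟩ = m ⟨a, hHC a.2⟩ := Units.ext h8
        rwa [hm, hm] at h9
      rw [h7, mul_inv_cancel, inv_one, one_mul] at h6
      simpa using h6
    have hirr : Cfsg.IsIrrCharacter D (indFun C θ) := by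
      refine CharInduce.isIrr_of_norm_one (CharInduce.IsChar.ind C (IsIrr.isCharacter hθ)) ?_
      rw [PF1.classInner_indFun_self C hθ, hinert,
        inv_mul_cancel₀ (Nat.cast_ne_zero.2 Nat.card_pos.ne')]
    have hμ1 : indFun C θ 1 = (C.index : ℂ) := by
      rw [CharInduce.indFun_one]
      simp [θ]
    have hval : ∀ h : H, indFun C θ h = (Nat.card C : ℂ)⁻¹ *
        ∑ x : D, (k ⟨x * h * x⁻¹, hHn.conj_mem h h.2 x⟩ : ℂ) := by
      intro h
      refine (CharInduce.indFun_normal_coe C θ ⟨h, hHC h.2⟩).trans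
        (congrArg _ (Finset.sum_congr rfl fun x _ => ?_))
      simp only [CharInduce.conjFun, θ]
      rw [← hm]
    have hsum : ∀ F : D → ℂ, (∀ h d, F (d * h * d⁻¹) = F h) →
        ∑ h : H, F h * conj (indFun C θ h) = (C.index : ℂ) * ∑ h : H, F h * conj (k h : ℂ) := by
      intro F hF
      simp only [hval, map_mul, map_inv₀, map_natCast, map_sum, Finset.mul_sum]
      rw [Finset.sum_comm]
      have : ∀ x : D, ∑ h : H, F h * ((Nat.card C : ℂ)⁻¹ *
          conj (k ⟨x * h * x⁻¹, hHn.conj_mem h h.2 x⟩ : ℂ)) =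
          (Nat.card C : ℂ)⁻¹ * ∑ h : H, F h * conj (k h : ℂ) := by
        intro x
        rw [Finset.mul_sum]
        refine Fintype.sum_equiv (MulAut.conjNormal x).toEquiv _ _ fun h => ?_
        have e : (MulAut.conjNormal x) h = ⟨x * h * x⁻¹, hHn.conj_mem h h.2 x⟩ :=
          Subtype.ext (MulAut.conjNormal_apply x h)
        simp only [MulEquiv.toEquiv_eq_coe, EquivLike.coe_coe, e, hF]
        ring
      rw [Finset.sum_congr rfl fun x _ => this x, Finset.sum_const, Finset.card_univ, nsmul_eq_mul,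
        ← Nat.card_eq_fintype_card, ← C.card_mul_index, Nat.cast_mul, ← Finset.mul_sum]
      have := CharInduce.card_ne_zero_complex C
      field_simp
    refine ⟨indFun C θ, hirr, ?_, hμ1, hsum Ψ hΨ⟩
    by_contra hker
    push Not at hker
    have h2 := hsum (fun _ => 1) fun _ _ => rfl
    simp only [one_mul, hker _ (Subtype.prop _), hμ1, map_natCast, Finset.sum_const,
      nsmul_eq_mul] at h2
    have h3 : ∑ h : H, (k h : ℂ) = 0 := by
      obtain ⟨a, ha⟩ := DFunLike.ne_iff.1 hk1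
      have : (k a : ℂ) * ∑ h : H, (k h : ℂ) = ∑ h : H, (k h : ℂ) := by
        rw [Finset.mul_sum]
        exact Fintype.sum_equiv (Equiv.mulLeft a) _ _ fun h => by simp
      by_contra h0
      exact ha (Units.ext (mul_right_cancel₀ h0 (this.trans (one_mul _).symm)))
    rw [← map_sum, h3, map_zero, mul_zero, mul_eq_zero] at h2
    rcases h2 with h2 | h2
    · simp at h2
    · exact Subgroup.index_ne_zero_of_finite (Nat.cast_eq_zero.1 h2)
  obtain ⟨μ, hμ, hker, hμ1, hs⟩ := key l hl hl1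
  obtain ⟨μ', hμ', hker', hμ1', hs'⟩ := key l' hl' hl1'
  have hf : IsTestFun H (μ - μ') := by
    refine ⟨H43.gen_sub (H43.gen_of_irr hμ) (H43.gen_of_irr hμ'), classInner_sub_le_two hμ hμ',
      by simp [hμ1, hμ1'], fun g _ hg => ?_, fun g => ?_⟩
    · simp [eq_zero_of_fixed_free H hμ hker hg, eq_zero_of_fixed_free H hμ' hker' hg]
    · simp [Finset.sum_sub_distrib, coset_sum_eq_zero H hμ hker g, coset_sum_eq_zero H hμ' hker' g]
  have h0 := hperp _ hf
  rw [classInner_def, mul_eq_zero] at h0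
  replace h0 := h0.resolve_left (inv_ne_zero (Nat.cast_ne_zero.2 Nat.card_pos.ne'))
  set F : D → ℂ := fun g => Ψ g * conj ((μ - μ') g) with hF
  have hcos : ∀ q : D ⧸ H, q ≠ 1 → ∑ g ∈ Finset.univ.filter (fun g : D => (g : D ⧸ H) = q), F g = 0 := by
    intro q hq
    induction q using QuotientGroup.induction_on with | _ y =>
    have hy : y ∉ H := fun h => hq ((QuotientGroup.eq_one_iff y).2 h)
    rw [show ∑ g ∈ Finset.univ.filter (fun g : D => (g : D ⧸ H) = y), F g = ∑ x : H, F (y * x) from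
      (Finset.sum_bij (fun (x : H) _ => y * (x : D)) (fun x _ => by simp)
        (fun x _ z _ e => Subtype.ext (mul_left_cancel e)) (fun g hg => ⟨⟨y⁻¹ * g, QuotientGroup.eq.1
          (Finset.mem_filter.1 hg).2.symm⟩, Finset.mem_univ _, by simp⟩) fun x _ => rfl).symm]
    simp only [hF]
    rw [Finset.sum_congr rfl fun x _ => by rw [const_on_cosets H hab hΨ hperp hy x.2],
      ← Finset.mul_sum, ← map_sum, hf.sums, map_zero, mul_zero]
  have hH0 : ∑ h : H, F h = 0 := by
    have h1 := h0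
    rw [show (∑ g : D, Ψ g * conj ((μ - μ') g)) = ∑ g : D, F g from rfl,
      ← Finset.sum_fiberwise Finset.univ (fun g : D => (g : D ⧸ H)) F,
      Finset.sum_eq_single (1 : D ⧸ H) (fun q _ hq => hcos q hq) (by simp)] at h1
    rw [← h1]
    exact Finset.sum_bij (fun (x : H) _ => (x : D)) (fun x _ => by simp)
      (fun x _ z _ e => Subtype.ext e) (fun g hg => ⟨⟨g, (QuotientGroup.eq_one_iff g).1
        (Finset.mem_filter.1 hg).2⟩, Finset.mem_univ _, rfl⟩) fun x _ => rfl
  simp only [hF, Pi.sub_apply, map_sub, mul_sub, Finset.sum_sub_distrib, hs, hs'] at hH0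
  rw [← mul_sub, mul_eq_zero, sub_eq_zero] at hH0
  exact hH0.resolve_left (Nat.cast_ne_zero.2 Subgroup.index_ne_zero_of_finite)

end Linear

end Cfsg.Agent.OddOrder.PF12
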