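import Cfsg.Agent.OddOrder.PF12.TypeOneFrobenius
import Cfsg.Agent.OddOrder.PF11.NoTypeIV

/-!
# Peterfalvi (12.7) without hypotheses
-/

set_option autoImplicit false

namespace Cfsg.Agent.OddOrder.PF12

open Subgroup
open Cfsg.Agent.OddOrder

universe u

variable {G : Type u} [Group G] [Finite G]

/-- Peterfalvi (12.7), in the form the later sections take as `hfrob`. -/
theorem hfrob_of_minSimple (hG : Cfsg.IsMinSimpleOddOrder G) :
    ∀ L : Subgroup G, IsCoatom L → IsTypeI L → ∀ x ∈ Cfsg.fittingHallOf L, x ≠ 1 →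
      L ⊓ centralizer ({x} : Set G) ≤ Cfsg.fittingHallOf L :=
  fun _ hL hI => centralizer_le_core hG (PF11.no_typeIV hG) hL hI

end Cfsg.Agent.OddOrder.PF12
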