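import Cfsg.Agent.OddOrder.PF12.MSide
import Cfsg.Agent.OddOrder.PF12.Cosets

/-!
# Peterfalvi (12.7): orthogonality on the side of `L`

`ψ = ψ i₀` restricted to `D = H (L ⊓ K)` (averaged on `H#`) is orthogonal to the test functions of `D`;
so `ψ` is constant on every coset `yH` with `y ∈ (L ⊓ K)#`.
-/

set_option autoImplicit false

open scoped ComplexConjugate

namespace Cfsg.Agent.OddOrder.PF12

open Subgroup
open Cfsg.Agent Cfsg.Agent.CharBasic

universe u

variable {G : Type u} [Group G]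

/-- `D = H (L ⊓ K)` inside `L`. -/
abbrev Dsub (L H K : Subgroup G) : Subgroup L := (H ⊔ (L ⊓ K)).subgroupOf L

/-- `H` inside `D`. -/
abbrev Hsub (L H K : Subgroup G) : Subgroup ↥(Dsub L H K) :=
  H.comap (L.subtype.comp (Dsub L H K).subtype)

/-- `L ⊓ K` inside `D`. -/
abbrev Usub (L H K : Subgroup G) : Subgroup ↥(Dsub L H K) :=
  (L ⊓ K).comap (L.subtype.comp (Dsub L H K).subtype)

open Classical in
/-- `ψ` on `D`, averaged on `H`. -/
noncomputable def psiD (L H K : Subgroup G) (AL : Set G) (RL : G → Subgroup G) (ψ : G → ℂ) :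
    ↥(Dsub L H K) → ℂ :=
  fun d => if ((d : L) : G) ∈ H then PF7.invDade AL L RL ψ (d : L) else ψ ((d : L) : G)

theorem bessel_signed [Fintype G] {ι : Type*} [Fintype ι] {ψ : ι → G → ℂ} (hs : ∀ i, H43.Signed (ψ i))
    (ho : ∀ i j, i ≠ j → Cfsg.classInner (ψ i) (ψ j) = 0) (φ : G → ℂ) :
    ∑ i, ‖Cfsg.classInner φ (ψ i)‖ ^ 2 ≤ (Cfsg.classInner φ φ).re := by
  classical
  set c := fun i => Cfsg.classInner φ (ψ i) with hc
  set v := φ - ∑ i, c i • ψ i with hv
  have h0 : 0 ≤ (Cfsg.classInner v v).re := by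
    rw [classInner_self_eq, Complex.ofReal_re]
    positivity
  have hψψ : ∀ i, Cfsg.classInner (∑ j, c j • ψ j) (ψ i) = c i := by
    intro i
    rw [classInner_sum_left, Finset.sum_eq_single i
      (fun j _ hj => by rw [classInner_smul_left, ho j i hj, mul_zero]) (by simp),
      classInner_smul_left, (hs i).inner_self, mul_one]
  have hvψ : ∀ i, Cfsg.classInner v (ψ i) = 0 := fun i => by
    rw [hv, classInner_sub_left, hψψ, sub_self]
  have h1 : Cfsg.classInner v v = Cfsg.classInner φ φ - ∑ i, (‖c i‖ ^ 2 : ℝ) := by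
    conv_lhs => arg 2; rw [hv]
    rw [classInner_sub_right, classInner_sum_right,
      Finset.sum_eq_zero (fun i _ => by rw [classInner_smul_right, hvψ, mul_zero]), sub_zero, hv,
      classInner_sub_left, classInner_sum_left]
    congr 1
    rw [Complex.ofReal_sum]
    refine Finset.sum_congr rfl fun i _ => ?_
    rw [classInner_smul_left, ← classInner_conj_symm φ (ψ i), Complex.ofReal_pow, ← Complex.mul_conj']
  rw [h1, Complex.sub_re, Complex.ofReal_re] at h0
  linarith

theorem invDade_sub [Finite G] {A : Set G} {L : Subgroup G} {H : G → Subgroup G} (χ ψ : G → ℂ) :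
    PF7.invDade A L H (χ - ψ) = PF7.invDade A L H χ - PF7.invDade A L H ψ := by
  rw [eq_sub_iff_add_eq, ← PF7.invDade_add, sub_add_cancel]

variable {p : ℕ} {L M H K N : Subgroup G} {AL : Set G} {RL RM : G → Subgroup G} {x : G}
variable (S : Setting p L M H K N AL RL RM x)

section
include S

theorem Setting.UK_le_ML : L ⊓ K ≤ M ⊓ L := le_inf (inf_le_right.trans S.KM) inf_le_left

theorem Setting.inf_UK : H ⊓ (L ⊓ K) = ⊥ :=
  le_bot_iff.1 ((inf_le_inf_left H S.UK_le_ML).trans S.compl_inf.le)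

theorem Setting.sup_mem {g : G} (hg : g ∈ H ⊔ (L ⊓ K)) : ∃ h ∈ H, ∃ u ∈ L ⊓ K, g = h * u := by
  have hn : L ⊓ K ≤ normalizer (H : Set G) := inf_le_left.trans S.Hn
  rw [← SetLike.mem_coe, coe_mul_of_right_le_normalizer_left _ _ hn] at hg
  obtain ⟨h, hh, u, hu, rfl⟩ := Set.mem_mul.1 hg
  exact ⟨h, hh, u, hu, rfl⟩

theorem Setting.decomp_unique {h h' u u' : G} (hh : h ∈ H) (hh' : h' ∈ H) (hu : u ∈ L ⊓ K)
    (hu' : u' ∈ L ⊓ K) (e : h * u = h' * u') : h = h' ∧ u = u' := by
  have h1 : h'⁻¹ * h ∈ H ⊓ (L ⊓ K) := by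
    refine mem_inf.2 ⟨mul_mem (inv_mem hh') hh, ?_⟩
    rw [show h'⁻¹ * h = h'⁻¹ * (h * u) * u⁻¹ by group, e, inv_mul_cancel_left]
    exact mul_mem hu' (inv_mem hu)
  rw [S.inf_UK, mem_bot, inv_mul_eq_one] at h1
  subst h1
  exact ⟨rfl, mul_left_cancel e⟩

theorem Setting.H_normal : (Hsub L H K).Normal :=
  ⟨fun a ha g => show ((g : L) : G) * ((a : L) : G) * ((g : L) : G)⁻¹ ∈ H from
    Coprime.conj_mem (S.Hn (g : L).2) ha⟩

theorem Setting.D_ab (a b : ↥(Dsub L H K)) : a * b * a⁻¹ * b⁻¹ ∈ Hsub L H K := by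
  haveI := S.H_normal
  obtain ⟨h, hh, u, hu, ea⟩ := S.sup_mem a.2
  obtain ⟨h', hh', u', hu', eb⟩ := S.sup_mem b.2
  have hUH : ∀ w ∈ L ⊓ K, ∀ k ∈ H, w * k * w⁻¹ ∈ H := fun w hw k hk =>
    Coprime.conj_mem (S.Hn hw.1) hk
  show ((a : L) : G) * ((b : L) : G) * ((a : L) : G)⁻¹ * ((b : L) : G)⁻¹ ∈ H
  rw [show ((a : L) : G) = h * u from ea, show ((b : L) : G) = h' * u' from eb]
  have e : h * u * (h' * u') * (h * u)⁻¹ * (h' * u')⁻¹ =
      h * (u * h' * u⁻¹) * ((u * u' * u⁻¹) * h⁻¹ * (u * u' * u⁻¹)⁻¹) *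
        ((u * u' * u⁻¹ * u'⁻¹) * h'⁻¹) := by group
  rw [e, show u * u' * u⁻¹ = u' by rw [S.UK_comm u hu u' hu', mul_inv_cancel_right],
    mul_inv_cancel u', one_mul]
  exact mul_mem (mul_mem (mul_mem hh (hUH u hu h' hh')) (hUH u' hu' _ (inv_mem hh))) (inv_mem hh')

theorem Setting.D_compl : ∀ d : ↥(Dsub L H K), ∃ a ∈ Hsub L H K, ∃ b ∈ Usub L H K, d = a * b := by
  intro d
  obtain ⟨h, hh, u, hu, e⟩ := S.sup_mem d.2
  exact ⟨⟨⟨h, S.HL hh⟩, mem_sup_left hh⟩, hh, ⟨⟨u, hu.1⟩, mem_sup_right hu⟩, hu,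
    Subtype.ext (Subtype.ext e)⟩

theorem Setting.D_inf : Hsub L H K ⊓ Usub L H K = ⊥ := by
  refine (Subgroup.eq_bot_iff_forall _).2 fun d hd => ?_
  have h1 : ((d : L) : G) ∈ H ⊓ (L ⊓ K) := hd
  rw [S.inf_UK, mem_bot] at h1
  exact Subtype.ext (Subtype.ext h1)

theorem Setting.index_Dsub [Finite G] : (Dsub L H K).index = S.eL := by
  have hL : H ⊔ (M ⊓ L) = L := by
    refine le_antisymm (sup_le S.HL inf_le_right) fun g hg => ?_
    obtain ⟨h, hh, u, hu, rfl⟩ := S.compl_mul g hg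
    exact mul_mem_sup hh hu
  have h1 : Nat.card ↥(H ⊔ (L ⊓ K)) = Nat.card H * Nat.card ↥(L ⊓ K) :=
    Coprime.card_sup (inf_le_left.trans S.Hn) S.inf_UK
  have h2 : Nat.card L = Nat.card H * Nat.card ↥(M ⊓ L) := by
    conv_lhs => rw [← hL]
    exact Coprime.card_sup (inf_le_right.trans S.Hn) S.compl_inf
  have h3 : Nat.card (Dsub L H K) = Nat.card ↥(H ⊔ (L ⊓ K)) :=
    Nat.card_congr (subgroupOfEquivOfLe (sup_le S.HL inf_le_left)).toEquiv
  have h4 := (Dsub L H K).card_mul_index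
  rw [h3, h1, h2, ← S.card_ML, ← mul_assoc] at h4
  exact Nat.eq_of_mul_eq_mul_left (Nat.mul_pos Nat.card_pos Nat.card_pos) h4

end

variable [Fintype G] [Fintype M] [(K.subgroupOf M).Normal] {n : ℕ} {χ : Fin n → M → ℂ}
  {ψ : Fin n → G → ℂ} (F : FamilyData S χ ψ) (i₀ : Fin n)
include F

theorem FamilyData.psiD_cls [Fintype L] :
    Cfsg.IsClassFunction ↥(Dsub L H K) (psiD L H K AL RL (ψ i₀)) := by
  intro a d
  simp only [psiD]
  push_cast
  have hiff : ((d : L) : G) * ((a : L) : G) * ((d : L) : G)⁻¹ ∈ H ↔ ((a : L) : G) ∈ H := by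
    constructor
    · intro h
      have := Coprime.conj_mem (S.Hn (inv_mem (d : L).2)) h
      simpa [mul_assoc] using this
    · exact fun h => Coprime.conj_mem (S.Hn (d : L).2) h
  by_cases hH : ((a : L) : G) ∈ H
  · rw [if_pos hH, if_pos (hiff.2 hH)]
    exact PF7.invDade_isClassFunction S.dadeL (F.cls S i₀) (a : L) (d : L)
  · rw [if_neg hH, if_neg (mt hiff.1 hH)]
    exact F.cls S i₀ _ _

/-- `ψ` on `D` is orthogonal to the test functions. -/
theorem FamilyData.perp [Fintype L] [Fintype ↥(Dsub L H K)] [Fintype ↥(Hsub L H K)]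
    (f : ↥(Dsub L H K) → ℂ) (hf : IsTestFun (Hsub L H K) f) :
    Cfsg.classInner (psiD L H K AL RL (ψ i₀)) f = 0 := by
  classical
  haveI := S.H_normal
  set Fi := Cfsg.indFun (Dsub L H K) f with hFi
  have hALsub : ∀ d : ↥(Dsub L H K), f d ≠ 0 → ((d : L) : G) ∈ AL := by
    intro d hd
    have hd1 : d ≠ 1 := fun e => hd (e ▸ hf.one)
    by_cases hdH : ((d : L) : G) ∈ H
    · exact S.H_sub _ hdH fun e => hd1 (Subtype.ext (Subtype.ext e))
    · by_contra hAL
      refine hd (hf.vanish d hdH fun a ha hc => ?_)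
      by_contra ha1
      exact hAL (S.memAL _ (d : L).2 hdH _ ha (fun e => ha1 (Subtype.ext (Subtype.ext e)))
        (congrArg (fun z : ↥(Dsub L H K) => ((z : L) : G)) hc.eq))
  have hsupp : ∀ a : L, (a : G) ∉ AL → Fi a = 0 := by
    intro a ha
    rw [hFi, CharInduce.indFun_apply]
    refine mul_eq_zero_of_right _ (Finset.sum_eq_zero fun y _ => ?_)
    by_cases hy : y⁻¹ * a * y ∈ Dsub L H K
    · rw [CharInduce.extendByZero_of_mem _ hy]
      by_contra h0
      have h1 := S.dadeL.conj_mem y y.2 _ (hALsub _ h0)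
      exact ha (by simpa [mul_assoc] using h1)
    · rw [CharInduce.extendByZero_of_not_mem _ hy]
  have hgen : Cfsg.IsGeneralizedCharacter L Fi := CharInduce.IsGen.ind _ hf.gen
  have hcl := CharInduce.IsGen.isClassFunction hgen
  have hinner : ∀ i, Cfsg.classInner (Cfsg.dadeIsometry AL L RL Fi) (ψ i) =
      Cfsg.classInner f (fun d => PF7.invDade AL L RL (ψ i) (d : L)) := fun i => by
    rw [PF7.classInner_invDade S.dadeL hcl hsupp (F.cls S i), hFi,
      CharInduce.classInner_indFun_left _ f _ (PF7.invDade_isClassFunction S.dadeL (F.cls S i))]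
  -- the parts in `L ⊓ K`
  choose hp hhp up hup hd using fun d : ↥(Dsub L H K) => S.sup_mem d.2
  replace hd : ∀ d : ↥(Dsub L H K), ((d : L) : G) = hp d * up d := hd
  have hupH : ∀ d a, a ∈ Hsub L H K → up (d * a) = up d := by
    intro d a ha
    refine (S.decomp_unique (hhp (d * a)) (mul_mem (hhp d)
      (Coprime.conj_mem (S.Hn (hup d).1) (show ((a : L) : G) ∈ H from ha))) (hup _) (hup d) ?_).2
    have e1 : hp (d * a) * up (d * a) = ((d : L) : G) * ((a : L) : G) := (hd (d * a)).symm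
    rw [e1, hd d]
    group
  have hperp : ∀ i j, Cfsg.classInner f (fun d => PF7.invDade AL L RL (ψ i) (d : L)) =
      Cfsg.classInner f (fun d => PF7.invDade AL L RL (ψ j) (d : L)) := by
    intro i j
    set β := Cfsg.dadeIsometry ((K : Set G) \ {1}) M RM (χ i - χ j) with hβ
    have hα : Cfsg.IsClassFunction M (χ i - χ j) := CharInduce.IsGen.isClassFunction
      (H43.gen_sub (H43.gen_of_irr (F.chi_irr S i)) (H43.gen_of_irr (F.chi_irr S j)))
    have hβc : Cfsg.IsClassFunction G β := by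
      rw [hβ, F.fam.map_sub]
      exact CharInduce.IsGen.isClassFunction (H43.gen_sub (F.gen S i) (F.gen S j))
    set W : ↥(Dsub L H K) → ℂ := fun d => if ((d : L) : G) ∈ H then 0
      else conj ((χ i - χ j) ⟨up d, S.KM (hup d).2⟩) with hW
    have hpt : ∀ d, f d * conj (PF7.invDade AL L RL (ψ i) (d : L)) -
        f d * conj (PF7.invDade AL L RL (ψ j) (d : L)) = W d * f d := by
      intro d
      by_cases hfd : f d = 0
      · simp [hfd]
      have hAL := hALsub d hfd
      rw [← mul_sub, ← map_sub, ← Pi.sub_apply (PF7.invDade AL L RL (ψ i)), ← invDade_sub,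
        ← F.fam.map_sub, ← hβ, mul_comm]
      congr 1
      simp only [hW]
      split_ifs with hdH
      · rw [PF7.invDade_eq_of_eq_on hAL (c := 0) (fun r hr => ?_), map_zero]
        refine PF7.dade_eq_zero_of_not_mem fun hmem => ?_
        have hd1 : ((d : L) : G) ≠ 1 := fun e => hfd (by
          rw [show d = 1 from Subtype.ext (Subtype.ext e)]; exact hf.one)
        exact Set.disjoint_left.1 S.disj hmem
          ⟨_, ⟨hdH, hd1⟩, r, hr, 1, by group⟩
      · have hbot := S.RL_bot _ hAL hdH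
        rw [PF7.invDade_eq_of_eq_on hAL (c := β ((d : L) : G)) (fun r hr => by
          rw [hbot, mem_bot] at hr; rw [hr, mul_one])]
        congr 1
        have hu1 : up d ≠ 1 := fun e => hdH (by rw [hd d, e, mul_one]; exact hhp d)
        let y : ↥(Dsub L H K) := ⟨⟨up d, (hup d).1⟩, mem_sup_right (hup d)⟩
        have hcop : (orderOf y).Coprime (Nat.card (Hsub L H K)) := by
          have h1 : orderOf y ∣ Nat.card ↥(M ⊓ L) := by
            rw [← Subgroup.orderOf_coe, ← Subgroup.orderOf_coe]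
            exact Subgroup.orderOf_dvd_natCard _ (S.UK_le_ML (hup d))
          have h2 : Nat.card (Hsub L H K) = Nat.card H := Nat.card_congr
            { toFun := fun a => ⟨((a : ↥(Dsub L H K)) : L), a.2⟩
              invFun := fun a => ⟨⟨⟨a, S.HL a.2⟩, mem_sup_left a.2⟩, a.2⟩
              left_inv := fun a => rfl
              right_inv := fun a => rfl }
          rw [h2]
          exact S.cop.symm.coprime_dvd_left h1
        obtain ⟨a, ha, r, hr, hry, e⟩ := exists_conj_coset (Hsub L H K) (y := y) (g := d) hcop (by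
          show (up d)⁻¹ * ((d : L) : G) ∈ H
          rw [hd d, ← mul_assoc]
          have := Coprime.conj_mem (inv_mem (S.Hn (hup d).1)) (hhp d)
          rwa [inv_inv] at this)
        have e' : ((a : L) : G) * ((d : L) : G) * ((a : L) : G)⁻¹ = up d * ((r : L) : G) :=
          congrArg (fun z : ↥(Dsub L H K) => ((z : L) : G)) e
        have hcm : Commute ((r : L) : G) (up d) :=
          congrArg (fun z : ↥(Dsub L H K) => ((z : L) : G)) hry.eq
        rw [← hβc ((d : L) : G) ((a : L) : G), e', hβ]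
        exact H43.dade_apply S.dadeM hα (a := ⟨up d, S.KM (hup d).2⟩) ⟨(hup d).2, hu1⟩
          (S.RM_mem _ (hup d) hu1 _ hr hcm) (x := 1) (by
            show 1 * (up d * ((r : L) : G)) * 1⁻¹ = up d * ((r : L) : G)
            group)
    have hz : ∑ d, W d * f d = 0 := by
      refine sum_mul_eq_zero (Hsub L H K) (fun d a ha => ?_) fun d => Or.inr (hf.sums d)
      simp only [hW, hupH d a ha, Subgroup.coe_mul]
      simp only [Subgroup.mul_mem_cancel_right H (show ((a : L) : G) ∈ H from ha)]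
    rw [← sub_eq_zero, classInner_def, classInner_def, ← mul_sub, ← Finset.sum_sub_distrib,
      Finset.sum_congr rfl fun d _ => hpt d, hz, mul_zero]
  obtain ⟨z, hz⟩ := int_inner_signed (H43.dade_virtual S.dadeL hgen hsupp) (F.fam.signed i₀)
  have hall : ∀ i, Cfsg.classInner (Cfsg.dadeIsometry AL L RL Fi) (ψ i) = z := fun i => by
    rw [hinner, hperp i i₀, ← hinner, hz]
  have hbes := bessel_signed F.fam.signed F.fam.orth (Cfsg.dadeIsometry AL L RL Fi)
  rw [(Cfsg.Agent.S1500.result AL L RL S.dadeL Fi hcl hsupp).1 Fi hcl hsupp,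
    Finset.sum_congr rfl fun i _ => by rw [hall i, Complex.norm_intCast, sq_abs],
    Finset.sum_const, Finset.card_univ, Fintype.card_fin, nsmul_eq_mul] at hbes
  have hle : (Cfsg.classInner Fi Fi).re ≤ 2 * (S.eL : ℝ) := by
    refine (classInner_indFun_le (Dsub L H K)).trans ?_
    rw [S.index_Dsub, mul_comm]
    exact mul_le_mul_of_nonneg_right hf.norm_le (Nat.cast_nonneg _)
  have hz0 : z = 0 := by
    by_contra hne
    have h1 : (1 : ℝ) ≤ (z : ℝ) ^ 2 := by
      rw [← Int.cast_pow]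
      exact_mod_cast (sq_pos_of_ne_zero hne : (0 : ℤ) < z ^ 2)
    have h2 : (2 * S.eL : ℝ) < n := by exact_mod_cast F.n_gt
    nlinarith
  have hconc := hinner i₀
  rw [hall i₀, hz0, Int.cast_zero] at hconc
  have hsym := congrArg conj hconc
  rw [map_zero, classInner_conj_symm] at hsym
  rw [hsym, classInner_def, classInner_def]
  refine congrArg _ (Finset.sum_congr rfl fun d _ => ?_)
  by_cases hfd : f d = 0
  · simp [hfd]
  congr 1
  simp only [psiD]
  split_ifs with hdH
  · rfl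
  · rw [PF7.invDade_eq_of_eq_on (hALsub d hfd) fun r hr => ?_]
    rw [S.RL_bot _ (hALsub d hfd) hdH, mem_bot] at hr
    rw [hr, mul_one]

/-- `ψ` is constant on the cosets `yH`. -/
theorem FamilyData.psi_const {y h : G} (hy : y ∈ L ⊓ K) (hy1 : y ≠ 1) (hh : h ∈ H) :
    ψ i₀ (y * h) = ψ i₀ y := by
  classical
  let := Fintype.ofFinite L
  let := Fintype.ofFinite ↥(Dsub L H K)
  let := Fintype.ofFinite ↥(Hsub L H K)
  haveI := S.H_normal
  let yd : ↥(Dsub L H K) := ⟨⟨y, hy.1⟩, mem_sup_right hy⟩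
  let hd : ↥(Dsub L H K) := ⟨⟨h, S.HL hh⟩, mem_sup_left hh⟩
  have hyH : y ∉ H := fun h' => hy1 (by
    have h1 : y ∈ H ⊓ (L ⊓ K) := ⟨h', hy⟩
    rwa [S.inf_UK, mem_bot] at h1)
  have hyhH : y * h ∉ H := fun h' => hyH ((Subgroup.mul_mem_cancel_right H hh).1 h')
  have e := const_on_cosets (Hsub L H K) S.D_ab (F.psiD_cls S i₀) (F.perp S i₀) (y := yd) hyH
    (h := hd) hh
  simp only [psiD, yd, hd, Subgroup.coe_mul, hyH, hyhH, if_false] at e
  exact e

end Cfsg.Agent.OddOrder.PF12
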