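import Cfsg.Agent.OddOrder.PF12.Config
import Cfsg.Agent.OddOrder.PF12.Congr

/-!
# Peterfalvi (12.7): the budget on the side of `M`

For `ψ = ψ i₀` the function `f = ρψ - χ i₀` on `K#` has all coset sums off `N` equal to zero, and the
norm inequality leaves at most `|N| e²` for `f`, for `ρψ` on `N#` and for the part over `L`.
-/

set_option autoImplicit false

open scoped ComplexConjugate

namespace Cfsg.Agent.OddOrder.PF12

open Subgroup
open Cfsg.Agent Cfsg.Agent.CharBasic

universe u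

variable {G : Type u} [Group G] [Fintype G]

theorem int_inner_signed {θ ψ : G → ℂ} (hθ : Cfsg.IsGeneralizedCharacter G θ) (hψ : H43.Signed ψ) :
    ∃ z : ℤ, Cfsg.classInner θ ψ = z := by
  rcases hψ with h | h
  · exact CharInduce.IsGen.exists_int_coeff hθ (IsIrr.isCharacter h)
  · obtain ⟨z, hz⟩ := CharInduce.IsGen.exists_int_coeff hθ (IsIrr.isCharacter h)
    refine ⟨-z, ?_⟩
    rw [classInner_neg_right] at hz
    push_cast
    rw [← hz, neg_neg]

theorem sum_eq_sum_subgroup {Γ : Type*} [Group Γ] [Fintype Γ] (K : Subgroup Γ) [Fintype K]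
    {M : Type*} [AddCommMonoid M] (F : Γ → M) (hF : ∀ g, g ∉ K → F g = 0) :
    ∑ g, F g = ∑ k : K, F k := by
  classical
  rw [← Finset.sum_filter_of_ne (p := (· ∈ K)) fun g _ hg => by_contra fun h => hg (hF g h)]
  exact Finset.sum_subtype _ (fun g => by simp) F

open Classical in
/-- `ρψ - χ` on `K`, with value `0` at `1`. -/
noncomputable def phiFun (K : Subgroup G) (M : Subgroup G) (RM : G → Subgroup G) (χ : M → ℂ)
    (ψ : G → ℂ) : ↥(K.subgroupOf M) → ℂ :=
  fun k => if k = 1 then 0 else PF7.invDade ((K : Set G) \ {1}) M RM ψ k - χ k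

variable {p : ℕ} {L M H K N : Subgroup G} {AL : Set G} {RL RM : G → Subgroup G} {x : G}
variable (S : Setting p L M H K N AL RL RM x)
variable [Fintype M] [(K.subgroupOf M).Normal] {n : ℕ} {χ : Fin n → M → ℂ} {ψ : Fin n → G → ℂ}
variable (F : FamilyData S χ ψ) (i₀ : Fin n)
include F

theorem FamilyData.gen (i : Fin n) : Cfsg.IsGeneralizedCharacter G (ψ i) := (F.fam.signed i).gen

theorem FamilyData.cls (i : Fin n) : Cfsg.IsClassFunction G (ψ i) :=
  CharInduce.IsGen.isClassFunction (F.gen S i)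

theorem FamilyData.chi_sub_zero (i j : Fin n) {a : M} (ha : (a : G) ∉ (K : Set G) \ {1}) :
    (χ i - χ j) a = 0 := by
  simp only [Set.mem_sdiff, Set.mem_singleton_iff, not_and, not_not, SetLike.mem_coe] at ha
  by_cases h1 : (a : G) ∈ K
  · have : a = 1 := Subtype.ext (ha h1)
    simp [this, linInd_one (F.mem i), linInd_one (F.mem j)]
  · simp [linInd_eq_zero (F.mem i) (fun h => h1 h), linInd_eq_zero (F.mem j) (fun h => h1 h)]

theorem FamilyData.chi_irr (i : Fin n) : Cfsg.IsIrrCharacter M (χ i) :=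
  let _ := Fintype.ofFinite ↥(K.subgroupOf M)
  linInd_irr S.freeSection (F.mem i)

theorem FamilyData.rho_cls (i : Fin n) :
    Cfsg.IsClassFunction M (PF7.invDade ((K : Set G) \ {1}) M RM (ψ i)) :=
  PF7.invDade_isClassFunction S.dadeM (F.cls S i)

theorem FamilyData.phi_inv (g : M) (k : ↥(K.subgroupOf M)) :
    phiFun K M RM (χ i₀) (ψ i₀) (MulAut.conjNormal g k) = phiFun K M RM (χ i₀) (ψ i₀) k := by
  by_cases hk : k = 1
  · subst hk
    rw [map_one]
  · simp only [phiFun]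
    rw [if_neg hk, if_neg (mt (fun e => (MulAut.conjNormal g).injective (e.trans (map_one _).symm)) hk),
      MulAut.conjNormal_apply, F.rho_cls S i₀ (k : M) g,
      IsIrr.isClassFunction (F.chi_irr S i₀) (k : M) g]

theorem FamilyData.phi_apply {k : ↥(K.subgroupOf M)} (hk : k ≠ 1) :
    phiFun K M RM (χ i₀) (ψ i₀) k =
      PF7.invDade ((K : Set G) \ {1}) M RM (ψ i₀) k - χ i₀ k := if_neg hk

theorem FamilyData.phi_fourier {l : ↥(K.subgroupOf M) →* ℂˣ} (hl : ∀ a ∈ inner M K N, l a = 1)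
    (hl1 : l ≠ 1) [Fintype ↥(K.subgroupOf M)] :
    ∑ k, phiFun K M RM (χ i₀) (ψ i₀) k * conj (χ i₀ (k : M)) =
      ((K.subgroupOf M).index : ℂ) * ∑ k, phiFun K M RM (χ i₀) (ψ i₀) k * conj (l k : ℂ) := by
  classical
  obtain ⟨i, hi⟩ := F.surj _ ⟨l, hl, hl1, rfl⟩
  rw [← sum_mul_conj_ind (fun g k => F.phi_inv S i₀ g k) l, ← hi]
  have hgen : Cfsg.IsGeneralizedCharacter M (χ i - χ i₀) :=
    H43.gen_sub (H43.gen_of_irr (F.chi_irr S i)) (H43.gen_of_irr (F.chi_irr S i₀))
  have h1 := PF7.classInner_invDade S.dadeM (CharInduce.IsGen.isClassFunction hgen)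
    (fun a ha => F.chi_sub_zero S i i₀ ha) (F.cls S i₀)
  rw [F.fam.map_sub] at h1
  have h2 : Cfsg.classInner (χ i - χ i₀) (χ i₀) = Cfsg.classInner (ψ i - ψ i₀) (ψ i₀) := by
    rcases eq_or_ne i i₀ with rfl | hne
    · simp
    · rw [classInner_sub_left, classInner_sub_left, classInner_irr_self (F.chi_irr S i₀),
        (F.fam.signed i₀).inner_self, F.fam.orth i i₀ hne,
        classInner_irr_of_ne (F.chi_irr S i) (F.chi_irr S i₀) fun h => hne (F.inj h)]
  rw [h1] at h2
  have h3 : Cfsg.classInner (χ i - χ i₀)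
      (PF7.invDade ((K : Set G) \ {1}) M RM (ψ i₀) - χ i₀) = 0 := by
    rw [classInner_sub_right, h2, sub_self]
  rw [classInner_def, mul_eq_zero] at h3
  replace h3 := h3.resolve_left (inv_ne_zero (Nat.cast_ne_zero.2 Nat.card_pos.ne'))
  rw [sum_eq_sum_subgroup (K.subgroupOf M) _ fun g hg => by
    rw [F.chi_sub_zero S i i₀ (fun h => hg h.1), zero_mul]] at h3
  have h4 := congrArg conj h3
  rw [map_zero, map_sum] at h4
  refine sub_eq_zero.1 ?_
  rw [← Finset.sum_sub_distrib, ← neg_eq_zero, ← h4, ← Finset.sum_neg_distrib]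
  refine Finset.sum_congr rfl fun k _ => ?_
  by_cases hk : k = 1
  · subst hk
    simp [phiFun, linInd_one (F.mem i), linInd_one (F.mem i₀)]
  · rw [F.phi_apply S i₀ hk]
    simp only [Pi.sub_apply, map_mul, map_sub, Complex.conj_conj]
    ring

/-- The coset sums are an integral multiple of `|N|`. -/
theorem FamilyData.exists_coset_const [Fintype ↥(K.subgroupOf M)] [Fintype ↥(inner M K N)] :
    ∃ b : ℤ, ∀ g, g ∉ inner M K N →
      ∑ a : inner M K N, phiFun K M RM (χ i₀) (ψ i₀) (g * a) = (Nat.card (inner M K N) : ℂ) * b := by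
  classical
  set f := phiFun K M RM (χ i₀) (ψ i₀) with hf
  have : (inner M K N).Normal := normal_of_free S.freeSection
  obtain ⟨l, hl, hl1, hχ⟩ := F.mem i₀
  set C := ∑ k, f k * conj (l k : ℂ) with hC
  have hCall : ∀ l' : (K.subgroupOf M) →* ℂˣ, (∀ a ∈ (inner M K N), l' a = 1) → l' ≠ 1 →
      ∑ k, f k * conj (l' k : ℂ) = C := fun l' hl' hl1' => by
    have h1 := F.phi_fourier S i₀ hl' hl1'
    rw [F.phi_fourier S i₀ hl hl1] at h1
    exact (mul_left_cancel₀ (Nat.cast_ne_zero.2 Subgroup.index_ne_zero_of_finite) h1).symm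
  have hk0 : (Nat.card (K.subgroupOf M) : ℂ) ≠ 0 := Nat.cast_ne_zero.2 Nat.card_pos.ne'
  set b : ℂ := ((∑ k, f k) - C) / (Nat.card (K.subgroupOf M) : ℂ) with hb
  have hsum : ∀ g, g ∉ (inner M K N) → ∑ a : (inner M K N), f (g * a) = (Nat.card (inner M K N) : ℂ) * b := by
    intro g hg
    have h1 := coset_sum_eq (inner M K N) S.freeSection.ab f C hCall hg
    rw [hb, ← h1, ← (inner M K N).index_mul_card, Nat.cast_mul]
    have := CharInduce.card_ne_zero_complex (inner M K N)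
    have : ((inner M K N).index : ℂ) ≠ 0 := Nat.cast_ne_zero.2 Subgroup.index_ne_zero_of_finite
    field_simp
  suffices hint : ∃ m : ℤ, b = m by
    obtain ⟨m, hm⟩ := hint
    exact ⟨m, fun g hg => by rw [← hm]; exact hsum g hg⟩
  set θ : (K.subgroupOf M) → ℂ := fun k => (l k : ℂ) - 1 with hθ
  have hθsub : Cfsg.indFun (K.subgroupOf M) θ = χ i₀ - Cfsg.indFun (K.subgroupOf M) (fun _ => (1 : ℂ)) := by
    rw [hχ, ← CharInduce.indFun_sub]
    rfl
  have hgen : Cfsg.IsGeneralizedCharacter M (Cfsg.indFun (K.subgroupOf M) θ) := by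
    refine CharInduce.IsGen.ind (K.subgroupOf M) (H43.gen_sub (H43.gen_of_char (CharInduce.isCharacter_hom l))
      (H43.gen_of_char CharInduce.IsChar.one))
  have hvan : ∀ a : M, (a : G) ∉ (K : Set G) \ {1} → Cfsg.indFun (K.subgroupOf M) θ a = 0 := by
    intro a ha
    simp only [Set.mem_sdiff, Set.mem_singleton_iff, not_and, not_not, SetLike.mem_coe] at ha
    by_cases h1 : (a : G) ∈ K
    · have : a = 1 := Subtype.ext (ha h1)
      simp [this, CharInduce.indFun_one, θ]
    · exact CharInduce.indFun_eq_zero_of_normal (K.subgroupOf M) θ fun h => h1 h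
  obtain ⟨z, hz⟩ := int_inner_signed (H43.dade_virtual S.dadeM hgen hvan) (F.fam.signed i₀)
  rw [PF7.classInner_invDade S.dadeM (CharInduce.IsGen.isClassFunction hgen) hvan (F.cls S i₀),
    CharInduce.classInner_indFun_left (K.subgroupOf M) θ _ (F.rho_cls S i₀), classInner_def] at hz
  have hpt : ∀ k : (K.subgroupOf M), θ k * conj (PF7.invDade ((K : Set G) \ {1}) M RM (ψ i₀) k) =
      θ k * conj (χ i₀ (k : M)) + θ k * conj (f k) := by
    intro k
    by_cases hk : k = 1
    · subst hk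
      simp [θ]
    · rw [hf, F.phi_apply S i₀ hk, map_sub]
      ring
  rw [Finset.sum_congr rfl fun k _ => hpt k, Finset.sum_add_distrib] at hz
  have hX : ∑ k : (K.subgroupOf M), θ k * conj (χ i₀ (k : M)) = (Nat.card (K.subgroupOf M) : ℂ) := by
    have h1 := sum_mul_conj_ind (F := fun k : (K.subgroupOf M) => χ i₀ (k : M)) (fun g k => by
      simp only [MulAut.conjNormal_apply]
      exact IsIrr.isClassFunction (F.chi_irr S i₀) (k : M) g) l
    rw [← hχ] at h1
    simp only [Complex.mul_conj, Complex.normSq_eq_norm_sq] at h1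
    rw [← Complex.ofReal_sum, linInd_norm S.freeSection (F.mem i₀), Complex.ofReal_natCast,
      ← (K.subgroupOf M).index_mul_card, Nat.cast_mul] at h1
    have h2 := mul_left_cancel₀ (Nat.cast_ne_zero.2 Subgroup.index_ne_zero_of_finite) h1
    simp only [hθ, sub_mul, one_mul, Finset.sum_sub_distrib]
    rw [← map_sum, linInd_sum (F.mem i₀), map_zero, sub_zero]
    have h3 := congrArg conj h2
    rw [map_natCast, map_sum] at h3
    rw [h3]
    exact Finset.sum_congr rfl fun k _ => by simp [mul_comm]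
  have hY : ∑ k : (K.subgroupOf M), θ k * conj (f k) = conj (C - ∑ k, f k) := by
    rw [map_sub, hC, map_sum, map_sum, ← Finset.sum_sub_distrib]
    exact Finset.sum_congr rfl fun k _ => by simp [θ]; ring
  rw [hX, hY] at hz
  have hb1 : conj b = ((1 - z : ℤ) : ℂ) := by
    rw [hb, map_div₀, map_natCast, Int.cast_sub, Int.cast_one, ← hz,
      show (∑ k, f k) - C = -(C - ∑ k, f k) by ring, map_neg]
    field_simp
    ring
  refine ⟨1 - z, ?_⟩
  have := congrArg conj hb1
  simpa using this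

theorem FamilyData.norm_split [Fintype ↥(K.subgroupOf M)] :
    ∑ a : M, ‖PF7.invDade ((K : Set G) \ {1}) M RM (ψ i₀) a‖ ^ 2 =
      ∑ k : ↥(K.subgroupOf M), ‖PF7.invDade ((K : Set G) \ {1}) M RM (ψ i₀) k‖ ^ 2 := by
  refine sum_eq_sum_subgroup (K.subgroupOf M)
    (fun a => ‖PF7.invDade ((K : Set G) \ {1}) M RM (ψ i₀) a‖ ^ 2) fun g hg => ?_
  rw [PF7.invDade_eq_zero (A := (K : Set G) \ {1}) (fun h => hg h.1), norm_zero,
    zero_pow two_ne_zero]

/-- The norm inequality for `ψ` over the two Dade supports. -/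
theorem FamilyData.cover [Fintype L] :
    (Nat.card M : ℝ)⁻¹ * ∑ a : M, ‖PF7.invDade ((K : Set G) \ {1}) M RM (ψ i₀) a‖ ^ 2 +
      (Nat.card L : ℝ)⁻¹ * ∑ a : L, ‖PF7.invDade ((H : Set G) \ {1}) L RL (ψ i₀) a‖ ^ 2 ≤ 1 := by
  classical
  have hDH : Cfsg.DadeHypothesis ((H : Set G) \ {1}) L RL := by
    refine PF7.dadeHypothesis_subset S.dadeL (fun h hh => S.H_sub h hh.1 hh.2) fun y hy h hh => ?_
    exact ⟨Coprime.conj_mem (S.Hn hy) hh.1, fun e => hh.2 (by simpa using e)⟩
  refine le_trans (add_le_add (PF7.norm_invDade_le S.dadeM (F.cls S i₀))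
    (PF7.norm_invDade_le hDH (F.cls S i₀))) ?_
  rw [← mul_add, ← Finset.sum_union (by
    rw [Set.Finite.disjoint_toFinset]
    exact S.disj)]
  have h := classInner_self_eq (ψ i₀)
  rw [(F.fam.signed i₀).inner_self] at h
  have h' : (1 : ℝ) = (Nat.card G : ℝ)⁻¹ * ∑ g : G, ‖ψ i₀ g‖ ^ 2 := by exact_mod_cast h
  rw [h']
  exact mul_le_mul_of_nonneg_left (Finset.sum_le_sum_of_subset_of_nonneg (Finset.subset_univ _)
    fun g _ _ => by positivity) (inv_nonneg.2 (Nat.cast_nonneg _))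

open Classical in
set_option maxHeartbeats 1600000 in
/-- The coset sums off `N` vanish and the budget. -/
theorem FamilyData.budget [Fintype L] [Fintype ↥(K.subgroupOf M)] [Fintype ↥(inner M K N)] :
    (∀ g, g ∉ inner M K N → ∑ a : inner M K N, phiFun K M RM (χ i₀) (ψ i₀) (g * a) = 0) ∧
    (∑ k ∈ Finset.univ.filter (fun k => k ∈ inner M K N),
        ‖PF7.invDade ((K : Set G) \ {1}) M RM (ψ i₀) k‖ ^ 2 +
      ∑ k ∈ Finset.univ.filter (fun k => k ∉ inner M K N),
        ‖phiFun K M RM (χ i₀) (ψ i₀) k‖ ^ 2 +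
      (K.relIndex M : ℝ) * (Nat.card K : ℝ) * ((Nat.card L : ℝ)⁻¹ *
        ∑ a : L, ‖PF7.invDade ((H : Set G) \ {1}) L RL (ψ i₀) a‖ ^ 2) ≤
      (Nat.card N : ℝ) * (K.relIndex M : ℝ) ^ 2) := by
  set f := phiFun K M RM (χ i₀) (ψ i₀) with hf
  set ρ := PF7.invDade ((K : Set G) \ {1}) M RM (ψ i₀) with hρ
  set Sin := Finset.univ.filter (fun k : (K.subgroupOf M) => k ∈ (inner M K N)) with hSin
  set Sout := Finset.univ.filter (fun k : (K.subgroupOf M) => k ∉ (inner M K N)) with hSout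
  set e : ℕ := K.relIndex M with he
  have hindex : (K.subgroupOf M).index = e := rfl
  have hNcard : Nat.card (inner M K N) = Nat.card N := Nat.card_congr
    { toFun := fun a => ⟨((a : (K.subgroupOf M)) : M), a.2⟩
      invFun := fun a => ⟨⟨⟨a, S.KM (S.NK a.2)⟩, S.NK a.2⟩, a.2⟩
      left_inv := fun a => rfl
      right_inv := fun a => rfl }
  have hKcard : Nat.card (K.subgroupOf M) = Nat.card K := Nat.card_congr (subgroupOfEquivOfLe S.KM).toEquiv
  have hsplit : ∀ F : (K.subgroupOf M) → ℝ, ∑ k ∈ Sin, F k + ∑ k ∈ Sout, F k = ∑ k, F k := fun F =>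
    Finset.sum_filter_add_sum_filter_not Finset.univ (fun k => k ∈ (inner M K N)) F
  have hSincard : Sin.card = Nat.card (inner M K N) := by
    rw [Nat.card_eq_fintype_card, hSin, ← Fintype.card_subtype]
  have hSoutcard : (Sout.card : ℝ) = (Nat.card (K.subgroupOf M) : ℝ) - Nat.card (inner M K N) := by
    rw [eq_sub_iff_add_eq, ← hSincard, hSout, hSin, Nat.card_eq_fintype_card]
    have := Finset.card_filter_add_card_filter_not (s := (Finset.univ : Finset (K.subgroupOf M))) (fun k => k ∈ (inner M K N))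
    rw [Finset.card_univ] at this
    rw [← this, Nat.cast_add]
    ring
  obtain ⟨b, hb⟩ := F.exists_coset_const S i₀
  have hweight : ∀ W : (K.subgroupOf M) → ℂ, (∀ g, ∀ a ∈ (inner M K N), W (g * a) = W g) → (∀ g ∈ (inner M K N), W g = 0) →
      ∑ g, W g * f g = (b : ℂ) * ∑ g, W g := by
    intro W hW hW0
    refine mul_left_cancel₀ (CharInduce.card_ne_zero_complex (inner M K N)) ?_
    rw [card_mul_sum_mul (inner M K N) hW, Finset.mul_sum, Finset.mul_sum]
    refine Finset.sum_congr rfl fun g _ => ?_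
    by_cases hg : g ∈ (inner M K N)
    · simp [hW0 g hg]
    · rw [hb g hg]
      ring
  have hmem : ∀ g, ∀ a ∈ (inner M K N), g * a ∈ (inner M K N) ↔ g ∈ (inner M K N) := fun g a ha => Subgroup.mul_mem_cancel_right _ ha
  have houtsum : ∑ k ∈ Sout, f k = (Sout.card : ℂ) * b := by
    have h1 := hweight (fun g => if g ∈ (inner M K N) then 0 else 1) (fun g a ha => by simp only [hmem g a ha])
      (fun g hg => if_pos hg)
    simp only [ite_mul, zero_mul, one_mul] at h1
    rw [Finset.sum_ite, Finset.sum_const_zero, zero_add, Finset.sum_ite, Finset.sum_const_zero,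
      zero_add, Finset.sum_const, nsmul_one] at h1
    rw [h1, hSout]
    ring
  have hchiout : ∑ k ∈ Sout, χ i₀ (k : M) = -((Nat.card (inner M K N) : ℂ) * e) := by
    have h1 := Finset.sum_filter_add_sum_filter_not Finset.univ (fun k : (K.subgroupOf M) => k ∈ (inner M K N))
      (fun k : (K.subgroupOf M) => χ i₀ (k : M))
    rw [linInd_sum (F.mem i₀), ← hSin, ← hSout, Finset.sum_congr rfl fun k hk => by
      rw [linInd_apply_mem S.freeSection (F.mem i₀) (Finset.mem_filter.1 hk).2],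
      Finset.sum_const, nsmul_eq_mul, hSincard, hindex] at h1
    linear_combination h1
  have hcross : ∑ k ∈ Sout, (conj (χ i₀ (k : M)) * f k) = (b : ℂ) * -((Nat.card (inner M K N) : ℂ) * e) := by
    have h1 := hweight (fun g => if g ∈ (inner M K N) then 0 else conj (χ i₀ (g : M)))
      (fun g a ha => by
        simp only [hmem g a ha]
        rw [linInd_mul_mem S.freeSection (F.mem i₀) g ha])
      (fun g hg => if_pos hg)
    simp only [ite_mul, zero_mul] at h1
    rw [Finset.sum_ite, Finset.sum_const_zero, zero_add, Finset.sum_ite, Finset.sum_const_zero,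
      zero_add, ← map_sum] at h1
    rw [h1]
    congr 1
    rw [← hSout, hchiout]
    simp
  have hchi2 : ∑ k ∈ Sout, ‖χ i₀ (k : M)‖ ^ 2 = (Nat.card M : ℝ) - (Nat.card (inner M K N) : ℝ) * (e : ℝ) ^ 2 := by
    have h1 := hsplit (fun k => ‖χ i₀ (k : M)‖ ^ 2)
    rw [linInd_norm S.freeSection (F.mem i₀), Finset.sum_congr (s₁ := Sin) rfl fun k hk => by
      rw [linInd_apply_mem S.freeSection (F.mem i₀) (Finset.mem_filter.1 hk).2,
        Complex.norm_natCast], Finset.sum_const, nsmul_eq_mul, hSincard, hindex] at h1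
    linarith
  have hout : ∑ k ∈ Sout, ‖ρ k‖ ^ 2 = ((Nat.card M : ℝ) - (Nat.card (inner M K N) : ℝ) * (e : ℝ) ^ 2) +
      2 * ((b : ℝ) * -((Nat.card (inner M K N) : ℝ) * e)) + ∑ k ∈ Sout, ‖f k‖ ^ 2 := by
    have hcr : ∑ k ∈ Sout, (conj (χ i₀ (k : M)) * f k).re = (b : ℝ) * -((Nat.card (inner M K N) : ℝ) * e) := by
      rw [← Complex.re_sum, hcross]
      simp
    rw [← hchi2, ← hcr, Finset.mul_sum, ← Finset.sum_add_distrib, ← Finset.sum_add_distrib]
    refine Finset.sum_congr rfl fun k hk => ?_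
    have hk1 : k ≠ 1 := fun h => (Finset.mem_filter.1 hk).2 (h ▸ one_mem _)
    have e1 : ρ k = χ i₀ (k : M) + f k := by
      rw [hf, F.phi_apply S i₀ hk1]
      ring
    rw [e1]
    simp only [Complex.sq_norm, Complex.normSq_add, Complex.mul_re, Complex.conj_re, Complex.conj_im]
    ring
  have hM : (Nat.card M : ℝ) = (e : ℝ) * (Nat.card K : ℝ) := by
    rw [← S.e_mul, Nat.cast_mul, mul_comm]
  have hM0 : (0 : ℝ) < Nat.card M := Nat.cast_pos.2 Nat.card_pos
  have hcov := F.cover S i₀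
  rw [F.norm_split S i₀, ← hsplit] at hcov
  set X := ∑ k ∈ Sin, ‖ρ k‖ ^ 2
  set Y := ∑ k ∈ Sout, ‖f k‖ ^ 2
  set Z := (Nat.card L : ℝ)⁻¹ *
    ∑ a : L, ‖PF7.invDade ((H : Set G) \ {1}) L RL (ψ i₀) a‖ ^ 2
  have hX0 : 0 ≤ X := Finset.sum_nonneg fun _ _ => by positivity
  have hZ0 : 0 ≤ Z := mul_nonneg (inv_nonneg.2 (Nat.cast_nonneg _))
    (Finset.sum_nonneg fun _ _ => by positivity)
  rw [hout] at hcov
  have hmain : X + Y + (e : ℝ) * (Nat.card K : ℝ) * Z ≤
      (Nat.card (inner M K N) : ℝ) * (e : ℝ) ^ 2 + 2 * (b : ℝ) * ((Nat.card (inner M K N) : ℝ) * e) := by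
    have h1 := mul_le_mul_of_nonneg_left hcov hM0.le
    rw [mul_add, ← mul_assoc, mul_inv_cancel₀ hM0.ne', one_mul, mul_one] at h1
    rw [← hM]
    linarith
  have hb0 : b = 0 := by
    by_contra hne
    have hY := sq_le_sum_norm_sq Sout f (b : ℝ) (by rw [houtsum]; simp)
    rw [hSoutcard] at hY
    have hNk0 : (1 : ℝ) ≤ Nat.card (inner M K N) := Nat.one_le_cast.2 Nat.card_pos
    have hidx : (Nat.card (K.subgroupOf M) : ℝ) = (N.relIndex K : ℝ) * Nat.card (inner M K N) := by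
      rw [← (inner M K N).index_mul_card, S.index_inner, Nat.cast_mul]
    have hI : (p : ℝ) ^ 2 ≤ (N.relIndex K : ℝ) := by exact_mod_cast S.idx
    have hp5 : (5 : ℝ) ≤ (p : ℝ) := by exact_mod_cast S.p_ge
    have hep : 2 * (e : ℝ) ≤ (p : ℝ) + 1 := by exact_mod_cast S.e_le
    have he0 : (0 : ℝ) ≤ (e : ℝ) := Nat.cast_nonneg _
    set q := |(b : ℝ)| with hq
    have hq1 : 1 ≤ q := by
      rw [hq, ← Int.cast_abs]
      exact_mod_cast Int.one_le_abs hne
    have hbq : (b : ℝ) ≤ q := le_abs_self _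
    have hb2 : (b : ℝ) ^ 2 = q ^ 2 := (sq_abs _).symm
    have h3 : ((N.relIndex K : ℝ) - 1) * q ^ 2 ≤ (e : ℝ) ^ 2 + 2 * q * e := by
      refine le_of_mul_le_mul_right ?_ (lt_of_lt_of_le one_pos hNk0)
      have h4 : 2 * (b : ℝ) * ((Nat.card (inner M K N) : ℝ) * e) ≤ 2 * q * ((Nat.card (inner M K N) : ℝ) * e) :=
        mul_le_mul_of_nonneg_right (by linarith) (by positivity)
      have h5 : 0 ≤ (e : ℝ) * (Nat.card K : ℝ) * Z := mul_nonneg (by positivity) hZ0
      rw [hidx, hb2] at hY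
      have h7 : 0 ≤ Y := Finset.sum_nonneg fun _ _ => by positivity
      calc ((N.relIndex K : ℝ) - 1) * q ^ 2 * (Nat.card (inner M K N) : ℝ)
          = ((N.relIndex K : ℝ) * Nat.card (inner M K N) - Nat.card (inner M K N)) * q ^ 2 := by ring
        _ ≤ Y := hY
        _ ≤ (Nat.card (inner M K N) : ℝ) * (e : ℝ) ^ 2 + 2 * (b : ℝ) * ((Nat.card (inner M K N) : ℝ) * e) := by linarith
        _ ≤ ((e : ℝ) ^ 2 + 2 * q * e) * (Nat.card (inner M K N) : ℝ) := by linarith
    have h4 : (e : ℝ) ^ 2 + 2 * q * e ≤ q ^ 2 * ((e : ℝ) ^ 2 + 2 * e) := by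
      nlinarith [mul_le_mul_of_nonneg_right (one_le_pow₀ (n := 2) hq1) (sq_nonneg (e : ℝ)),
        mul_le_mul_of_nonneg_left hq1 (by positivity : (0 : ℝ) ≤ 2 * q * e)]
    have h6 : (N.relIndex K : ℝ) - 1 ≤ (e : ℝ) ^ 2 + 2 * e := by
      refine le_of_mul_le_mul_right (h3.trans (h4.trans (le_of_eq (mul_comm _ _)))) ?_
      positivity
    nlinarith [mul_self_le_mul_self (by positivity) hep]
  refine ⟨fun g hg => by rw [hb g hg, hb0]; simp, ?_⟩
  rw [hb0, Int.cast_zero, mul_zero, zero_mul, add_zero, hNcard] at hmain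
  exact hmain

end Cfsg.Agent.OddOrder.PF12
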