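import Cfsg.Agent.CharInduce.Function
import Cfsg.Agent.CharBasic.Orth

/-!
# Elementary sum lemmas for Peterfalvi (12.7)
-/

set_option autoImplicit false

open scoped ComplexConjugate

namespace Cfsg.Agent.OddOrder.PF12

open Cfsg.Agent

universe u

variable {D : Type u} [Group D] [Fintype D] (H : Subgroup D) [Fintype H]

/-- A coset invariant weight only sees the coset sums. -/
theorem card_mul_sum_mul {W : D → ℂ} (hW : ∀ g, ∀ h ∈ H, W (g * h) = W g) (F : D → ℂ) :
    (Nat.card H : ℂ) * ∑ g, W g * F g = ∑ g, W g * ∑ h : H, F (g * h) := by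
  simp only [Finset.mul_sum]
  conv_rhs => rw [Finset.sum_comm]
  have h1 : ∀ h : H, ∑ g, W g * F (g * h) = ∑ g, W g * F g := fun h =>
    Fintype.sum_equiv (Equiv.mulRight (h : D)) _ _ fun g => by simp [hW g h h.2]
  rw [Finset.sum_congr rfl fun h _ => h1 h, Finset.sum_const, Finset.card_univ, nsmul_eq_mul,
    ← Nat.card_eq_fintype_card, ← Finset.mul_sum]

theorem sum_mul_eq_zero {W : D → ℂ} (hW : ∀ g, ∀ h ∈ H, W (g * h) = W g) {F : D → ℂ}
    (hF : ∀ g, W g = 0 ∨ ∑ h : H, F (g * h) = 0) : ∑ g, W g * F g = 0 := by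
  have h := card_mul_sum_mul H hW F
  rw [Finset.sum_eq_zero (s := Finset.univ) (f := fun g => W g * ∑ h : H, F (g * h))
    fun g _ => mul_eq_zero.2 (hF g), mul_eq_zero] at h
  exact h.resolve_left (Nat.cast_ne_zero.2 Nat.card_pos.ne')

omit [Group D] [Fintype D] in
/-- A lower bound on a sum of squares from the sum. -/
theorem sq_le_sum_norm_sq {ι : Type*} (s : Finset ι) (F : ι → ℂ) (c : ℝ)
    (h : ∑ i ∈ s, F i = (s.card : ℂ) * c) : (s.card : ℝ) * c ^ 2 ≤ ∑ i ∈ s, ‖F i‖ ^ 2 := by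
  have h1 : ∀ i ∈ s, 2 * c * (F i).re - c ^ 2 ≤ ‖F i‖ ^ 2 := fun i _ => by
    rw [Complex.sq_norm, Complex.normSq_apply]
    nlinarith [sq_nonneg ((F i).re - c), mul_self_nonneg (F i).im]
  have h2 := Finset.sum_le_sum h1
  rw [Finset.sum_sub_distrib, ← Finset.mul_sum, ← Complex.re_sum, h, Finset.sum_const,
    nsmul_eq_mul] at h2
  simp only [Complex.mul_re, Complex.natCast_re, Complex.natCast_im, Complex.ofReal_re,
    Complex.ofReal_im, mul_zero, sub_zero] at h2
  linarith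

/-- Induction multiplies the norm by at most the index. -/
theorem classInner_indFun_le {θ : H → ℂ} :
    (Cfsg.classInner (indFun H θ) (indFun H θ)).re ≤
      (H.index : ℝ) * (Cfsg.classInner θ θ).re := by
  classical
  rw [CharBasic.classInner_self_eq, CharBasic.classInner_self_eq, Complex.ofReal_re,
    Complex.ofReal_re]
  have hH0 : (0 : ℝ) < Nat.card H := Nat.cast_pos.2 Nat.card_pos
  have hD0 : (0 : ℝ) < Nat.card D := Nat.cast_pos.2 Nat.card_pos
  have hpt : ∀ g : D, ‖indFun H θ g‖ ^ 2 ≤ ((Nat.card H : ℝ)⁻¹) ^ 2 *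
      ((Nat.card D : ℝ) * ∑ x : D, ‖extendByZero H θ (x⁻¹ * g * x)‖ ^ 2) := by
    intro g
    rw [CharInduce.indFun_apply, norm_mul, mul_pow, norm_inv, Complex.norm_natCast]
    refine mul_le_mul_of_nonneg_left ?_ (sq_nonneg _)
    refine (pow_le_pow_left₀ (norm_nonneg _) (norm_sum_le _ _) 2).trans ?_
    have h := sq_sum_le_card_mul_sum_sq (s := (Finset.univ : Finset D))
      (f := fun x => ‖extendByZero H θ (x⁻¹ * g * x)‖)
    rwa [Finset.card_univ, ← Nat.card_eq_fintype_card] at h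
  have hsum : ∀ x : D, ∑ g : D, ‖extendByZero H θ (x⁻¹ * g * x)‖ ^ 2 = ∑ h : H, ‖θ h‖ ^ 2 := by
    intro x
    rw [Fintype.sum_equiv (MulAut.conj x⁻¹).toEquiv (fun g => ‖extendByZero H θ (x⁻¹ * g * x)‖ ^ 2)
      (fun g => ‖extendByZero H θ g‖ ^ 2) (fun g => by simp)]
    refine (Finset.sum_bij_ne_zero (fun (h : H) _ _ => (h : D)) (fun h _ _ => Finset.mem_univ _)
      (fun a _ _ b _ _ e => Subtype.ext e) (fun g _ hg => ?_)
      fun h _ _ => by rw [CharInduce.extendByZero_coe]).symm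
    by_cases hgH : g ∈ H
    · exact ⟨⟨g, hgH⟩, Finset.mem_univ _, by
        rwa [CharInduce.extendByZero_of_mem θ hgH] at hg, rfl⟩
    · rw [CharInduce.extendByZero_of_not_mem θ hgH, norm_zero] at hg
      norm_num at hg
  refine (mul_le_mul_of_nonneg_left (Finset.sum_le_sum fun g _ => hpt g)
    (inv_nonneg.2 hD0.le)).trans (le_of_eq ?_)
  rw [← Finset.mul_sum, ← Finset.mul_sum, Finset.sum_comm, Finset.sum_congr rfl fun x _ => hsum x,
    Finset.sum_const, Finset.card_univ, ← Nat.card_eq_fintype_card, nsmul_eq_mul]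
  have he : (Nat.card H : ℝ) * (H.index : ℝ) = Nat.card D := by exact_mod_cast H.card_mul_index
  rw [← he]
  field_simp

end Cfsg.Agent.OddOrder.PF12
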