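import Cfsg.Agent.OddOrder.PF12.Action
import Cfsg.Agent.OddOrder.BG11.BetaCore
import Cfsg.Agent.OddOrder.BG5.Action
import Cfsg.Agent.S1412
import Cfsg.Agent.PGroups.Extraspecial

/-!
# Peterfalvi (12.7): a Sylow `p`-subgroup of `M_σ` and a complement normalising it
-/

set_option autoImplicit false
set_option linter.unusedSectionVars false

namespace Cfsg.Agent.OddOrder.PF12

open Subgroup
open Cfsg.Agent Cfsg.Agent.OddOrder
open scoped commutatorElement

universe u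

variable {G : Type u} [Group G] [Finite G]

/-- `P` is a Sylow `p`-subgroup of `M_σ` containing `A` and normalised by the complement `E`. -/
structure SylowData (p : ℕ) (M A E P : Subgroup G) : Prop where
  compl : Cfsg.IsComplIn E (Cfsg.sigmaCore M) M
  PK : P ≤ Cfsg.sigmaCore M
  Pp : IsPGroup p P
  Pind : ¬ p ∣ P.relIndex (Cfsg.sigmaCore M)
  AP : A ≤ P
  EP : E ≤ normalizer (P : Set G)

/-- The shape of a non-abelian Sylow subgroup of rank two. -/
structure RankTwoShape (p : ℕ) (A P P₁ P₂ : Subgroup G) (z : G) : Prop where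
  le₁ : P₁ ≤ P
  le₂ : P₂ ≤ P
  sup : ∀ y ∈ P, ∃ a ∈ P₁, ∃ b ∈ P₂, y = a * b
  comm : ∀ a ∈ P₁, ∀ b ∈ P₂, a * b = b * a
  card₁ : Nat.card P₁ = p ^ 3
  exp₁ : ∀ a ∈ P₁, a ^ p = 1
  cyc₂ : IsCyclic P₂
  z_mem : z ∈ A ∧ z ∈ P₂ ∧ z ∈ P₁
  z_pow : z ^ p = 1
  z_ne : z ≠ 1
  z_cent : ∀ y ∈ P, y * z = z * y
  derived : ⁅P, P⁆ = zpowers z
  center : ∀ y ∈ P, (∀ w ∈ P, y * w = w * y) → y ∈ P₂
  center₂ : ∀ b ∈ P₂, ∀ y ∈ P, b * y = y * b

variable {p : ℕ} {L M A E P : Subgroup G} {x : G} (I : Inputs G) (B : Base p L M A x)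
include I B

theorem Base.exists_sylowData : ∃ E P : Subgroup G, SylowData p M A E P := by
  have : Fact p.Prime := ⟨B.prime⟩
  set K := Cfsg.sigmaCore M
  obtain ⟨E₀, hE₀⟩ := BG15.exists_compl I.hG B.hM
  have hcop : (Nat.card E₀).Coprime (Nat.card K) := Nat.coprime_of_dvd fun q hq h1 h2 =>
    ((BG15.sigma'_of_compl I.hG B.hM hE₀).2.1 q hq h1).2 (sigmaCore_isPiNumber M q hq h2)
  obtain ⟨P₀, hP₀⟩ := Coprime.exists_invariant_sylow
    (hE₀.1.trans (le_normalizer_sigmaCore M)) hcop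
    (Or.inr (Coprime.isSolvable_of_le (sigmaCore_le M) (BG15.solvable I.hG B.hM))) p
  obtain ⟨Q, hQ⟩ := ((H40.elemAb_isPGroup B.elem).comap_of_injective K.subtype
    K.subtype_injective).exists_le_sylow
  obtain ⟨k, hk⟩ := MulAction.exists_smul_eq K P₀ Q
  set c := (MulAut.conj (k : G)).toMonoidHom
  refine ⟨E₀.map c, ((P₀ : Subgroup K).map K.subtype).map c, ?_, ?_, ?_, ?_, ?_, ?_⟩
  · have h := BG15.isComplIn_cj hE₀ (k : G)
    have hkM : (k : G) ∈ M := sigmaCore_le M k.2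
    rwa [show H40.cj (k : G) K = K from Coprime.map_conj_eq (le_normalizer k.2),
      show H40.cj (k : G) M = M from Coprime.map_conj_eq (le_normalizer hkM)] at h
  · rintro _ ⟨_, ⟨a, -, rfl⟩, rfl⟩
    exact Coprime.conj_mem (le_normalizer k.2) a.2
  · exact ((P₀.isPGroup').map _).map _
  · have hQ' : ((P₀ : Subgroup K).map K.subtype).map c = (Q : Subgroup K).map K.subtype := by
      rw [← hk, Subgroup.map_map]
      show _ = ((P₀ : Subgroup K).map (MulAut.conj k).toMonoidHom).map K.subtype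
      rw [Subgroup.map_map]
      rfl
    rw [hQ', BG15.relIndex_map_subtype]
    exact Q.not_dvd_index
  · intro a ha
    have haQ : (⟨a, B.AK ha⟩ : K) ∈ (Q : Subgroup K) := hQ ha
    rw [← hk] at haQ
    obtain ⟨b, hb, e⟩ := (haQ : (⟨a, B.AK ha⟩ : K) ∈ (P₀ : Subgroup K).map (MulAut.conj k).toMonoidHom)
    exact ⟨b, ⟨b, hb, rfl⟩, congrArg Subtype.val e⟩
  · rintro _ ⟨a, ha, rfl⟩
    refine mem_normalizer_of_conj ?_
    rintro _ ⟨y, hy, rfl⟩
    refine ⟨a * y * a⁻¹, Coprime.conj_mem (hP₀ ha) hy, ?_⟩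
    simp [c, map_mul, map_inv]

variable (D : SylowData p M A E P)
include D

theorem Base.E_le : E ≤ M := D.compl.1

theorem Base.coprime_E : (Nat.card E).Coprime (Nat.card (Cfsg.sigmaCore M)) :=
  Nat.coprime_of_dvd fun q hq h1 h2 =>
    ((BG15.sigma'_of_compl I.hG B.hM D.compl).2.1 q hq h1).2 (sigmaCore_isPiNumber M q hq h2)

theorem Base.E_inf : E ⊓ Cfsg.sigmaCore M = ⊥ := D.compl.2.2.1

theorem Base.card_E : Nat.card E = (Cfsg.sigmaCore M).relIndex M := by
  have hsup : Cfsg.sigmaCore M ⊔ E = M := le_antisymm (sup_le (sigmaCore_le M) D.compl.1)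
    (sup_comm E (Cfsg.sigmaCore M) ▸ fun m hm => by
      obtain ⟨a, ha, b, hb, rfl⟩ := D.compl.2.2.2 m hm
      exact mul_mem_sup ha hb)
  have h1 := Coprime.card_sup (D.compl.1.trans (le_normalizer_sigmaCore M))
    (by rw [inf_comm]; exact D.compl.2.2.1)
  have h2 := relIndex_mul_relIndex ⊥ (Cfsg.sigmaCore M) M bot_le (sigmaCore_le M)
  rw [relIndex_bot_left, relIndex_bot_left] at h2
  rw [hsup, ← h2] at h1
  exact (Nat.eq_of_mul_eq_mul_left Nat.card_pos h1).symm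

theorem Base.P_le : P ≤ M := D.PK.trans (sigmaCore_le M)

theorem Base.p_odd : p ≠ 2 := ne_two_of_dvd I.hG (X := A) (by
  rw [B.cardA]
  exact dvd_pow_self p two_ne_zero)

/-- Every non-trivial element of `E` fixes only points of `M_σ'`. -/
theorem Base.fix_E {a : G} (ha : a ∈ E) (ha1 : a ≠ 1) :
    Cfsg.sigmaCore M ⊓ centralizer ({a} : Set G) ≤ ⁅Cfsg.sigmaCore M, Cfsg.sigmaCore M⁆ := by
  obtain ⟨r, hr, hro⟩ := Nat.exists_prime_and_dvd (mt orderOf_eq_one_iff.1 ha1)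
  obtain ⟨b, ⟨i, rfl⟩, hb⟩ : ∃ b, (∃ i : ℕ, a ^ i = b) ∧ orderOf b = r :=
    ⟨a ^ (orderOf a / r), ⟨_, rfl⟩, orderOf_pow_orderOf_div (orderOf_pos a).ne' hro⟩
  have hbK : a ^ i ∉ Cfsg.sigmaCore M := fun h => by
    have h' : a ^ i ∈ E ⊓ Cfsg.sigmaCore M := ⟨pow_mem ha i, h⟩
    rw [B.E_inf I D, mem_bot] at h'
    rw [h', orderOf_one] at hb
    exact hr.one_lt.ne hb
  refine le_trans (inf_le_inf_left _ fun k hk => ?_)
    (B.fix_le I hr (pow_mem (D.compl.1 ha) i) (hb ▸ pow_orderOf_eq_one _) hbK)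
  exact mem_centralizer_singleton_iff.2
    ((show Commute a k from (mem_centralizer_singleton_iff.1 hk).symm).pow_left i).eq.symm

/-- An element of `E` centralising `x` is trivial. -/
theorem Base.eq_one_of_commute {a : G} (ha : a ∈ E) (hc : Commute a x) : a = 1 := by
  by_contra h
  exact B.x_not_derived I (B.fix_E I D ha h ⟨B.xK, mem_centralizer_singleton_iff.2 hc.eq.symm⟩)

theorem Base.faithful : E ⊓ centralizer (P : Set G) = ⊥ :=
  (eq_bot_iff_forall _).2 fun _ ha =>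
    B.eq_one_of_commute I D ha.1 (mem_centralizer_iff.1 ha.2 x (D.AP B.xA)).symm

theorem Base.P_sylow : ¬ p ∣ P.relIndex M := by
  have : Fact p.Prime := ⟨B.prime⟩
  rw [← relIndex_mul_relIndex P _ M D.PK (sigmaCore_le M)]
  exact fun h => (B.prime.dvd_mul.1 h).elim D.Pind ((BG15.hallσ I.hG B.hM).2.2 p B.prime B.sigmaM)

theorem Base.P_sylow_G : ¬ p ∣ P.index := by
  have : Fact p.Prime := ⟨B.prime⟩
  rw [← relIndex_mul_index (B.P_le I D)]
  exact fun h => (B.prime.dvd_mul.1 h).elim (B.P_sylow I D)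
    (not_dvd_index_of_mem_sigma B.sigmaM)

theorem Base.narrow : Cfsg.IsNarrow p P := by
  have : Fact p.Prime := ⟨B.prime⟩
  have hPM := B.P_le I D
  let S : Sylow p M := (D.Pp.comap_of_injective M.subtype M.subtype_injective).toSylow
    (B.P_sylow I D)
  have h := BG11.isNarrow_of_not_beta I.hG (BG10.alpha_subset_sigma I.hG B.hM) B.sigmaM.2.1
    (B.not_beta I) S
  exact BG5.isNarrow_of_equiv (subgroupOfEquivOfLe hPM) h

/-- The rank-two non-abelian case: BG 10.? gives the shape. -/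
theorem Base.rankTwoShape (hr : Cfsg.PRankLE p 2 P) (hna : ¬ IsMulCommutative P) :
    ∃ (P₁ P₂ : Subgroup G) (z : G), RankTwoShape p A P P₁ P₂ z := by
  have : Fact p.Prime := ⟨B.prime⟩
  let S : Sylow p G := D.Pp.toSylow (B.P_sylow_G I D)
  obtain ⟨P₁, P₂, hsup, hcomm, hna1, hc1, he1, hcyc, hcl⟩ :=
    (Cfsg.Agent.S1412.result I.hG p S hr).resolve_left hna
  have hsup' : P₁ ⊔ P₂ = P := hsup
  have h1 : P₁ ≤ P := hsup' ▸ le_sup_left
  have h2 : P₂ ≤ P := hsup' ▸ le_sup_right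
  have hexp : ∀ a ∈ P₁, a ^ p = 1 := fun a ha => by
    have := Monoid.pow_exponent_eq_one (⟨a, ha⟩ : P₁)
    rw [he1] at this
    exact congrArg Subtype.val this
  have hn21 : P₂ ≤ normalizer (P₁ : Set G) := fun b hb => mem_normalizer_of_conj fun a ha => by
    rwa [← hcomm a ha b hb, mul_inv_cancel_right]
  have hmem : ∀ y ∈ P, ∃ a ∈ P₁, ∃ b ∈ P₂, y = a * b := fun y hy => by
    rw [← hsup', ← SetLike.mem_coe, coe_mul_of_right_le_normalizer_left P₁ P₂ hn21] at hy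
    obtain ⟨a, ha, b, hb, rfl⟩ := hy
    exact ⟨a, ha, b, hb, rfl⟩
  -- the centre of `P₁`
  have hZ1 : P₁ ⊓ centralizer (P₁ : Set G) = (Subgroup.center P₁).map P₁.subtype := by
    ext c
    constructor
    · rintro ⟨hc, hcc⟩
      exact ⟨⟨c, hc⟩, Subgroup.mem_center_iff.2 fun d => Subtype.ext (mem_centralizer_iff.1 hcc d d.2), rfl⟩
    · rintro ⟨d, hd, rfl⟩
      exact ⟨d.2, mem_centralizer_iff.2 fun y hy =>
        congrArg Subtype.val (Subgroup.mem_center_iff.1 hd ⟨y, hy⟩)⟩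
  have hp1 : IsPGroup p P₁ := D.Pp.to_le h1
  have hnt1 : Nontrivial P₁ := Finite.one_lt_card_iff_nontrivial.1 (by
    rw [hc1]; exact Nat.one_lt_pow three_ne_zero B.prime.one_lt)
  obtain ⟨z₀, -, hz₀c, hz₀o⟩ := PGroups.exists_mem_center_orderOf_eq hp1 (⊤ : Subgroup P₁) top_ne_bot
  set z : G := (z₀ : G) with hz
  have hzo : orderOf z = p := by rw [hz, Subgroup.orderOf_coe]; exact hz₀o
  have hz1 : z ≠ 1 := fun h => by rw [h, orderOf_one] at hzo; exact B.prime.one_lt.ne hzo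
  have hzp : z ^ p = 1 := hzo ▸ pow_orderOf_eq_one z
  have hzc : z ∈ P₁ ⊓ centralizer (P₁ : Set G) := hZ1 ▸ ⟨z₀, hz₀c, rfl⟩
  -- `z` generates the elements of order `p` of `P₂`
  have hclP : closure {y : G | y ∈ P₂ ∧ y ^ p = 1} ≤ P₂ := (closure_le _).2 fun y hy => hy.1
  have hz2 : z ∈ P₂ := hclP (hcl.symm ▸ hzc)
  have hcle : closure {y : G | y ∈ P₂ ∧ y ^ p = 1} ≤ zpowers z := by
    classical
    refine (closure_le _).2 fun y hy => ?_
    cases nonempty_fintype P₂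
    have hcard := IsCyclic.card_pow_eq_one_le (α := P₂) B.prime.pos
    have hsub : (Finset.univ.filter fun b : P₂ => (b : G) ∈ zpowers z) ⊆
        Finset.univ.filter fun b : P₂ => b ^ p = 1 := by
      intro b hb
      simp only [Finset.mem_filter, Finset.mem_univ, true_and] at hb ⊢
      obtain ⟨i, hi⟩ := mem_zpowers_iff.1 hb
      refine Subtype.ext ?_
      rw [SubmonoidClass.coe_pow, ← hi, ← zpow_natCast, ← zpow_mul, mul_comm, zpow_mul, zpow_natCast,
        hzp, one_zpow, coe_one]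
    have hzcard : (Finset.univ.filter fun b : P₂ => (b : G) ∈ zpowers z).card = p := by
      rw [← Fintype.card_subtype, ← Nat.card_eq_fintype_card, ← hzo, ← Nat.card_zpowers z]
      exact Nat.card_congr
        { toFun := fun b => ⟨b.1, b.2⟩
          invFun := fun b => ⟨⟨b, (zpowers_le.2 hz2) b.2⟩, b.2⟩
          left_inv := fun b => rfl
          right_inv := fun b => rfl }
    have heq := Finset.eq_of_subset_of_card_le hsub (hcard.trans hzcard.ge)
    have : (⟨y, hy.1⟩ : P₂) ∈ Finset.univ.filter fun b : P₂ => b ^ p = 1 :=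
      Finset.mem_filter.2 ⟨Finset.mem_univ _, Subtype.ext hy.2⟩
    rw [← heq] at this
    exact (Finset.mem_filter.1 this).2
  have hcenter : P₁ ⊓ centralizer (P₁ : Set G) ≤ zpowers z := hcl ▸ hcle
  have hcent2 : ∀ b ∈ P₂, ∀ y ∈ P, b * y = y * b := by
    intro b hb y hy
    obtain ⟨a, ha, b', hb', rfl⟩ := hmem y hy
    have := hcyc.isMulCommutative
    have h' : b * b' = b' * b := congrArg Subtype.val (mul_comm' (⟨b, hb⟩ : P₂) ⟨b', hb'⟩)
    calc b * (a * b') = (b * a) * b' := by group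
      _ = (a * b) * b' := by rw [hcomm a ha b hb]
      _ = a * (b' * b) := by rw [mul_assoc, h']
      _ = _ := by group
  have hzcent : ∀ y ∈ P, y * z = z * y := fun y hy => (hcent2 z hz2 y hy).symm
  have hcenP : ∀ y ∈ P, (∀ w ∈ P, y * w = w * y) → y ∈ P₂ := by
    intro y hy hyc
    obtain ⟨a, ha, b, hb, rfl⟩ := hmem y hy
    refine mul_mem ((zpowers_le.2 hz2) (hcenter ⟨ha, mem_centralizer_iff.2 fun c hc => ?_⟩)) hb
    refine mul_right_cancel (b := b) ?_
    calc c * a * b = c * (a * b) := by group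
      _ = (a * b) * c := (hyc c (h1 hc)).symm
      _ = a * c * b := by rw [mul_assoc, hcent2 b hb c (h1 hc), ← mul_assoc]
  -- the derived group
  have hder1 : ∀ a ∈ P₁, ∀ c ∈ P₁, ⁅a, c⁆ ∈ zpowers z := by
    intro a ha c hc
    refine hcenter (hZ1 ▸ ⟨⁅(⟨a, ha⟩ : P₁), ⟨c, hc⟩⁆, ?_, map_commutatorElement _ _ _⟩)
    have hcard : Nat.card (P₁ ⧸ Subgroup.center P₁) = p ^ 2 := by
      have hzcard : Nat.card (Subgroup.center P₁) = p := by
        rw [← Cores.card_map_eq _ P₁.subtype_injective, ← hZ1,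
          le_antisymm hcenter (zpowers_le.2 hzc), Nat.card_zpowers, hzo]
      have := Subgroup.card_eq_card_quotient_mul_card_subgroup (Subgroup.center P₁)
      rw [hc1, hzcard] at this
      exact Nat.eq_of_mul_eq_mul_right B.prime.pos (by rw [← this]; ring)
    show ⁅(⟨a, ha⟩ : P₁), ⟨c, hc⟩⁆ ∈ Subgroup.center P₁
    rw [← QuotientGroup.eq_one_iff,
      show ((⁅(⟨a, ha⟩ : P₁), ⟨c, hc⟩⁆ : P₁) : P₁ ⧸ Subgroup.center P₁) =
        ⁅((⟨a, ha⟩ : P₁) : P₁ ⧸ Subgroup.center P₁), ((⟨c, hc⟩ : P₁) : P₁ ⧸ Subgroup.center P₁)⁆ from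
          map_commutatorElement (QuotientGroup.mk' _) _ _, commutatorElement_eq_one_iff_mul_comm]
    exact (IsPGroup.isMulCommutative_of_card_eq_prime_sq hcard).is_comm.comm _ _
  have hder : ⁅P, P⁆ = zpowers z := by
    refine le_antisymm (Subgroup.commutator_le.2 fun y hy w hw => ?_) ?_
    · obtain ⟨a, ha, b, hb, rfl⟩ := hmem y hy
      obtain ⟨c, hc, d, hd, rfl⟩ := hmem w hw
      rw [show ⁅a * b, c * d⁆ = ⁅a, c⁆ by
        rw [commutatorElement_def, commutatorElement_def]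
        calc a * b * (c * d) * (a * b)⁻¹ * (c * d)⁻¹
            = a * (b * (c * d)) * b⁻¹ * a⁻¹ * d⁻¹ * c⁻¹ := by group
          _ = a * c * (d * a⁻¹) * d⁻¹ * c⁻¹ := by rw [hcent2 b hb _ (mul_mem (h1 hc) (h2 hd))]; group
          _ = a * c * a⁻¹ * c⁻¹ := by rw [hcent2 d hd _ (inv_mem (h1 ha))]; group]
      exact hder1 a ha c hc
    · rw [zpowers_le]
      by_contra hzd
      refine hna1 ⟨⟨fun a c => Subtype.ext (by_contra fun hne => hzd ?_)⟩⟩
      have hac := hder1 a a.2 c c.2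
      have hac1 : ⁅(a : G), (c : G)⁆ ≠ 1 := fun h => hne (commutatorElement_eq_one_iff_mul_comm.1 h)
      have hle : ⁅(a : G), (c : G)⁆ ∈ ⁅P, P⁆ := commutator_mem_commutator (h1 a.2) (h1 c.2)
      exact (zpowers_le.2 hle) ((PGroups.zpowers_eq_of_card_eq (by rw [Nat.card_zpowers, hzo]) hac
        hac1) ▸ mem_zpowers z)
  refine ⟨P₁, P₂, z, h1, h2, hmem, hcomm, hc1, hexp, hcyc, ⟨?_, hz2, hzc.1⟩, hzp, hz1, hzcent, hder,
    hcenP, hcent2⟩
  -- `z` lies in `A`
  by_contra hzA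
  have hzn : zpowers z ≤ normalizer (A : Set G) := zpowers_le.2 (mem_normalizer_of_conj fun a ha => by
    rwa [← hzcent a (D.AP ha), mul_inv_cancel_right])
  have hAz : A ⊔ zpowers z ≤ P := sup_le D.AP (zpowers_le.2 (h2 hz2))
  have hel : ∀ c ∈ A ⊔ zpowers z, ∃ a ∈ A, ∃ i : ℤ, c = a * z ^ i := by
    intro c hc
    obtain ⟨a, ha, w, hw, rfl⟩ := BG15.exists_of_mem_sup hzn (sup_comm A (zpowers z) ▸ hc)
    obtain ⟨i, rfl⟩ := mem_zpowers_iff.1 ha
    exact ⟨w, hw, i, (show Commute (z ^ i) w from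
      ((show Commute w z from hzcent w (D.AP hw)).zpow_right i).symm).eq⟩
  have hcardle := hr ((A ⊔ zpowers z).subgroupOf P) ⟨⟨fun c d => Subtype.ext (Subtype.ext ?_)⟩⟩
    fun c hc => Subtype.ext (by
      obtain ⟨a, ha, i, e⟩ := hel _ hc
      replace e : (c : G) = a * z ^ i := e
      rw [SubmonoidClass.coe_pow, e, ((show Commute a z from hzcent a (D.AP ha)).zpow_right i).mul_pow,
        B.elem.2 a ha, ← zpow_natCast, ← zpow_mul, mul_comm i, zpow_mul, zpow_natCast, hzp, one_zpow,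
        one_mul, coe_one])
  · rw [Nat.card_congr (subgroupOfEquivOfLe hAz).toEquiv] at hcardle
    have hlt : A < A ⊔ zpowers z := lt_of_le_of_ne le_sup_left fun h =>
      hzA (h ▸ mem_sup_right (mem_zpowers z))
    exact (Set.Finite.card_lt_card (Set.toFinite _) hlt).not_ge (le_trans hcardle (B.cardA.ge))
  · obtain ⟨a, ha, i, e⟩ := hel _ c.2
    obtain ⟨b, hb, j, e'⟩ := hel _ d.2
    replace e : ((c : P) : G) = a * z ^ i := e
    replace e' : ((d : P) : G) = b * z ^ j := e'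
    show ((c : P) : G) * ((d : P) : G) = ((d : P) : G) * ((c : P) : G)
    rw [e, e']
    have cab : a * b = b * a := PGroups.comm_of_isMulCommutative B.elem.1 ha hb
    have caz : Commute a z := hzcent a (D.AP ha)
    have cbz : Commute b z := hzcent b (D.AP hb)
    exact ((Commute.mul_right cab (caz.zpow_right j)).mul_left
      (Commute.mul_right (cbz.zpow_right i).symm ((Commute.refl z).zpow_zpow i j))).eq

end Cfsg.Agent.OddOrder.PF12
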