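import Cfsg.Agent.OddOrder.PF8.Dade
import Cfsg.Agent.OddOrder.PF6.Induced
import Cfsg.Agent.OddOrder.PF12.Partition
import Cfsg.Agent.S1514
import Cfsg.Agent.S1500
import Cfsg.Agent.S1501
import Cfsg.Agent.S1521
import Cfsg.Agent.Frobenius.Sylow
import Mathlib.GroupTheory.SpecificGroups.ZGroup

/-!
# Peterfalvi (12.6): coherence for a maximal subgroup of Type I which is a Frobenius group

The Dade hypothesis for `A(L)` and Sibley's theorem for a TI kernel (S1524) enter as hypotheses.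
-/

set_option autoImplicit false

open scoped ComplexConjugate

namespace Cfsg.Agent.OddOrder.PF12

open Subgroup
open Cfsg.Agent Cfsg.Agent.CharBasic Cfsg.Agent.OddOrder

universe u

section abstract

variable {L : Type u} [Group L] [Fintype L] (K : Subgroup L) [hK : K.Normal]

omit hK in
theorem irr_real_eq_one (hodd : Odd (Nat.card L)) {θ : K → ℂ} (hθ : Cfsg.IsIrrCharacter K θ)
    (hr : Cfsg.conjFun θ = θ) : θ = fun _ => 1 := by
  classical
  have : Fintype K := Fintype.ofFinite K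
  by_contra hne
  obtain ⟨k, hk, hk'⟩ := even_inner (G := K) (hodd.of_dvd_nat K.card_subgroup_dvd_card)
    (H43.gen_of_irr hθ) (H43.gen_of_irr hθ) hr hr (classInner_irr_of_ne hθ isIrrCharacter_one hne)
  rw [classInner_irr_self hθ] at hk'
  have : k = 1 := by exact_mod_cast hk'.symm
  subst this
  norm_num at hk

/-- Non-principal irreducible characters of a Frobenius kernel have trivial inertia. -/
theorem inertia_le (hF : IsKer K) {θ : K → ℂ} (hθ : Cfsg.IsIrrCharacter K θ)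
    (hne : θ ≠ fun _ => 1) {x : L} (hx : CharInduce.conjFun K θ x = θ) : x ∈ K := by
  obtain ⟨h, hh, h1, hc⟩ := (Cfsg.Agent.S1536.result K (ker_coprime K hF) x).1 ⟨θ, hθ, hne, hx⟩
  exact hF h hh h1 x hc

theorem ind_irr (hF : IsKer K) {θ : K → ℂ} (hθ : Cfsg.IsIrrCharacter K θ) (hne : θ ≠ fun _ => 1) :
    Cfsg.IsIrrCharacter L (Cfsg.indFun K θ) := by
  classical
  have : Fintype K := Fintype.ofFinite K
  refine CharInduce.isIrr_of_norm_one (CharInduce.IsChar.ind K (CharBasic.IsIrr.isCharacter hθ)) ?_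
  rw [classInner_ind]
  have h : ∀ x : L, Cfsg.classInner θ (CharInduce.conjFun K θ x) = if x ∈ K then 1 else 0 := by
    intro x
    rw [classInner_irr hθ (CharInduce.isIrrCharacter_conjFun K hθ x)]
    by_cases hx : x ∈ K
    · rw [if_pos hx, if_pos]
      exact ((CharInduce.mem_inertia K).1
        (CharInduce.le_inertia K (CharBasic.IsIrr.isClassFunction hθ) hx)).symm
    · rw [if_neg hx, if_neg]
      exact fun e => hx (inertia_le K hF hθ hne e.symm)
  simp only [h, Finset.sum_boole]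
  rw [← Fintype.card_subtype, ← Nat.card_eq_fintype_card]
  exact inv_mul_cancel₀ (CharInduce.card_ne_zero_complex _)

theorem conj_ind_ne (hF : IsKer K) (hodd : Odd (Nat.card L)) {θ : K → ℂ}
    (hθ : Cfsg.IsIrrCharacter K θ) (hne : θ ≠ fun _ => 1) :
    Cfsg.conjFun (Cfsg.indFun K θ) ≠ Cfsg.indFun K θ := by
  intro e
  have hc : Cfsg.conjFun (Cfsg.indFun K θ) = Cfsg.indFun K (Cfsg.conjFun θ) :=
    funext fun g => CharInduce.conj_indFun K θ g
  rw [hc] at e
  have : Fintype K := Fintype.ofFinite K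
  obtain ⟨x, hx⟩ := PF6.exists_conj_of_indFun_eq K hθ (CharInduce.IsIrr.conj hθ) e.symm
  have hx2 : CharInduce.conjFun K θ (x * x) = θ := by
    rw [← CharInduce.conjFun_mul, ← hx]
    funext k
    have h : Cfsg.conjFun θ = CharInduce.conjFun K θ x := hx
    have h2 := congrFun h k
    simp only [Cfsg.conjFun, CharInduce.conjFun] at h2 ⊢
    rw [← h2, Complex.conj_conj]
  have hxx := inertia_le K hF hθ hne hx2
  have hxK : x ∈ K := by
    obtain ⟨k, hk⟩ := hodd.of_dvd_nat (orderOf_dvd_natCard x)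
    have : x = (x * x) ^ (k + 1) := by
      rw [← sq, ← pow_mul, show 2 * (k + 1) = orderOf x + 1 by omega, pow_succ,
        pow_orderOf_eq_one, one_mul]
    rw [this]
    exact K.pow_mem hxx _
  refine hne (irr_real_eq_one K hodd hθ ?_)
  exact hx.trans ((CharInduce.mem_inertia K).1
    (CharInduce.le_inertia K (CharBasic.IsIrr.isClassFunction hθ) hxK))

/-- The characters induced from a Frobenius kernel. -/
theorem induced_spec (hF : IsKer K) (hodd : Odd (Nat.card L)) :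
    ∀ χ ∈ Cfsg.inducedIrrAbove K ⊥, Cfsg.IsIrrCharacter L χ ∧
      (Cfsg.conjFun χ ∈ Cfsg.inducedIrrAbove K ⊥ ∧ Cfsg.conjFun χ ≠ χ) ∧
      ∀ x, x ∉ K → χ x = 0 := by
  intro χ hχ
  obtain ⟨θ, hθ, hne, -, rfl⟩ := id hχ
  exact ⟨ind_irr K hF hθ hne, ⟨PF6.inducedIrrAbove_conj K hχ, conj_ind_ne K hF hodd hθ hne⟩,
    fun x hx => CharInduce.indFun_eq_zero_of_normal K θ hx⟩

theorem zspanOn_spec (hF : IsKer K) (hodd : Odd (Nat.card L)) {α : L → ℂ}
    (hα : α ∈ Cfsg.zspanOn (Cfsg.inducedIrrAbove K ⊥) ({1}ᶜ : Set L)) :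
    Cfsg.IsGeneralizedCharacter L α ∧ ∀ x, (x ∉ K ∨ x = 1) → α x = 0 := by
  obtain ⟨h1, h2⟩ := H43.zspanOn_compl_one.mp hα
  have h : Cfsg.IsGeneralizedCharacter L α ∧ ∀ x, x ∉ K → α x = 0 := by
    clear hα h2
    induction h1 using Submodule.span_induction with
    | mem φ hφ =>
      obtain ⟨hi, -, hv⟩ := induced_spec K hF hodd φ hφ
      exact ⟨H43.gen_of_irr hi, hv⟩
    | zero => exact ⟨H43.gen_zero, fun _ _ => rfl⟩
    | add φ ψ _ _ hφ hψ => exact ⟨H43.gen_add hφ.1 hψ.1, fun x hx => by simp [hφ.2 x hx, hψ.2 x hx]⟩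
    | smul n φ _ hφ => exact ⟨H43.gen_zsmul hφ.1 n, fun x hx => by simp [hφ.2 x hx]⟩
  refine ⟨h.1, fun x hx => ?_⟩
  rcases hx with hx | rfl
  · exact h.2 x hx
  · exact h2

theorem index_eq_card_compl {U : Subgroup L} (hc : Subgroup.IsComplement' K U) :
    K.index = Nat.card U := by
  rw [hc.symm.index_eq_card]

theorem exists_irr_ne_one (hK1 : K ≠ ⊥) :
    ∃ θ : K → ℂ, Cfsg.IsIrrCharacter K θ ∧ θ ≠ fun _ => 1 := by
  classical
  have : Fintype K := Fintype.ofFinite K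
  obtain ⟨⟨k, hk⟩, hk1⟩ := (nontrivial_iff_exists_ne (1 : K)).1 ((K.nontrivial_iff_ne_bot).2 hK1)
  obtain ⟨χ, hχ⟩ := CharBasic.exists_irr_ne_of_ne_one hk1
  exact ⟨χ, χ.2, fun e => hχ (by rw [e])⟩

/-- A Frobenius complement of odd order has exponent equal to its order. -/
theorem exponent_eq_index (hF : IsKer K) (hK1 : K ≠ ⊥) (hodd : Odd (Nat.card L)) {U : Subgroup L}
    (hU : U ≠ ⊥) (hc : Subgroup.IsComplement' K U) : Monoid.exponent (L ⧸ K) = K.index := by
  have hfpf : ∀ u ∈ U, u ≠ 1 → ∀ k ∈ K, u * k = k * u → k = 1 := by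
    intro u hu hu1 k hk e
    by_contra hk1
    have : u ∈ K ⊓ U := ⟨hF k hk hk1 u e, hu⟩
    rw [hc.disjoint.eq_bot, mem_bot] at this
    exact hu1 this
  have hcomp := Frobenius.of_fixedPointFree hc hK1 hU hfpf
  have hZ : IsZGroup U := by
    refine ⟨fun p hp P => ?_⟩
    have : Fact p.Prime := ⟨hp⟩
    rcases Frobenius.sylow_cyclic_or_quaternion hcomp p P with h | ⟨rfl, n, ⟨e⟩⟩
    · exact h
    · exfalso
      have h2 : 2 ∣ Nat.card (P : Subgroup U) := by
        rw [Nat.card_congr e.toEquiv, Nat.card_eq_fintype_card, QuaternionGroup.card]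
        exact Dvd.intro _ (by ring : 2 * (2 * 2 ^ n) = 4 * 2 ^ n)
      have := (hodd.of_dvd_nat U.card_subgroup_dvd_card).of_dvd_nat
        (P : Subgroup U).card_subgroup_dvd_card
      exact (Nat.not_even_iff_odd.2 this) (even_iff_two_dvd.2 h2)
  rw [Monoid.exponent_eq_of_mulEquiv (Subgroup.IsComplement'.QuotientMulEquiv hc.symm),
    IsZGroup.exponent_eq_card, index_eq_card_compl K hc]

/-- A Frobenius group stays Frobenius modulo the derived group of its kernel. -/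
theorem frob_mod_derived (hF : IsKer K) {k : L} (hk : k ∈ K) (hk' : k ∉ ⁅K, K⁆) {x : L}
    (hx : x * k * x⁻¹ * k⁻¹ ∈ ⁅K, K⁆) : x ∈ K := by
  by_contra hxK
  have hcop : (Nat.card (Subgroup.zpowers x)).Coprime (Nat.card K) := by
    rw [Nat.card_zpowers]
    refine Nat.coprime_of_dvd fun p hp hd hdK => hxK ?_
    have hne : orderOf x ≠ 0 := (orderOf_pos x).ne'
    set y := x ^ (orderOf x / p) with hy
    have hop : orderOf y = p := orderOf_pow_orderOf_div hne hd
    have hyK : y ∈ K := by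
      by_contra hyK
      have hdiv : orderOf (y : L ⧸ K) ∣ p := hop ▸ orderOf_map_dvd (QuotientGroup.mk' K) y
      rcases (Nat.dvd_prime hp).1 hdiv with h | h
      · exact hyK ((QuotientGroup.eq_one_iff y).1 (orderOf_eq_one_iff.1 h))
      · have h2 : p ∣ K.index := by rw [index_eq_card, ← h]; exact orderOf_dvd_natCard _
        exact hp.one_lt.ne' (Nat.eq_one_of_dvd_coprimes (ker_coprime K hF) hdK h2)
    refine hF y hyK (fun e => ?_) x ((Commute.self_pow x _).eq)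
    rw [e, orderOf_one] at hop
    exact hp.one_lt.ne hop
  have hN : (⁅K, K⁆ : Subgroup L).Normal := inferInstance
  let S : Subgroup L :=
    { carrier := {a | a * k * a⁻¹ * k⁻¹ ∈ ⁅K, K⁆}
      one_mem' := by simp
      mul_mem' := fun {a b} ha hb => by
        have e : a * b * k * (a * b)⁻¹ * k⁻¹ =
            a * (b * k * b⁻¹ * k⁻¹) * a⁻¹ * (a * k * a⁻¹ * k⁻¹) := by group
        show _ ∈ ⁅K, K⁆
        rw [e]
        exact mul_mem (hN.conj_mem _ hb a) ha
      inv_mem' := fun {a} ha => by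
        have e : a⁻¹ * k * a⁻¹⁻¹ * k⁻¹ = a⁻¹ * (a * k * a⁻¹ * k⁻¹)⁻¹ * a⁻¹⁻¹ := by group
        show _ ∈ ⁅K, K⁆
        rw [e]
        exact hN.conj_mem _ (inv_mem ha) a⁻¹ }
  have hS : Subgroup.zpowers x ≤ S := Subgroup.zpowers_le.2 hx
  obtain ⟨c, ⟨hcK, hcC⟩, hc⟩ := Coprime.exists_centralizer_mem_of_comm_mem
    (A := Subgroup.zpowers x) (by rw [normalizer_eq_top]; exact le_top) hcop
    (Or.inl (by infer_instance)) (commutator_le_self K)
    (by rw [normalizer_eq_top]; exact le_top) (by rw [normalizer_eq_top]; exact le_top) hk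
    (fun a ha => hS ha)
  refine hxK (hF c hcK (fun e => hk' ?_) x (mem_centralizer_iff.1 hcC x (Subgroup.mem_zpowers x)))
  rw [e, mul_one, inv_mem_iff] at hc
  exact hc

end abstract

variable {G : Type*} [Group G] [Fintype G]

theorem dade_add (A : Set G) (L : Subgroup G) (H : G → Subgroup G) (α β : L → ℂ) :
    Cfsg.dadeIsometry A L H (α + β) = Cfsg.dadeIsometry A L H α + Cfsg.dadeIsometry A L H β := by
  funext g
  simp only [Cfsg.dadeIsometry, Pi.add_apply]
  split_ifs <;> simp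

theorem dade_zsmul (A : Set G) (L : Subgroup G) (H : G → Subgroup G) (α : L → ℂ) (n : ℤ) :
    Cfsg.dadeIsometry A L H (n • α) = n • Cfsg.dadeIsometry A L H α := by
  funext g
  simp only [Cfsg.dadeIsometry, Pi.smul_apply]
  split_ifs <;> simp

/-- When all `R(a)` are trivial the Dade map is induction. -/
theorem dade_eq_ind {L H : Subgroup G} [Fintype L] (hM : Member L H) {A : Set G}
    (hA : ∀ a, a ∈ A ↔ a ∈ H ∧ a ≠ 1) {R : G → Subgroup G} (hD : Cfsg.DadeHypothesis A L R)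
    (hR : ∀ a ∈ A, R a = ⊥) {α : L → ℂ} (hα : Cfsg.IsClassFunction L α) (hs : SuppSharp H L α) :
    Cfsg.dadeIsometry A L R α = Cfsg.indFun L α := by
  funext g
  by_cases h : ∃ a : L, (a : G) ∈ A ∧ ∃ x : G, ∃ u ∈ R (a : G), x * g * x⁻¹ = (a : G) * u
  · obtain ⟨a, ha, x, u, hu, hx⟩ := h
    rw [H43.dade_apply hD hα ha hu hx]
    rw [hR _ ha, mem_bot] at hu
    rw [hu, mul_one] at hx
    rw [← CharInduce.isClassFunction_indFun L α g x, hx,
      ind_apply_of_supp hM hα hs a ((hA _).1 ha).1 (fun e => ((hA _).1 ha).2 (by rw [e]; rfl))]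
  · rw [H43.dade_apply_zero h, ind_eq_zero_of_supp hs fun y hy => ?_]
    by_contra hg
    refine h ⟨⟨y⁻¹ * g * y, hM.lt.le hy⟩, (hA _).2 ⟨hy, fun e => hg ?_⟩, y⁻¹, 1, one_mem _, by simp⟩
    have : g = y * (y⁻¹ * g * y) * y⁻¹ := by group
    rw [this, show y⁻¹ * g * y = 1 from e, mul_one, mul_inv_cancel]

/-- **Peterfalvi (12.6)**. -/
theorem typeI_frobenius_coherent [IsSimpleGroup G] (hodd : Odd (Nat.card G)) (L : Subgroup G)
    [Fintype L] (hL : IsCoatom L)
    (hD : Cfsg.DadeHypothesis (setA L) L (Cfsg.supportR L))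
    (hsibley : ∀ H W₁ : Subgroup G, H ≤ L → W₁ ≤ L → H ≠ ⊥ → W₁ ≠ ⊥ → Group.IsNilpotent H →
      (∀ x ∈ L, ∀ h ∈ H, x * h * x⁻¹ ∈ H) → H ⊓ W₁ = ⊥ → H ⊔ W₁ = L →
      (∀ w ∈ W₁, w ≠ 1 → ∀ h ∈ H, w * h = h * w → h = 1) → Cfsg.IsTISubset (H : Set G) →
      normalizer (H : Set G) = L →
      Cfsg.IsCoherent (Cfsg.inducedIrrAbove (H.subgroupOf L) ⊥) {1}ᶜ
        (fun α : L → ℂ => Cfsg.indFun L α))
    (hI : IsTypeI L)
    (hfrob : ∀ x ∈ Cfsg.fittingHallOf L, x ≠ 1 →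
      L ⊓ centralizer ({x} : Set G) ≤ Cfsg.fittingHallOf L) :
    (∀ χ ∈ Cfsg.inducedIrrAbove (Cfsg.fittingHall L) ⊥, Cfsg.IsIrrCharacter L χ) ∧
      Cfsg.IsCoherent (Cfsg.inducedIrrAbove (Cfsg.fittingHall L) ⊥) {1}ᶜ
        (Cfsg.dadeIsometry (setA L) L (Cfsg.supportR L)) := by
  classical
  obtain ⟨⟨-, -, hK1, hK2, U, hU1, hUc, -, -⟩, hthree⟩ := id hI
  set K := Cfsg.fittingHall L with hKdef
  set H := Cfsg.fittingHallOf L with hHdef
  have hHK : H.subgroupOf L = K := comap_map_eq_self_of_injective L.subtype_injective K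
  have hHL : H ≤ L := TypeP.core_le L
  have hlt : H < L := lt_of_le_of_ne hHL fun e => hK2 (by rw [← hHK, e, subgroupOf_self])
  have hHne : H ≠ ⊥ := fun e => hK1 ((K.map_eq_bot_iff_of_injective L.subtype_injective).1 e)
  have hnorm : ∀ x ∈ L, ∀ h ∈ H, x * h * x⁻¹ ∈ H := fun x hx h hh =>
    (mem_normalizer_iff.1 (TypeP.le_normalizer_core L hx) h).1 hh
  obtain ⟨⟨h0, hh0⟩, hh01⟩ := (nontrivial_iff_exists_ne (1 : H)).1
    ((nontrivial_iff_ne_bot _).2 hHne)
  have hN : normalizer (H : Set G) = L :=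
    PF8.normalizer_eq_of_subset hL hHL ⟨h0, hh0, fun e => hh01 (Subtype.ext e)⟩ hnorm
  have hmem : ∀ x : L, (x : G) ∈ H ↔ x ∈ K := fun x => by rw [← hHK, mem_subgroupOf]
  have hF : IsKer K := fun h hh h1 x hx => (hmem x).1 (hfrob h ((hmem h).2 hh)
    (fun e => h1 (Subtype.ext e)) ⟨x.2, mem_centralizer_singleton_iff.2 (congrArg Subtype.val hx)⟩)
  have hoddL : Odd (Nat.card L) := hodd.of_dvd_nat L.card_subgroup_dvd_card
  have hA : ∀ a, a ∈ setA L ↔ a ∈ H ∧ a ≠ 1 := by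
    intro a
    rw [setA, if_pos hI]
    exact ⟨fun ⟨haL, ha1, x, hx, hx1, hax⟩ =>
        ⟨hfrob x hx hx1 ⟨haL, mem_centralizer_singleton_iff.2 hax⟩, ha1⟩,
      fun ⟨ha, ha1⟩ => ⟨hHL ha, ha1, a, ha, ha1, rfl⟩⟩
  set τ : (L → ℂ) → (G → ℂ) := Cfsg.dadeIsometry (setA L) L (Cfsg.supportR L) with hτdef
  set S := Cfsg.inducedIrrAbove K ⊥ with hSdef
  have hirr := fun χ hχ => (induced_spec K hF hoddL χ hχ).1
  refine ⟨hirr, ?_⟩
  have hsupp : ∀ α ∈ Cfsg.zspanOn S ({1}ᶜ : Set L), Cfsg.IsGeneralizedCharacter L α ∧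
      SuppSharp H L α ∧ ∀ x : L, (x : G) ∉ setA L → α x = 0 := by
    intro α hα
    obtain ⟨h1, h2⟩ := zspanOn_spec K hF hoddL hα
    refine ⟨h1, fun x hx => h2 x (hx.imp_left fun h hK' => h ((hmem x).2 hK')), fun x hx => ?_⟩
    refine h2 x ?_
    by_cases hxK : x ∈ K
    · exact Or.inr (by_contra fun hne => hx ((hA _).2 ⟨(hmem x).2 hxK, fun e => hne (Subtype.ext e)⟩))
    · exact Or.inl hxK
  have hS0 : S.Nonempty := by
    obtain ⟨θ, hθ, hne⟩ := exists_irr_ne_one K hK1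
    exact ⟨_, θ, hθ, hne, fun a ha => congrArg θ (Subtype.ext (mem_bot.1 ha)), rfl⟩
  have hiso : Cfsg.IsLinearIsometryOn (Cfsg.zspanOn S ({1}ᶜ : Set L)) τ :=
    ⟨fun α _ β _ => dade_add _ _ _ α β, fun α _ n => dade_zsmul _ _ _ α n,
      fun α hα β hβ => (Cfsg.Agent.S1500.result _ L _ hD α
          (H43.gen_isClassFunction (hsupp α hα).1) (hsupp α hα).2.2).1 β
          (H43.gen_isClassFunction (hsupp β hβ).1) (hsupp β hβ).2.2,
      fun α hα => Cfsg.Agent.S1501.result _ L _ hD α (hsupp α hα).1 (hsupp α hα).2.2⟩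
  have hone : ∀ α ∈ Cfsg.zspanOn S ({1}ᶜ : Set L), τ α 1 = 0 := by
    intro α _
    refine H43.dade_apply_zero ?_
    rintro ⟨a, ha, x, u, hu, hx⟩
    have e : (a : G) * u = 1 := by rw [← hx]; group
    have h1 : (a : G) ∈ Cfsg.supportR L (a : G) := by
      have := inv_mem hu; rwa [← eq_inv_of_mul_eq_one_left e] at this
    have h2 : (a : G) ∈ Cfsg.supportR L (a : G) ⊓ (L ⊓ centralizer ({(a : G)} : Set G)) :=
      ⟨h1, a.2, mem_centralizer_singleton_iff.2 rfl⟩
    rw [hD.inf_eq_bot _ ha, mem_bot] at h2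
    exact hD.one_not_mem (h2 ▸ ha)
  obtain ⟨R, hR⟩ := Cfsg.Agent.S1514.result S hS0 hirr
    (fun χ hχ => (induced_spec K hF hoddL χ hχ).2.1) τ hiso hone
  have hnilK : Group.IsNilpotent K := (H41.fittingHall_spec L).2.1
  by_cases hTI : Cfsg.IsTISubset (H : Set G)
  · -- Sibley's theorem
    obtain ⟨⟨α₀, hα₀, hα₀'⟩, τ₁, hτ₁, hagree⟩ := hsibley H (U.map L.subtype) hHL (map_subtype_le _)
      hHne (fun e => hU1 ((U.map_eq_bot_iff_of_injective L.subtype_injective).1 e))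
      (TypeP.core_nilpotent L) hnorm
      (by rw [hHdef, Cfsg.fittingHallOf, ← map_inf _ _ _ L.subtype_injective,
        hUc.disjoint.eq_bot, Subgroup.map_bot])
      (by rw [hHdef, Cfsg.fittingHallOf, ← Subgroup.map_sup, hUc.sup_eq_top,
        ← MonoidHom.range_eq_map, range_subtype])
      (by
        rintro _ ⟨w, hw, rfl⟩ hw1 h hh e
        by_contra h1
        have hwK : w ∈ K ⊓ U := ⟨(hmem w).1 (hfrob h hh h1
          ⟨w.2, mem_centralizer_singleton_iff.2 e⟩), hw⟩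
        rw [hUc.disjoint.eq_bot, mem_bot] at hwK
        exact hw1 (by rw [hwK]; rfl))
      hTI hN
    rw [hHK] at hα₀ hτ₁ hagree
    refine ⟨⟨α₀, hα₀, hα₀'⟩, τ₁, hτ₁, fun α hα => (hagree α hα).trans ?_⟩
    refine (dade_eq_ind ⟨hlt, hHne, hnorm, hfrob, hTI, hN⟩ hA hD (fun a ha => ?_)
      (H43.gen_isClassFunction (hsupp α hα).1) (hsupp α hα).2.1).symm
    refine PF8.supportR_eq_bot fun c hc => ?_
    rw [← hN]
    by_contra hcN
    refine ((hA a).1 ha).2 (hTI c hcN a ((hA a).1 ha).1 ?_)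
    rw [mem_centralizer_singleton_iff.1 hc, mul_inv_cancel_right]
    exact ((hA a).1 ha).1
  -- the other two cases: Feit's criterion
  have hsolv : Group.IsSolvable K := by infer_instance
  have hH₁ : ⁅K, K⁆ ⊔ ⊥ < K := by
    rw [sup_bot_eq]
    have : Nontrivial K := K.nontrivial_iff_ne_bot.2 hK1
    have hlt' := Group.IsSolvable.commutator_lt_top_of_nontrivial (G := K)
    refine lt_of_le_of_ne (commutator_le_self K) fun e => hlt'.ne ?_
    have h2 : (commutator K).map K.subtype = K := by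
      rw [map_subtype_commutator]
      exact e
    exact map_injective K.subtype_injective (h2.trans (by rw [← MonoidHom.range_eq_map, range_subtype]))
  have hfr : ∀ k ∈ K, k ∉ ⁅K, K⁆ ⊔ ⊥ → ∀ x : L, x * k * x⁻¹ * k⁻¹ ∈ ⁅K, K⁆ ⊔ ⊥ → x ∈ K := by
    rw [sup_bot_eq]
    intro k hk hk' x hx
    exact frob_mod_derived K hF hk hk' hx
  have hnilQ : Group.IsNilpotent (K ⧸ (⊥ : Subgroup L).subgroupOf K) := inferInstance
  refine Cfsg.Agent.S1521.result K hsolv τ R hR hoddL ⊥ bot_le hnilQ _ rfl hH₁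
    (lt_top_iff_ne_top.2 hK2) hfr ?_
  rcases hthree with h | ⟨hcomm, -, -⟩ | ⟨hexp, -⟩
  · exact absurd h hTI
  · refine Or.inr (Or.inr (Or.inr (Or.inl ?_)))
    rw [le_bot_iff, ← (Subgroup.map_eq_bot_iff_of_injective _ L.subtype_injective),
      Subgroup.map_commutator]
    exact Subgroup.commutator_eq_bot_iff_le_centralizer.2 (Subgroup.le_centralizer_iff_isMulCommutative.2 hcomm)
  · by_cases hpp : ∃ p m : ℕ, p.Prime ∧ (⊥ : Subgroup L).relIndex K = p ^ m
    · obtain ⟨p, m, hp, hpm⟩ := hpp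
      refine Or.inr (Or.inr (Or.inr (Or.inr ⟨p, m, hp, hpm, ?_⟩)))
      rw [← exponent_eq_index K hF hK1 hoddL hU1 hUc]
      refine hexp p hp ?_
      rw [hHdef, Cfsg.fittingHallOf, Cores.card_map_eq _ L.subtype_injective]
      rw [relIndex_bot_left] at hpm
      have hm : m ≠ 0 := fun h0 => hK1 (card_eq_one.1 (by rw [hpm, h0, pow_zero]))
      rw [hpm]
      exact dvd_pow_self p hm
    · exact Or.inr (Or.inr (Or.inl hpp))

end Cfsg.Agent.OddOrder.PF12
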