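import Cfsg.Agent.OddOrder.PF12.Cases
import Cfsg.Agent.OddOrder.PF8.Supporting
import Cfsg.Agent.OddOrder.BG16.SectionFacts
import Cfsg.Agent.OddOrder.BG15.Decomp
import Cfsg.Agent.OddOrder.BG11.TauTwo
import Cfsg.Agent.S1417
import Cfsg.Agent.S1418
import Cfsg.Agent.S1425

/-!
# Peterfalvi (12.7): the configuration coming from a minimal witness

A witness is a maximal subgroup `L` with empty `κ` and an element `x` of prime order `p` outside `L_σ`
centralising a non-identity element of `L_σ`.  For the least such `p` we get `A ≅ p × p` in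
`L ⊓ M_σ`, for a maximal subgroup `M` with `p ∈ σ(M)`, and the hypotheses of `PF12.Setting`.
-/

set_option autoImplicit false

namespace Cfsg.Agent.OddOrder.PF12

open Subgroup
open Cfsg.Agent Cfsg.Agent.OddOrder

universe u

variable {G : Type u} [Group G] [Finite G]

/-- The facts of the local analysis used in the proof of Peterfalvi (12.7). -/
structure Inputs (G : Type u) [Group G] [Finite G] : Prop where
  hG : Cfsg.IsMinSimpleOddOrder G
  SF : BG16.SectionFacts G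
  LF : PF8.LocalFacts G

/-- A witness against Peterfalvi (12.7). -/
structure IsWitness (p : ℕ) (L : Subgroup G) (x : G) : Prop where
  coatom : IsCoatom L
  kappa : Cfsg.kappa L = ∅
  prime : p.Prime
  pow : x ^ p = 1
  ne : x ≠ 1
  mem : x ∈ L
  not_mem : x ∉ Cfsg.sigmaCore L
  fix : ∃ h ∈ Cfsg.sigmaCore L, h ≠ 1 ∧ Commute h x

/-- The configuration of a minimal witness. -/
structure Base (p : ℕ) (L M A : Subgroup G) (x : G) : Prop where
  prime : p.Prime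
  hL : IsCoatom L
  kappaL : Cfsg.kappa L = ∅
  tau : p ∈ Cfsg.tau2 L
  AL : A ≤ L
  elem : Cfsg.IsElementaryAbelian p A
  cardA : Nat.card A = p ^ 2
  hM : IsCoatom M
  sigmaM : p ∈ Cfsg.sigma M
  AK : A ≤ Cfsg.sigmaCore M
  xA : x ∈ A
  x_ne : x ≠ 1
  x_fix : ∃ h ∈ Cfsg.sigmaCore L,
    Commute h x ∧ h ∉ ⁅Cfsg.sigmaCore L, Cfsg.sigmaCore L⁆
  x_uniq : centralizer ({x} : Set G) ≤ L ∧
    ∀ L' : Subgroup G, IsCoatom L' → centralizer ({x} : Set G) ≤ L' → L' = L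
  min : ∀ r < p, ∀ (L' : Subgroup G) (y : G), ¬ IsWitness r L' y

variable (I : Inputs G)
include I

/-- Outside `L_σ`, an element centralising an element of `L_σ#` is a `τ₂`-element with centraliser in
`L` alone. -/
theorem Inputs.outside {L : Subgroup G} (hL : IsCoatom L) (hκ : Cfsg.kappa L = ∅) {h y : G}
    (hh : h ∈ Cfsg.sigmaCore L) (hh1 : h ≠ 1) (hy : y ∈ L) (hy1 : y ≠ 1) (hc : Commute h y)
    (hσ : ∀ q : ℕ, q.Prime → q ∣ orderOf y → q ∉ Cfsg.sigma L) :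
    (∀ q : ℕ, q.Prime → q ∣ orderOf y → q ∈ Cfsg.tau2 L) ∧ centralizer ({y} : Set G) ≤ L ∧
      ∀ L' : Subgroup G, IsCoatom L' → centralizer ({y} : Set G) ≤ L' → L' = L := by
  rcases I.SF.s1432 L hL h hh hh1 y ⟨hy, mem_centralizer_singleton_iff.2 hc.eq.symm⟩ hy1 hσ with
    ⟨h1, -⟩ | ⟨h1, -, h2⟩
  · obtain ⟨q, hq, hd⟩ := Nat.exists_prime_and_dvd (mt orderOf_eq_one_iff.1 hy1)
    exact ((hκ ▸ h1 q hq hd : q ∈ (∅ : Set ℕ))).elim
  · exact ⟨h1, h2⟩

theorem Inputs.witness_not_sigma {p : ℕ} {L : Subgroup G} {x : G} (W : IsWitness p L x) :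
    p ∉ Cfsg.sigma L := fun h => W.not_mem (BG15.mem_sigmaCore I.hG W.coatom W.mem fun q hq hd => by
  have : Fact p.Prime := ⟨W.prime⟩
  rw [orderOf_eq_prime W.pow W.ne, Nat.prime_dvd_prime_iff_eq hq W.prime] at hd
  exact hd ▸ h)

theorem Inputs.witness_spec {p : ℕ} {L : Subgroup G} {x : G} (W : IsWitness p L x) :
    p ∈ Cfsg.tau2 L ∧ centralizer ({x} : Set G) ≤ L ∧
      ∀ L' : Subgroup G, IsCoatom L' → centralizer ({x} : Set G) ≤ L' → L' = L := by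
  have : Fact p.Prime := ⟨W.prime⟩
  obtain ⟨h, hh, hh1, hc⟩ := W.fix
  have ho := orderOf_eq_prime W.pow W.ne
  obtain ⟨h1, h2⟩ := I.outside W.coatom W.kappa hh hh1 W.mem W.ne hc fun q hq hd => by
    rw [ho, Nat.prime_dvd_prime_iff_eq hq W.prime] at hd
    exact hd ▸ I.witness_not_sigma W
  exact ⟨h1 p W.prime (ho ▸ dvd_rfl), h2⟩

/-- From a witness of least prime to the configuration. -/
theorem Inputs.exists_base {p : ℕ} {L : Subgroup G} {x₀ : G} (W : IsWitness p L x₀)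
    (hmin : ∀ r < p, ∀ (L' : Subgroup G) (y : G), ¬ IsWitness r L' y) :
    ∃ (M A : Subgroup G) (x : G), Base p L M A x := by
  have : Fact p.Prime := ⟨W.prime⟩
  obtain ⟨hτ, -⟩ := I.witness_spec W
  obtain ⟨A, hAL, hA, hA2⟩ := BG11.exists_elemAb_sq hτ.2.2.2
  obtain ⟨hnil, -, -, hfix, -⟩ := Cfsg.Agent.S1417.result I.hG L W.coatom p hτ A ⟨hAL, hA, hA2⟩
  set H := Cfsg.sigmaCore L
  have hH1 : H ≠ ⊥ := fun h => by
    obtain ⟨h₀, hh, hh1, -⟩ := W.fix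
    exact hh1 (Subgroup.mem_bot.1 (h ▸ hh))
  have hder : ⁅H, H⁆ ≠ H := fun h => by
    have : Group.IsSolvable ↥H := BG15.solvable I.hG W.coatom |> fun hs =>
      Coprime.isSolvable_of_le (sigmaCore_le L) hs
    have : Nontrivial ↥H := (nontrivial_iff_ne_bot H).2 hH1
    refine (Group.IsSolvable.commutator_lt_top_of_nontrivial ↥H).ne ?_
    apply Subgroup.map_injective H.subtype_injective
    rw [Subgroup.map_subtype_commutator, h, ← MonoidHom.range_eq_map, Subgroup.range_subtype]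
  have := hA.1
  have hAc : ¬ IsCyclic A := fun hc => by
    have h1 : Monoid.exponent A ∣ p := Monoid.exponent_dvd_of_forall_pow_eq_one fun a =>
      Subtype.ext (hA.2 a a.2)
    rw [IsCyclic.exponent_eq_card, hA2] at h1
    have h2 := Nat.le_of_dvd W.prime.pos h1
    have := W.prime.two_le
    nlinarith
  have hcop : (Nat.card A).Coprime (Nat.card H) := by
    rw [hA2]
    exact Nat.Coprime.pow_left 2 ((Nat.Prime.coprime_iff_not_dvd W.prime).2 fun hd =>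
      hτ.2.1 (sigmaCore_isPiNumber L p W.prime hd))
  obtain ⟨x, hxA, hx1, hx⟩ : ∃ a ∈ A, a ≠ 1 ∧ ¬ H ⊓ centralizer ({a} : Set G) ≤ ⁅H, H⁆ := by
    by_contra hall
    push Not at hall
    exact hder (le_antisymm (Subgroup.commutator_le_self H) (Coprime.le_of_centralizer_noncyclic_le
      hAc (hAL.trans (le_normalizer_sigmaCore L)) hcop hall))
  obtain ⟨h, ⟨hh, hhc⟩, hhd⟩ := SetLike.not_le_iff_exists.1 hx
  have hxW : IsWitness p L x := by
    refine ⟨W.coatom, W.kappa, W.prime, hA.2 x hxA, hx1, hAL hxA, fun hm => hx1 ?_,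
      h, hh, fun h1 => hhd (h1 ▸ one_mem _), (mem_centralizer_singleton_iff.1 hhc)⟩
    have hm' : x ∈ A ⊓ H := ⟨hxA, hm⟩
    rwa [Coprime.inf_eq_bot hcop, mem_bot] at hm'
  obtain ⟨-, hxu⟩ := I.witness_spec hxW
  obtain ⟨M₀, hM₀, hp₀⟩ := I.SF.s1378.1 p W.prime
    ((dvd_pow_self p two_ne_zero).trans (hA2 ▸ Subgroup.card_subgroup_dvd_card A))
  obtain ⟨g, hg⟩ := Cfsg.Agent.S1425.result I.hG M₀ hM₀ A (fun e => by
      rw [e, card_bot] at hA2
      have := W.prime.two_le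
      nlinarith) fun q hq hd => by
    rw [hA2] at hd
    exact (Nat.prime_dvd_prime_iff_eq hq W.prime).1 (hq.dvd_of_dvd_pow hd) ▸ hp₀
  refine ⟨M₀.map (MulAut.conj g⁻¹).toMonoidHom, A, x, W.prime, W.coatom, W.kappa, hτ, hAL, hA, hA2,
    isCoatom_map _ hM₀, by rwa [sigma_map], ?_, hxA, hx1,
    ⟨h, hh, mem_centralizer_singleton_iff.1 hhc, hhd⟩, hxu, hmin⟩
  rw [← sigmaCore_map (MulAut.conj g⁻¹)]
  have := Subgroup.map_mono (f := (MulAut.conj g⁻¹).toMonoidHom) hg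
  rwa [Coprime.map_conj_map_conj, inv_mul_cancel, Coprime.map_conj_one] at this

omit I

variable {p : ℕ} {L M A : Subgroup G} {x : G} (B : Base p L M A x)
include B

theorem Base.xK : x ∈ Cfsg.sigmaCore M := B.AK B.xA

theorem Base.x_pow : x ^ p = 1 := B.elem.2 x B.xA

theorem Base.not_sigmaL : p ∉ Cfsg.sigma L := B.tau.2.1

theorem Base.ne : M ≠ L := fun h => B.not_sigmaL (h ▸ B.sigmaM)

theorem Base.not_le : ¬ centralizer ({x} : Set G) ≤ M := fun h => B.ne (B.x_uniq.2 M B.hM h)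

include I

/-- `σ(L)` and `σ(M)` are disjoint. -/
theorem Base.sigma_disj {q : ℕ} (hqL : q ∈ Cfsg.sigma L) : q ∉ Cfsg.sigma M := fun hqM => by
  obtain ⟨g, hg⟩ := I.LF.sigma_conj L M B.hL B.hM ⟨q, hqL, hqM⟩
  have := B.sigmaM
  rw [hg, sigma_map] at this
  exact B.not_sigmaL this

/-- The supporting subgroup of `x` is `L`. -/
theorem Base.support_L : Cfsg.sigmaCore L = Cfsg.fittingHallOf L ∧
    Cfsg.IsComplIn (M ⊓ L) (Cfsg.sigmaCore L) L := by
  obtain ⟨N, ⟨hN, hxN⟩, -, h1, -, -, h4, -⟩ := I.SF.s1375 M B.hM x B.xK B.x_ne B.not_le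
  rw [B.x_uniq.2 N hN hxN] at h1 h4
  exact ⟨h1, h4⟩

theorem Base.A_le_ML : A ≤ M ⊓ L := le_inf (B.AK.trans (sigmaCore_le M)) B.AL

theorem Base.A_le_UK : A ≤ L ⊓ Cfsg.sigmaCore M := le_inf B.AL B.AK

theorem Base.ML_spec : M ⊓ L ≤ normalizer (A : Set G) ∧
    ∀ X : Subgroup G, X ≤ M ⊓ L → Nat.card X = p → X ≤ A := by
  have : Fact p.Prime := ⟨B.prime⟩
  exact (Cfsg.Agent.S1418.result I.hG L B.hL (M ⊓ L) (B.support_L I).2 p B.tau A
    ⟨B.A_le_ML I, B.elem, B.cardA⟩).1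

theorem Base.H_nilpotent : Group.IsNilpotent (Cfsg.sigmaCore L) := by
  have : Fact p.Prime := ⟨B.prime⟩
  exact (Cfsg.Agent.S1417.result I.hG L B.hL p B.tau A ⟨B.AL, B.elem, B.cardA⟩).1

theorem Base.fix_bot : Cfsg.sigmaCore L ⊓ centralizer (A : Set G) = ⊥ := by
  have : Fact p.Prime := ⟨B.prime⟩
  exact (Cfsg.Agent.S1417.result I.hG L B.hL p B.tau A ⟨B.AL, B.elem, B.cardA⟩).2.2.2.1

/-- Primes of `M ⊓ L` are outside `σ(L)`. -/
theorem Base.not_sigma_ML {q : ℕ} (hq : q.Prime) (hd : q ∣ Nat.card ↥(M ⊓ L)) : q ∉ Cfsg.sigma L :=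
  ((BG15.sigma'_of_compl I.hG B.hL (B.support_L I).2).2.1 q hq hd).2

theorem Base.coprime : (Nat.card (Cfsg.sigmaCore L)).Coprime (Nat.card ↥(M ⊓ L)) :=
  Nat.coprime_of_dvd fun q hq h1 h2 => B.not_sigma_ML I hq h2 (sigmaCore_isPiNumber L q hq h1)

theorem Base.supportR_eq {y : G} (hy : y ∈ Cfsg.sigmaCore M) (hy1 : y ≠ 1)
    (hyL : centralizer ({y} : Set G) ≤ L) (hyM : ¬ centralizer ({y} : Set G) ≤ M) :
    Cfsg.supportR M y = Cfsg.sigmaCore L ⊓ centralizer ({y} : Set G) := by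
  obtain ⟨N, hN, hu, -⟩ := I.SF.s1375 M B.hM y hy hy1 hyM
  rw [(B.support_L I).1]
  exact PF8.supportR_eq hyM B.hL hyL ⟨N, hN, fun L' h => hu L' h.1 h.2⟩

/-- Elements of `L ⊓ M_σ` commuting with `r ∈ L_σ#` have support `L`. -/
theorem Base.RM_mem {y : G} (hy : y ∈ L ⊓ Cfsg.sigmaCore M) (hy1 : y ≠ 1) {r : G}
    (hr : r ∈ Cfsg.sigmaCore L) (hc : Commute r y) : r ∈ Cfsg.supportR M y := by
  rcases eq_or_ne r 1 with rfl | hr1
  · exact one_mem _
  obtain ⟨-, hyL, hu⟩ := I.outside B.hL B.kappaL hr hr1 hy.1 hy1 hc fun q hq hd hqL =>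
    B.sigma_disj I hqL (PF8.prime_mem_sigma hy.2 hq hd)
  rw [B.supportR_eq I hy.2 hy1 hyL fun h => B.ne (hu M B.hM h)]
  exact ⟨hr, mem_centralizer_singleton_iff.2 hc.eq⟩

theorem Base.RM_x : Cfsg.supportR M x ≤ Cfsg.sigmaCore L := by
  rw [B.supportR_eq I B.xK B.x_ne B.x_uniq.1 B.not_le]
  exact inf_le_left

theorem Base.typeI_L : IsTypeI L := (I.LF.typeI_iff L B.hL).2 B.kappaL

theorem Base.H_sub {h : G} (hh : h ∈ Cfsg.sigmaCore L) (h1 : h ≠ 1) : h ∈ setA L := by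
  rw [setA, if_pos (B.typeI_L I)]
  rw [(B.support_L I).1] at hh
  exact ⟨BG15.fittingHallOf_le L hh, h1, h, hh, h1, rfl⟩

theorem Base.memAL {g : G} (hg : g ∈ L) (hgH : g ∉ Cfsg.sigmaCore L) {h : G}
    (hh : h ∈ Cfsg.sigmaCore L) (h1 : h ≠ 1) (hc : Commute h g) : g ∈ setA L := by
  rw [setA, if_pos (B.typeI_L I)]
  rw [(B.support_L I).1] at hh
  exact ⟨hg, fun e => hgH (e ▸ one_mem _), h, hh, h1, hc.eq.symm⟩

theorem Base.RL_bot {g : G} (hg : g ∈ setA L) (hgH : g ∉ Cfsg.sigmaCore L) :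
    Cfsg.supportR L g = ⊥ := by
  by_cases h : centralizer ({g} : Set G) ≤ L
  · exact PF8.supportR_eq_bot h
  · exact absurd ((PF8.mem_typeA1_iff I.LF B.hL).1
      ((I.LF.support L B.hL).unique g (PF8.typeA_subset_typeA0 L hg) h).1).1 hgH

theorem Base.dadeL : Cfsg.DadeHypothesis (setA L) L (Cfsg.supportR L) :=
  PF8.dadeHypothesis (I.LF.support L B.hL) (PF8.typeA_subset_typeA0 L)
    fun _ hm _ ha => PF8.conj_mem_typeA hm ha

theorem Base.dadeM :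
    Cfsg.DadeHypothesis ((Cfsg.sigmaCore M : Set G) \ {1}) M (Cfsg.supportR M) := by
  have e : (Cfsg.sigmaCore M : Set G) \ {1} = Cfsg.typeA1 M := by
    ext a
    exact (PF8.mem_typeA1_iff I.LF B.hM).symm
  rw [e]
  exact PF8.dadeHypothesis (I.LF.support M B.hM)
    (PF8.typeA1_subset_typeA0 (I.LF.core_le_derived M B.hM))
    fun _ hm _ ha => PF8.conj_mem_typeA1 hm ha

theorem Base.disj :
    Disjoint (H43.dadeSupp ((Cfsg.sigmaCore M : Set G) \ {1}) (Cfsg.supportR M))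
      (H43.dadeSupp ((Cfsg.sigmaCore L : Set G) \ {1}) (Cfsg.supportR L)) := by
  rw [Set.disjoint_left]
  rintro z ⟨a, ha, r, hr, y, hy⟩ ⟨a', ha', r', hr', y', hy'⟩
  have h := I.LF.tilde_disjoint M L B.hM B.hL fun g hg => B.not_sigmaL (by
    rw [hg, sigma_map]
    exact B.sigmaM)
  refine (Set.eq_empty_iff_forall_notMem.1 h z) ⟨⟨a, ha, r, hr, y⁻¹, ?_⟩, a', ha', r', hr', y'⁻¹, ?_⟩
  · rw [← hy]; group
  · rw [← hy']; group

/-- No proper invariant subgroup of `L_σ` has all of `A` acting trivially above it. -/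
theorem Base.no_fix {H₁ : Subgroup G} (hle : H₁ ≤ Cfsg.sigmaCore L) (hne : H₁ ≠ Cfsg.sigmaCore L)
    (hn : Cfsg.sigmaCore L ≤ normalizer (H₁ : Set G))
    (hU : L ⊓ Cfsg.sigmaCore M ≤ normalizer (H₁ : Set G)) :
    ∃ a ∈ L ⊓ Cfsg.sigmaCore M, a ^ p = 1 ∧
      ∃ h ∈ Cfsg.sigmaCore L, a * h * a⁻¹ * h⁻¹ ∉ H₁ := by
  by_contra hcon
  push Not at hcon
  refine hne (le_antisymm hle ?_)
  set H := Cfsg.sigmaCore L
  have hAn : A ≤ normalizer (H : Set G) := B.AL.trans (le_normalizer_sigmaCore L)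
  have hs : Group.IsSolvable ↥H := Coprime.isSolvable_of_le (sigmaCore_le L) (BG15.solvable I.hG B.hL)
  intro h hh
  have hmem := (Coprime.centralizer_sup_eq (A := A) (K := H) hAn
    ((B.coprime I).symm.coprime_dvd_left (card_dvd_of_le (B.A_le_ML I))) (Or.inr hs) hle hn
    ((B.A_le_UK I).trans hU) hh).1 fun a ha => hcon a (B.A_le_UK I ha) (B.elem.2 a ha) h hh
  rwa [B.fix_bot I, bot_sup_eq] at hmem

/-- The hypotheses of the character argument. -/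
theorem Base.setting {N : Subgroup G}
    (hab : ∀ a ∈ L ⊓ Cfsg.sigmaCore M, ∀ b ∈ L ⊓ Cfsg.sigmaCore M, a * b = b * a)
    (NK : N ≤ Cfsg.sigmaCore M) (Nn : M ≤ normalizer (N : Set G))
    (Nab : ∀ a ∈ Cfsg.sigmaCore M, ∀ b ∈ Cfsg.sigmaCore M, a * b * a⁻¹ * b⁻¹ ∈ N)
    (free : ∀ b ∈ M, b ∉ Cfsg.sigmaCore M → ∀ k ∈ Cfsg.sigmaCore M, b * k * b⁻¹ * k⁻¹ ∈ N → k ∈ N)
    (e_ge : 3 ≤ (Cfsg.sigmaCore M).relIndex M) (e_le : 2 * (Cfsg.sigmaCore M).relIndex M ≤ p + 1)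
    (idx : p ^ 2 ≤ N.relIndex (Cfsg.sigmaCore M)) :
    Setting p L M (Cfsg.sigmaCore L) (Cfsg.sigmaCore M) N (setA L) (Cfsg.supportR L)
      (Cfsg.supportR M) x where
  prime := B.prime
  odd := I.hG.1
  dadeM := B.dadeM I
  dadeL := B.dadeL I
  H_sub h hh h1 := B.H_sub I hh h1
  memAL g hg hgH h hh h1 hc := B.memAL I hg hgH hh h1 hc
  RL_bot g hg hgH := B.RL_bot I hg hgH
  RM_mem y hy hy1 r hr hc := B.RM_mem I hy hy1 hr hc
  RM_x := B.RM_x I
  disj := B.disj I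
  KM := sigmaCore_le M
  Kn := le_normalizer_sigmaCore M
  HL := sigmaCore_le L
  Hn := le_normalizer_sigmaCore L
  compl_inf := by rw [inf_comm]; exact (B.support_L I).2.2.2.1
  compl_mul g hg := by
    obtain ⟨u, hu, h, hh, rfl⟩ := (B.support_L I).2.2.2.2 g hg
    exact ⟨u * h * u⁻¹, Coprime.conj_mem (le_normalizer_sigmaCore L hu.2) hh, u, hu, by group⟩
  cop := B.coprime I
  UK_comm := hab
  x_mem := ⟨B.AL B.xA, B.xK⟩
  x_pow := B.x_pow
  x_ne := B.x_ne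
  x_cent := B.x_uniq.1
  x_fix := B.x_fix
  no_fix _ h1 h2 h3 h4 := B.no_fix I h1 h2 h3 h4
  NK := NK
  Nn := Nn
  Nab := Nab
  free := free
  e_ge := e_ge
  e_le := e_le
  idx := idx

end Cfsg.Agent.OddOrder.PF12
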